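import Groth.Agent.VBCurve.K709.KerDesc
import Groth.Agent.PerfC.RelFlat
import Groth.Agent.FormalB.BCExact
import Groth.Agent.PerfA.QCohExt
import Groth.Agent.FormalA.PullbackQC
import Mathlib.Algebra.Homology.ShortComplex.ShortExact

/-!
# Degeneration of an extension to the direct sum

`fam p r S c`: for a short exact sequence `S : 0 ⟶ A ⟶ E ⟶ B ⟶ 0` on `Y`, `p : W ⟶ Y` flat, `r : W ⟶ T` and a
function `c` on `T`, the pull back of `p^* S` along multiplication by `c` on `p^* B`.
On base changes on which `c` is invertible it is `E`, where `c = 0` it is `A ⊞ B`.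
-/

set_option autoImplicit false
set_option linter.unusedSectionVars false
set_option linter.unusedVariables false

universe u v w

open CategoryTheory CategoryTheory.Limits AlgebraicGeometry

namespace K53.Degen

section Abstract

variable {C : Type w} [Category.{v} C] [Abelian C]

/-- The pull-back of a sequence. -/
noncomputable def pb (S : ShortComplex C) (c : S.X₃ ⟶ S.X₃) : ShortComplex C :=
  ShortComplex.mk (pullback.lift S.f 0 (by rw [S.zero, zero_comp]) : S.X₁ ⟶ pullback S.g c)
    (pullback.snd S.g c) (pullback.lift_snd _ _ _)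

theorem exists_lift {S : ShortComplex C} (hS : S.ShortExact) (c : S.X₃ ⟶ S.X₃) {A : C}
    (k : A ⟶ pullback S.g c) (hk : k ≫ pullback.snd S.g c = 0) :
    ∃ l : A ⟶ S.X₁, l ≫ (pullback.lift S.f 0 (by rw [S.zero, zero_comp]) : S.X₁ ⟶ pullback S.g c) = k := by
  have hf : Mono S.f := hS.mono_f
  have h4 : (k ≫ pullback.fst S.g c) ≫ S.g = 0 := by
    rw [Category.assoc, pullback.condition, reassoc_of% hk, zero_comp]
  refine ⟨hS.exact.lift (k ≫ pullback.fst S.g c) h4, ?_⟩
  apply pullback.hom_ext
  · rw [Category.assoc, pullback.lift_fst]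
    exact hS.exact.lift_f _ _
  · rw [Category.assoc, pullback.lift_snd, comp_zero, hk]

theorem pb_shortExact {S : ShortComplex C} (hS : S.ShortExact) (c : S.X₃ ⟶ S.X₃) : (pb S c).ShortExact := by
  have hf : Mono S.f := hS.mono_f
  have hg : Epi S.g := hS.epi_g
  have h1 : Mono (pb S c).f := by
    have h0 : (pb S c).f ≫ (show (pb S c).X₂ ⟶ S.X₂ from pullback.fst S.g c) = S.f := pullback.lift_fst _ _ _
    have h2 : Mono ((pb S c).f ≫ (show (pb S c).X₂ ⟶ S.X₂ from pullback.fst S.g c)) := by
      rw [h0]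
      exact hf
    exact mono_of_mono _ (show (pb S c).X₂ ⟶ S.X₂ from pullback.fst S.g c)
  have h3 : Epi (pb S c).g := inferInstanceAs (Epi (pullback.snd S.g c))
  refine { exact := ?_, mono_f := h1, epi_g := h3 }
  exact ShortComplex.exact_of_f_is_kernel _ (KernelFork.IsLimit.ofι' _ _ fun {A} k hk =>
    ⟨(exists_lift hS c k hk).choose, (exists_lift hS c k hk).choose_spec⟩)

/-- The morphism of sequences. -/
noncomputable def pbHom (S : ShortComplex C) (c : S.X₃ ⟶ S.X₃) : pb S c ⟶ S where
  τ₁ := 𝟙 _
  τ₂ := pullback.fst S.g c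
  τ₃ := c
  comm₁₂ := (Category.id_comp S.f).trans (pullback.lift_fst _ _ _).symm
  comm₂₃ := pullback.condition

theorem split_of_zero {S S' : ShortComplex C} (φ : S' ⟶ S) (hS' : S'.ShortExact) (hS : S.ShortExact)
    [IsIso φ.τ₁] (h : φ.τ₃ = 0) : Nonempty (S'.X₂ ≅ S'.X₁ ⊞ S'.X₃) := by
  have hf : Mono S.f := hS.mono_f
  have h1 : φ.τ₂ ≫ S.g = 0 := by rw [φ.comm₂₃, h, comp_zero]
  let l := hS.exact.lift φ.τ₂ h1
  have hl : l ≫ S.f = φ.τ₂ := hS.exact.lift_f _ _
  have h2 : S'.f ≫ l ≫ inv φ.τ₁ = 𝟙 _ := by
    rw [← Category.assoc, IsIso.comp_inv_eq, Category.id_comp, ← cancel_mono S.f, Category.assoc, hl,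
      φ.comm₁₂]
  exact ⟨(ShortComplex.Splitting.ofExactOfRetraction S' hS'.exact _ h2 hS'.epi_g).isoBinaryBiproduct⟩

theorem iso_of_isIso {S S' : ShortComplex C} (φ : S' ⟶ S) (hS' : S'.ShortExact) (hS : S.ShortExact)
    [IsIso φ.τ₁] [IsIso φ.τ₃] : IsIso φ.τ₂ :=
  ShortComplex.isIso₂_of_shortExact_of_isIso₁₃ φ hS' hS

end Abstract

open Groth.Agent Groth.Agent.LoccohB.HHmap Groth.Agent.LoccohB.GlueHom

variable {Y W T : Scheme.{u}} (p : W ⟶ Y) (r : W ⟶ T) (S : ShortComplex Y.Modules) (c : Γ(T, ⊤))

/-- The sequence of the degeneration. -/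
noncomputable def famSeq : ShortComplex W.Modules :=
  pb (S.map (Scheme.Modules.pullback p)) (smulHom _ (r.appTop c))

/-- The degeneration. -/
noncomputable def fam : W.Modules := (famSeq p r S c).X₂

theorem map_pullback_shortExact [Flat p] {S : ShortComplex Y.Modules} (hS : S.ShortExact) :
    (S.map (Scheme.Modules.pullback p)).ShortExact := by
  have hf : Mono S.f := hS.mono_f
  have hg : Epi S.g := hS.epi_g
  exact hS.map_of_exact (Scheme.Modules.pullback p)

theorem famSeq_shortExact [Flat p] {S : ShortComplex Y.Modules} (hS : S.ShortExact) :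
    (famSeq p r S c).ShortExact := pb_shortExact (map_pullback_shortExact p hS) _

/-- The degeneration is coherent. -/
theorem isCoh_fam [Flat p] [IsLocallyNoetherian W] {S : ShortComplex Y.Modules} (hS : S.ShortExact)
    (h₁ : Coh.IsCoh S.X₁) (h₃ : Coh.IsCoh S.X₃) : Coh.IsCoh (fam p r S c) :=
  PerfA.QCohExt.isCoh_ext (famSeq_shortExact p r c hS) (FormalA.PullbackQC.isCoh_pullback p _ h₁)
    (FormalA.PullbackQC.isCoh_pullback p _ h₃)

/-- The degeneration is flat. -/
theorem isFlatOver_fam [Flat p] {S : ShortComplex Y.Modules} (hS : S.ShortExact)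
    (h₁ : FlatMod.IsFlatOver r ((Scheme.Modules.pullback p).obj S.X₁))
    (h₃ : FlatMod.IsFlatOver r ((Scheme.Modules.pullback p).obj S.X₃)) : FlatMod.IsFlatOver r (fam p r S c) :=
  fun x => PerfC.RelFlat.isFlatOverAt_of_shortExact r (famSeq p r S c) (famSeq_shortExact p r c hS) x (h₁ x) (h₃ x)

variable {W' T' : Scheme.{u}} {p' : W' ⟶ W} {r' : W' ⟶ T'} {τ : T' ⟶ T}

include r' in
theorem map_famSeq_shortExact [Flat p] {S : ShortComplex Y.Modules} (H : IsPullback p' r' r τ)
    (hS : S.ShortExact) (h₃ : FlatMod.IsFlatOver r ((Scheme.Modules.pullback p).obj S.X₃)) :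
    ((famSeq p r S c).map (Scheme.Modules.pullback p')).ShortExact := by
  have h := famSeq_shortExact p r c hS
  have hm := PerfC.RelFlat.mono_pullback_map H _ h h₃
  have he : Epi (famSeq p r S c).g := h.epi_g
  exact { exact := (h.exact.map_of_epi_of_preservesCokernel (Scheme.Modules.pullback p') he inferInstance)
          mono_f := hm
          epi_g := inferInstanceAs (Epi ((Scheme.Modules.pullback p').map (famSeq p r S c).g)) }

/-- The comparison on the base change. -/
noncomputable def famHom : (famSeq p r S c).map (Scheme.Modules.pullback p') ⟶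
    (S.map (Scheme.Modules.pullback p)).map (Scheme.Modules.pullback p') :=
  (Scheme.Modules.pullback p').mapShortComplex.map (pbHom (S.map (Scheme.Modules.pullback p))
    (smulHom _ (r.appTop c)))

theorem isIso_famHom_τ₁ : IsIso (famHom p r S c (p' := p')).τ₁ :=
  inferInstanceAs (IsIso ((Scheme.Modules.pullback p').map (𝟙 ((S.map (Scheme.Modules.pullback p)).X₁))))

theorem famHom_τ₃ : (famHom p r S c (p' := p')).τ₃ =
    smulHom ((Scheme.Modules.pullback p').obj ((Scheme.Modules.pullback p).obj S.X₃)) (p'.appTop (r.appTop c)) :=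
  K709.KerDesc.pullback_map_smulHom p' _ _

theorem isIso_smulHom {X : Scheme.{u}} (F : X.Modules) {a : Γ(X, ⊤)} (ha : IsUnit a) : IsIso (smulHom F a) := by
  obtain ⟨b, hb⟩ := ha.exists_right_inv
  refine ⟨smulHom F b, ?_, ?_⟩
  · rw [← K709.KerDesc.smulHom_mul, mul_comm, hb, K709.KerDesc.smulHom_one]
  · rw [← K709.KerDesc.smulHom_mul, hb, K709.KerDesc.smulHom_one]

/-- Where the function vanishes the degeneration is the direct sum. -/
theorem nonempty_fibre_zero [Flat p] {S : ShortComplex Y.Modules} (H : IsPullback p' r' r τ)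
    (hS : S.ShortExact) (h₃ : FlatMod.IsFlatOver r ((Scheme.Modules.pullback p).obj S.X₃))
    (hc : τ.appTop c = 0) :
    Nonempty ((Scheme.Modules.pullback p').obj (fam p r S c) ≅
      (Scheme.Modules.pullback p').obj ((Scheme.Modules.pullback p).obj S.X₁) ⊞
        (Scheme.Modules.pullback p').obj ((Scheme.Modules.pullback p).obj S.X₃)) := by
  have h1 := map_famSeq_shortExact p r c H hS h₃
  have h2 : ((S.map (Scheme.Modules.pullback p)).map (Scheme.Modules.pullback p')).ShortExact := by
    have h := map_pullback_shortExact p hS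
    have hm := PerfC.RelFlat.mono_pullback_map H _ h h₃
    have he : Epi (S.map (Scheme.Modules.pullback p)).g := h.epi_g
    exact { exact := (h.exact.map_of_epi_of_preservesCokernel (Scheme.Modules.pullback p') he inferInstance)
            mono_f := hm
            epi_g := inferInstanceAs (Epi ((Scheme.Modules.pullback p').map (S.map (Scheme.Modules.pullback p)).g)) }
  have h3 : p'.appTop (r.appTop c) = 0 := by
    have h4 : (p' ≫ r).appTop c = (r' ≫ τ).appTop c := by rw [H.w]
    change p'.appTop (r.appTop c) = r'.appTop (τ.appTop c) at h4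
    rw [h4, hc, map_zero]
  have h5 : IsIso (famHom p r S c (p' := p')).τ₁ := isIso_famHom_τ₁ p r S c
  refine split_of_zero (famHom p r S c (p' := p')) h1 h2 ?_
  rw [famHom_τ₃, h3, K709.KerDesc.smulHom_zero]
  rfl

/-- Where the function is invertible the degeneration is the given module. -/
theorem nonempty_fibre_unit [Flat p] {S : ShortComplex Y.Modules} (H : IsPullback p' r' r τ)
    (hS : S.ShortExact) (h₃ : FlatMod.IsFlatOver r ((Scheme.Modules.pullback p).obj S.X₃))
    (hc : IsUnit (τ.appTop c)) :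
    Nonempty ((Scheme.Modules.pullback p').obj (fam p r S c) ≅
      (Scheme.Modules.pullback p').obj ((Scheme.Modules.pullback p).obj S.X₂)) := by
  have h1 := map_famSeq_shortExact p r c H hS h₃
  have h2 : ((S.map (Scheme.Modules.pullback p)).map (Scheme.Modules.pullback p')).ShortExact := by
    have h := map_pullback_shortExact p hS
    have hm := PerfC.RelFlat.mono_pullback_map H _ h h₃
    have he : Epi (S.map (Scheme.Modules.pullback p)).g := h.epi_g
    exact { exact := (h.exact.map_of_epi_of_preservesCokernel (Scheme.Modules.pullback p') he inferInstance)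
            mono_f := hm
            epi_g := inferInstanceAs (Epi ((Scheme.Modules.pullback p').map (S.map (Scheme.Modules.pullback p)).g)) }
  have h3 : IsUnit (p'.appTop (r.appTop c)) := by
    have h4 : (p' ≫ r).appTop c = (r' ≫ τ).appTop c := by rw [H.w]
    change p'.appTop (r.appTop c) = r'.appTop (τ.appTop c) at h4
    rw [h4]
    exact hc.map r'.appTop.hom
  have h5 : IsIso (famHom p r S c (p' := p')).τ₁ := isIso_famHom_τ₁ p r S c
  have h6 : IsIso (famHom p r S c (p' := p')).τ₃ := by
    rw [famHom_τ₃]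
    exact isIso_smulHom _ h3
  have h7 := iso_of_isIso (famHom p r S c (p' := p')) h1 h2
  exact ⟨@asIso _ _ _ _ (famHom p r S c (p' := p')).τ₂ h7⟩

end K53.Degen
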