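import Groth.Agent.Dcoh.DualFLF
import Groth.Agent.Etcore.ExtAdj
import Groth.Agent.S0485
import Groth.Prelude.Def_ModSite2

/-!
# Tensoring with a finite locally free module and Ext

`- ⊗ E ⊣ - ⊗ E'` for an exact pairing, exactness, `Hom(E, -) ≅ - ⊗ E'`, and the induced isomorphism
`Ext^i(F ⊗ E, G) ≅ Ext^i(F, G ⊗ E')`.
-/

set_option autoImplicit false
universe u w

open CategoryTheory CategoryTheory.Limits AlgebraicGeometry MonoidalCategory

namespace K53.FlfAdj

open scoped Groth.Agent.Dcoh.MonCat

variable {X : Scheme.{u}}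

/-- `- ⊗ E ⊣ - ⊗ E'` for an exact pairing. -/
noncomputable def adjR (E E' : X.Modules) [ExactPairing E E'] : tensorRight E ⊣ tensorRight E' :=
  tensorRightAdjunction E E'

/-- The internal Hom out of a dualizable module is the tensor product with the dual. -/
noncomputable def homIso (E E' : X.Modules) [ExactPairing E E'] [ModSite.HasSheafHom (O := X.sheaf) E] :
    (show X.Modules ⥤ X.Modules from ModSite.sheafHom (O := X.sheaf) E) ≅ tensorRight E' :=
  Adjunction.rightAdjointUniq (ModSite.sheafHomAdj (O := X.sheaf) E) (adjR E E')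

/-- The dual. -/
noncomputable def dualIso (E E' : X.Modules) [ExactPairing E E'] [ModSite.HasSheafHom (O := X.sheaf) E] :
    (show X.Modules from (ModSite.sheafHom (O := X.sheaf) E).obj (Coh.structureModule X)) ≅ E' :=
  (homIso E E').app (𝟙_ X.Modules) ≪≫ λ_ E'

theorem exists_pairing_symm {E : X.Modules} (hE : FlatMod.IsFinLocFree E) :
    ∃ E' : X.Modules, FlatMod.IsFinLocFree E' ∧ Nonempty (ExactPairing E E') ∧ Nonempty (ExactPairing E' E) := by
  obtain ⟨E', ⟨h⟩⟩ := Groth.Agent.Dcoh.DualFLF.exists_exactPairing hE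
  exact ⟨E', Groth.Agent.Dcoh.DualFLF.isFinLocFree_dual hE E', ⟨h⟩, ⟨BraidedCategory.exactPairing_swap E E'⟩⟩

theorem pfl (E E' : X.Modules) [ExactPairing E E'] : PreservesLimits (tensorRight E') :=
  (adjR E E').rightAdjoint_preservesLimits

theorem pfc (E E' : X.Modules) [ExactPairing E E'] : PreservesColimits (tensorRight E) :=
  (adjR E E').leftAdjoint_preservesColimits

/-- The Ext adjunction. -/
theorem nonempty_ext (E E' : X.Modules) [ExactPairing E E'] [ExactPairing E' E] [HasExt.{w} X.Modules]
    (F G : X.Modules) (i : ℕ) :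
    Nonempty (Abelian.Ext.{w} (CohB1.tensorMod F E) G i ≃+ Abelian.Ext.{w} F (CohB1.tensorMod G E') i) := by
  have := Groth.Agent.S0485.result _ X.ringCatSheaf
  have : EnoughInjectives X.Modules := this
  have h1 := pfl E E'
  have h2 := pfl E' E
  have h3 := pfc E E'
  have h4 := pfc E' E
  have a1 : (tensorRight E).Additive := (adjR E E').left_adjoint_additive
  have a2 : (tensorRight E').Additive := (adjR E' E).left_adjoint_additive
  exact ⟨Groth.Agent.Etcore.ExtAdj.extAdj (adjR E E') F G i⟩

end K53.FlfAdj
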