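import Groth.Agent.Coherent.K585.Defs
import Groth.Agent.Picfga.HilbPull
import Groth.Agent.FormalB.BCExact
import Groth.Agent.FormalA.PullbackQC
import Groth.Agent.VarietyA.EulerAdd
import Groth.Agent.CohqB.DevSupport
import Groth.Agent.PerfC.RelFlat
import Groth.Agent.Ega2.TensLift

/-!
# Admissible families: isomorphisms and base change
-/

set_option autoImplicit false
set_option linter.unusedSectionVars false
set_option linter.unusedVariables false

universe u

open CategoryTheory CategoryTheory.Limits AlgebraicGeometry Polynomial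

namespace K53.AdmPull

open Groth.Agent Fga.QTDefs Fga.QT4b Fga.QT6a Fga.QT6c K585.Defs

/-- Everything is flat over a field. -/
theorem isFlatOver_field {k : Type u} [Field k] {X : Scheme.{u}} (q : X ⟶ Spec (CommRingCat.of k)) (M : X.Modules) :
    FlatMod.IsFlatOver q M := by
  intro x
  have h : IsField ((Spec (CommRingCat.of k)).presheaf.stalk (q.base x)) := by
    have hs : Subsingleton ↥(Spec (CommRingCat.of k)) := inferInstanceAs (Subsingleton (PrimeSpectrum k))
    have hi : IsIntegral (Spec (CommRingCat.of k)) := inferInstance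
    have he : q.base x = genericPoint ↥(Spec (CommRingCat.of k)) := Subsingleton.elim _ _
    rw [he]
    exact Field.toIsField (Spec (CommRingCat.of k)).functionField
  let _ := FlatMod.moduleStalkOver q M x
  let _ := h.toField
  change Module.Flat _ _
  infer_instance

section Iso

variable (k : Type u) [Field k] {n : ℕ} {Y : Scheme.{u}} [Y.Over (Spec (CommRingCat.of k))] (g : Y ⟶ PZ n)

theorem ssh_of_iso {E E' : Y.Modules} (e : E ≅ E') {P : ℚ[X]} (h : SSh k g P E) : SSh k g P E' where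
  coh := CohqB.LocalQC.isCoh_of_iso e h.coh
  hp m := by
    rw [← h.hp m]
    congr 1
    exact VarietyA.EulerAdd.euler_congr k (Ega2.Tens.mapTIso e.symm (Iso.refl _))
  dim := by rw [← h.dim, CohqB.DevSupport.support_congr e]
  sub G ι hι hG hG0 := h.sub G (ι ≫ e.inv) inferInstance hG hG0

end Iso

variable {n : ℕ} {X S : Scheme.{u}} (f : X ⟶ S)

/-- Two ways of pulling back. -/
noncomputable def pullIso {T T₁ T₂ T' : Over S} {a : T' ⟶ T₁} {b : T₁ ⟶ T} {c : T' ⟶ T₂} {d : T₂ ⟶ T}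
    (h : a ≫ b = c ≫ d) (E : (PicF.XT f T).Modules) :
    (Scheme.Modules.pullback (PicF.XTmap f a)).obj ((Scheme.Modules.pullback (PicF.XTmap f b)).obj E) ≅
      (Scheme.Modules.pullback (PicF.XTmap f c)).obj ((Scheme.Modules.pullback (PicF.XTmap f d)).obj E) :=
  (Scheme.Modules.pullbackComp _ _).app E ≪≫ (Scheme.Modules.pullbackCongr
    (show PicF.XTmap f a ≫ PicF.XTmap f b = PicF.XTmap f c ≫ PicF.XTmap f d by
      rw [← Picfga.HilbPull.XTmap_comp, ← Picfga.HilbPull.XTmap_comp, h])).app E ≪≫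
      ((Scheme.Modules.pullbackComp _ _).app E).symm

/-- Pulling back twice. -/
noncomputable def pullIso₂ {T T₁ T' : Over S} {a : T' ⟶ T₁} {b : T₁ ⟶ T} {c : T' ⟶ T}
    (h : a ≫ b = c) (E : (PicF.XT f T).Modules) :
    (Scheme.Modules.pullback (PicF.XTmap f a)).obj ((Scheme.Modules.pullback (PicF.XTmap f b)).obj E) ≅
      (Scheme.Modules.pullback (PicF.XTmap f c)).obj E :=
  (Scheme.Modules.pullbackComp _ _).app E ≪≫ (Scheme.Modules.pullbackCongr
    (show PicF.XTmap f a ≫ PicF.XTmap f b = PicF.XTmap f c by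
      rw [← Picfga.HilbPull.XTmap_comp, h])).app E

/-- Pulling back along the identity. -/
noncomputable def pullIso₁ {T : Over S} {a : T ⟶ T} (h : a = 𝟙 T) (E : (PicF.XT f T).Modules) :
    (Scheme.Modules.pullback (PicF.XTmap f a)).obj E ≅ E :=
  (Scheme.Modules.pullbackCongr (show PicF.XTmap f a = 𝟙 _ by rw [h, Picfga.HilbPull.XTmap_id])).app E ≪≫
    (Scheme.Modules.pullbackId _).app E

variable {k : Type u} [Field k] (g₀ : X ⟶ PZ n)

theorem ssh_pull {P : ℚ[X]} {s s' : Spec (CommRingCat.of k) ⟶ S} (θ : Over.mk s' ⟶ Over.mk s) (hθ : θ.left = 𝟙 _)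
    {E : (PicF.XT f (Over.mk s)).Modules}
    (h : @SSh k _ n _ (ovr f s) (gT f g₀ (Over.mk s)) P E) :
    @SSh k _ n _ (ovr f s') (gT f g₀ (Over.mk s')) P ((Scheme.Modules.pullback (PicF.XTmap f θ)).obj E) := by
  have h1 : s' = s := by
    have h2 := Over.w θ
    rw [hθ] at h2
    simpa using h2.symm
  subst h1
  have h2 : θ = 𝟙 _ := Over.OverMorphism.ext hθ
  let _ := ovr f s'
  exact ssh_of_iso k _ (pullIso₁ f h2 E).symm h

variable {sS : S ⟶ Spec (CommRingCat.of k)}

theorem adm_of_iso {P : ℚ[X]} {T : Over S} {E E' : (PicF.XT f T).Modules} (e : E ≅ E')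
    (h : Adm f sS g₀ P T E) : Adm f sS g₀ P T E' where
  coh := CohqB.LocalQC.isCoh_of_iso e h.coh
  flat := PerfC.RelFlat.isFlatOver_of_iso _ e h.flat
  ssh t ht := by
    let _ := ovr f (t ≫ T.hom)
    exact ssh_of_iso k _ ((Scheme.Modules.pullback _).mapIso e) (h.ssh t ht)

/-- Admissible families are stable under base change. -/
theorem adm_pull {P : ℚ[X]} {T T' : Over S} (g : T' ⟶ T) {E : (PicF.XT f T).Modules}
    (h : Adm f sS g₀ P T E) : Adm f sS g₀ P T' ((Scheme.Modules.pullback (PicF.XTmap f g)).obj E) where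
  coh := FormalA.PullbackQC.isCoh_pullback _ _ h.coh
  flat := FormalB.BC.isFlatOver_pullback (Picfga.HilbPull.isPullback_XTmap f g) E h.flat
  ssh t ht := by
    have h1 := h.ssh (t ≫ g.left) (by rw [Category.assoc, Over.w_assoc g]; exact ht)
    let θ : Over.mk (t ≫ T'.hom) ⟶ Over.mk ((t ≫ g.left) ≫ T.hom) :=
      Over.homMk (𝟙 _) (by change 𝟙 _ ≫ (t ≫ g.left) ≫ T.hom = t ≫ T'.hom; rw [Category.id_comp, Category.assoc, Over.w g])
    have h2 := ssh_pull f g₀ θ rfl h1
    let _ := ovr f (t ≫ T'.hom)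
    refine ssh_of_iso k _ (pullIso f ?_ E) h2
    apply Over.OverMorphism.ext
    change 𝟙 _ ≫ t ≫ g.left = t ≫ g.left
    rw [Category.id_comp]

/-- Admissible families over a rational point. -/
theorem ssh_of_adm {P : ℚ[X]} {s : Spec (CommRingCat.of k) ⟶ S} (hs : s ≫ sS = 𝟙 _)
    {E : (PicF.XT f (Over.mk s)).Modules} (h : Adm f sS g₀ P (Over.mk s) E) :
    @SSh k _ n _ (ovr f s) (gT f g₀ (Over.mk s)) P E := by
  have h1 := h.ssh (𝟙 _) (by rw [Category.id_comp]; exact hs)
  let θ : Over.mk s ⟶ Over.mk (𝟙 _ ≫ (Over.mk s).hom) := Over.homMk (𝟙 _) (by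
    change 𝟙 _ ≫ 𝟙 _ ≫ s = s
    rw [Category.id_comp, Category.id_comp])
  have h2 := ssh_pull f g₀ θ rfl h1
  let _ := ovr f s
  refine ssh_of_iso k _ (pullIso₂ f (c := 𝟙 _) ?_ E ≪≫ pullIso₁ f rfl E) h2
  apply Over.OverMorphism.ext
  change 𝟙 _ ≫ 𝟙 _ = 𝟙 _
  rw [Category.id_comp]

theorem adm_of_ssh {P : ℚ[X]} {s : Spec (CommRingCat.of k) ⟶ S} (hs : s ≫ sS = 𝟙 _)
    {E : (PicF.XT f (Over.mk s)).Modules} (h : @SSh k _ n _ (ovr f s) (gT f g₀ (Over.mk s)) P E) :
    Adm f sS g₀ P (Over.mk s) E where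
  coh := by
    let _ := ovr f s
    exact h.coh
  flat := isFlatOver_field _ E
  ssh t ht := by
    have h1 : t = 𝟙 _ := by
      change t ≫ s ≫ sS = 𝟙 _ at ht
      rw [hs] at ht
      exact (Category.comp_id t).symm.trans ht
    exact ssh_pull f g₀ (Over.homMk t rfl : Over.mk (t ≫ (Over.mk s).hom) ⟶ Over.mk s) h1 h

end K53.AdmPull
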