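import Groth.Agent.Coherent.K585.Fin
import Groth.Agent.Coherent.K585.Degen
import Groth.Agent.Coherent.K53.Fam1

/-!
# Moduli of semistable sheaves: the atlas exists
-/

set_option autoImplicit false

open CategoryTheory CategoryTheory.Limits AlgebraicGeometry Opposite MvPolynomial

namespace K53.AsmEnd

open Groth.Agent Groth.Agent.Fga QA0 QA1 QTDefs QTPull QT4 QT4b QT5 QT6a QT6c QT8 K585.KronK K585.Defs K585.PtR
  K585.Good K585.Atl

theorem atlasEx (S : Scheme.{0}) (sS : S ⟶ Spec (CommRingCat.of ℂ)) [LocallyOfFiniteType sS] [QuasiCompact sS]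
    [IsSeparated sS] (n : ℕ) (X : Scheme.{0}) (i : X ⟶ CohB1.ProjSpaceOver n S) [IsClosedImmersion i]
    (P : Polynomial ℚ) : K53.AsmFin.AtlasEx S sS n X i P := by
  by_cases h : ∃ (s : Spec (CommRingCat.of ℂ) ⟶ S) (E : (PicF.XT (i ≫ (CohB1.ProjSpaceOver n S ↘ S)) (Over.mk s)).Modules),
      s ≫ sS = 𝟙 _ ∧ @SSh ℂ _ n _ (ovr (i ≫ (CohB1.ProjSpaceOver n S ↘ S)) s)
        (gT (i ≫ (CohB1.ProjSpaceOver n S ↘ S)) (i ≫ prZ n S) (Over.mk s)) P E
  · obtain ⟨s, E, -, hE⟩ := h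
    refine K585.Fin.atlasEx_of_ssh ?_ hE
    intro m Φ N e a b p _ 𝓡 G king
    have h1 : K53.Fam3.SshPt P 𝓡 := by
      intro s hs x hx
      exact K53.Fam1.sshPt 𝓡 G king hs x hx
    exact ⟨K53.Fam3.adm_of_sshPt 𝓡 h1, fun x hs => K53.Fam3.framePt 𝓡 G king h1 x hs⟩
  · refine K585.Degen.atlasEx_of_not fun s E hs hE => h ⟨s, E, hs, hE⟩

theorem main (S : Scheme.{0}) (sS : S ⟶ Spec (CommRingCat.of ℂ)) [LocallyOfFiniteType sS] [QuasiCompact sS]
    [IsSeparated sS] (n : ℕ) (X : Scheme.{0}) (i : X ⟶ CohB1.ProjSpaceOver n S) [IsClosedImmersion i]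
    (P : Polynomial ℚ) : K53.Final.Main S sS n X i P :=
  K53.AsmFin.main_of_ex (atlasEx S sS n X i P)

end K53.AsmEnd
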