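import Groth.Agent.Coherent.K53.SShEq
import Groth.Agent.Coherent.K639.Trans

/-!
# Stable sheaves: transport along isomorphisms, comparison with `ShStab.IsStable`
-/

set_option autoImplicit false
set_option linter.unusedSectionVars false
set_option linter.unusedVariables false

universe u

open CategoryTheory CategoryTheory.Limits AlgebraicGeometry Polynomial

namespace K53.StabTr

open Groth.Agent Fga.QTDefs Fga.QT8 Fga.QT4b Fga.QT6a Fga.QT6c K585.Defs K53.SShEq K639.Trans

/-- Strict inequality for proper subsheaves. -/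
def Strict (k : Type u) [Field k] {Y : Scheme.{u}} (q : Y ⟶ Spec (CommRingCat.of k)) (L : ℤ → Y.Modules)
    (P : Polynomial ℚ) (E : Y.Modules) : Prop :=
  ∀ (G : Y.Modules) (ι : G ⟶ E), Mono ι → Coh.IsCoh G → ¬ IsZero G →
    ∀ ψ : Polynomial ℚ, (∀ m : ℤ, (@Curv2.euler k _ Y ⟨q⟩ (CohB1.tensorMod G (L m)) : ℚ) = ψ.eval (m : ℚ)) →
      ¬ IsIso ι → W4c2simpsonmod1.RedLT P.natDegree ψ P

/-- Transport of the strict inequalities along an isomorphism. -/
theorem Strict.trans {k : Type u} [Field k] {X Y : Scheme.{u}} {q : Y ⟶ Spec (CommRingCat.of k)}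
    {q' : X ⟶ Spec (CommRingCat.of k)} (θ : X ⟶ Y) [IsIso θ]
    (hθ : θ ≫ q = q') {L : ℤ → Y.Modules} {L' : ℤ → X.Modules} (hL : ∀ m, PicF.IsInvertible (L m))
    (eL : ∀ m, Nonempty (L' m ≅ (Scheme.Modules.pullback θ).obj (L m))) {P : Polynomial ℚ} {E : Y.Modules}
    {E' : X.Modules} (e : E' ≅ (Scheme.Modules.pullback θ).obj E) (h : Strict k q L P E) :
    Strict k q' L' P E' := by
  intro G' ι' hι hG' h0 ψ hψ hi
  have hq1 := isEquivalence_pullback (inv θ)
  let c := invPull θ E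
  let d := (pullInv θ G').symm
  have hG : Coh.IsCoh ((Scheme.Modules.pullback (inv θ)).obj G') :=
    FormalA.PullbackQC.isCoh_pullback (inv θ) _ hG'
  have hm : Mono ((Scheme.Modules.pullback (inv θ)).map (ι' ≫ e.hom) ≫ c.hom) := by
    have : Mono ((Scheme.Modules.pullback (inv θ)).map (ι' ≫ e.hom)) := inferInstance
    infer_instance
  have hz : ¬ IsZero ((Scheme.Modules.pullback (inv θ)).obj G') := fun hz =>
    h0 ((((Scheme.Modules.pullback θ).map_isZero hz)).of_iso d)
  refine h _ _ hm hG hz ψ (fun m => ?_) fun hi' => hi ?_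
  · rw [← hψ m, euler_tens θ hθ (hL m) (eL m).some hG d]
  · have h1 : IsIso ((Scheme.Modules.pullback (inv θ)).map (ι' ≫ e.hom)) :=
      IsIso.of_isIso_comp_right _ c.hom
    have h2 : IsIso (ι' ≫ e.hom) := isIso_of_reflects_iso (ι' ≫ e.hom) (Scheme.Modules.pullback (inv θ))
    exact IsIso.of_isIso_comp_right _ e.hom

section Cmp

variable (k : Type u) [Field k] {n : ℕ} {Y : Scheme.{u}} [Y.Over (Spec (CommRingCat.of k))] (g : Y ⟶ PZ n)
  [IsClosedImmersion (toPA g (Y ↘ Spec (CommRingCat.of k)))]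
  {L : Y.Modules} (eL : L ≅ (Scheme.Modules.pullback g).obj (Twist.twistProjSpace n (ULift.{u} ℤ) 1))

include eL in
/-- Stability in the sense of `ShStab`. -/
theorem isStable_of {E : Y.Modules} {P : ℚ[X]} (hE : SSh k g P E)
    (h : Strict k (Y ↘ Spec (CommRingCat.of k))
      (fun m => (Scheme.Modules.pullback g).obj (Twist.twistProjSpace n (ULift.{u} ℤ) m)) P E) :
    ShStab.IsStable k Y L E P.natDegree := by
  have hp := isProper k g
  have hL := isAmple_L k g eL
  have hYn : IsLocallyNoetherian Y := LocallyOfFiniteType.isLocallyNoetherian (Y ↘ Spec (CommRingCat.of k))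
  obtain ⟨hS, hP⟩ := (ssh_iff k g eL).1 hE
  refine ⟨hS.1, hS.2.1, hS.2.2.1, fun F ι hι hF hF0 hi pF pE hpF hpE => ?_⟩
  obtain rfl := K847.HilbBasic.hilbPoly_unique k hpE hP
  have hα : 0 < StabCat.alpha pE.natDegree pE := K847.HilbBasic.alpha_pos k hL hE.coh hE.dim hP
  have hdF := (hE.sub F ι hι hF hF0).1
  have hαF : 0 < StabCat.alpha pE.natDegree pF := K847.HilbBasic.alpha_pos k hL hF hdF hpF
  obtain ⟨N, hN⟩ := h F ι hι hF hF0 pF ((isHilbPoly_iff k g eL hF).1 hpF) hi
  refine ⟨N.toNat, fun m hm => ?_⟩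
  have h1 := hN (m : ℤ) (by omega)
  change pF.eval ((m : ℤ) : ℚ) / StabCat.alpha pE.natDegree pF < pE.eval ((m : ℤ) : ℚ) / StabCat.alpha _ pE at h1
  rw [div_lt_div_iff₀ hαF hα] at h1
  rw [eval_smul, eval_smul, smul_eq_mul, smul_eq_mul]
  push_cast at h1
  linarith

end Cmp

end K53.StabTr
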