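import Groth.Agent.Coherent.K53.SEq4
import Groth.Agent.Coherent.K53.StabTr
import Mathlib.Analysis.Complex.Polynomial.Basic

/-!
# The statements S15264 and S14975 from the existence of the moduli space as a quotient

`FQ`: the condition of the frozen statements.  `Main`: there is a separated best approximation `M₀` of the moduli
problem which is, over every complex point of `S`, a quotient in the sense of `K53.SEq3.QuotData`.
-/

set_option autoImplicit false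
set_option linter.unusedSectionVars false
set_option linter.unusedVariables false

open CategoryTheory CategoryTheory.Limits AlgebraicGeometry

namespace K53.Final

open Groth.Agent Fga.QTDefs Fga.QT4b Fga.QT6a Fga.QT6c K585.Defs K53.AdmPull K53.SEq3 K53.SEq4 K53.StabTr

variable (S : Scheme.{0}) (sS : S ⟶ Spec (CommRingCat.of ℂ)) 
  (n : ℕ) (X : Scheme.{0}) (i : X ⟶ CohB1.ProjSpaceOver n S) (P : Polynomial ℚ)

/-- The condition of the frozen statements. -/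
abbrev FQ : ∀ T : Over S, (PicF.XT (i ≫ (CohB1.ProjSpaceOver n S ↘ S)) T).Modules → Prop := (fun T E =>
      ∀ (t : Spec (CommRingCat.of ℂ) ⟶ T.left), t ≫ T.hom ≫ sS = 𝟙 (Spec (CommRingCat.of ℂ)) →
        (∀ m : ℤ, (@Curv2.euler ℂ _ (pullback (PicF.XTproj (i ≫ (CohB1.ProjSpaceOver n S ↘ S)) T) t) ⟨pullback.snd (PicF.XTproj (i ≫ (CohB1.ProjSpaceOver n S ↘ S)) T) t⟩ (CohB1.tensorMod ((Scheme.Modules.pullback (pullback.fst (PicF.XTproj (i ≫ (CohB1.ProjSpaceOver n S ↘ S)) T) t)).obj E) ((Scheme.Modules.pullback (pullback.fst (PicF.XTproj (i ≫ (CohB1.ProjSpaceOver n S ↘ S)) T) t ≫ pullback.fst (i ≫ (CohB1.ProjSpaceOver n S ↘ S)) T.hom ≫ i)).obj (Twist.twistOver n S m))) : ℚ) = P.eval (m : ℚ)) ∧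
        topologicalKrullDim ↥(CohB1.support ((Scheme.Modules.pullback (pullback.fst (PicF.XTproj (i ≫ (CohB1.ProjSpaceOver n S ↘ S)) T) t)).obj E)) = (P.natDegree : WithBot ℕ∞) ∧
        ∀ (G : (pullback (PicF.XTproj (i ≫ (CohB1.ProjSpaceOver n S ↘ S)) T) t).Modules) (ι : G ⟶ ((Scheme.Modules.pullback (pullback.fst (PicF.XTproj (i ≫ (CohB1.ProjSpaceOver n S ↘ S)) T) t)).obj E)), Mono ι → Coh.IsCoh G → ¬ IsZero G →
          topologicalKrullDim ↥(CohB1.support G) = (P.natDegree : WithBot ℕ∞) ∧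
          ∀ ψ : Polynomial ℚ, (∀ m : ℤ, (@Curv2.euler ℂ _ (pullback (PicF.XTproj (i ≫ (CohB1.ProjSpaceOver n S ↘ S)) T) t) ⟨pullback.snd (PicF.XTproj (i ≫ (CohB1.ProjSpaceOver n S ↘ S)) T) t⟩ (CohB1.tensorMod G ((Scheme.Modules.pullback (pullback.fst (PicF.XTproj (i ≫ (CohB1.ProjSpaceOver n S ↘ S)) T) t ≫ pullback.fst (i ≫ (CohB1.ProjSpaceOver n S ↘ S)) T.hom ≫ i)).obj (Twist.twistOver n S m))) : ℚ) = ψ.eval (m : ℚ)) →
            W4c2simpsonmod1.RedLE P.natDegree ψ P)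

theorem hQ [IsClosedImmersion i] (T : Over S) (E : (PicF.XT (i ≫ (CohB1.ProjSpaceOver n S ↘ S)) T).Modules) :
    (W4c2simpsonmod1.shProb (i ≫ (CohB1.ProjSpaceOver n S ↘ S)) (FQ S sS n X i P)).ok T E ↔
      Adm (i ≫ (CohB1.ProjSpaceOver n S ↘ S)) sS (i ≫ prZ n S) P T E := by
  constructor
  · rintro ⟨h1, h2, h3⟩
    exact (K639.Trans.adm_iff sS n X i P T E h1 h2).1 h3
  · intro h
    exact ⟨h.coh, h.flat, (K639.Trans.adm_iff sS n X i P T E h.coh h.flat).2 h⟩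

/-- There is a separated best approximation which is a quotient over every complex point. -/
def Main : Prop :=
  ∃ (M₀ : Over S) (φ₀ : ModFun.Problem.Hom (W4c2simpsonmod1.shProb (i ≫ (CohB1.ProjSpaceOver n S ↘ S)) (FQ S sS n X i P))
      (W4c2simpsonmod1.ftOver sS) M₀),
    ModFun.IsBestApprox (W4c2simpsonmod1.ftOver sS)
      (W4c2simpsonmod1.shProb (i ≫ (CohB1.ProjSpaceOver n S ↘ S)) (FQ S sS n X i P)) M₀ φ₀ ∧
    IsSeparated M₀.hom ∧
    ∀ s : Spec (CommRingCat.of ℂ) ⟶ S, s ≫ sS = 𝟙 _ →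
      ∃ (R : Over S) (𝓔 : (PicF.XT (i ≫ (CohB1.ProjSpaceOver n S ↘ S)) R).Modules) (π : R ⟶ M₀)
        (𝒢 : (R.left ⟶ R.left) → Prop),
        QuotData (i ≫ (CohB1.ProjSpaceOver n S ↘ S)) (i ≫ prZ n S) sS s 𝓔 π φ₀ P 𝒢

theorem isClosedImmersion_toPS [IsClosedImmersion i] :
    IsClosedImmersion (toPS (i ≫ prZ n S) (i ≫ (CohB1.ProjSpaceOver n S ↘ S))) := by
  have h : i = toPS (i ≫ prZ n S) (i ≫ (CohB1.ProjSpaceOver n S ↘ S)) := eq_toPS i
  rw [← h]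
  infer_instance

variable {S sS n X i P}

/-- the polarisation -/
noncomputable def polIso (T : Over S) :
    (Scheme.Modules.pullback (pullback.fst (i ≫ (CohB1.ProjSpaceOver n S ↘ S)) T.hom ≫ i)).obj (Twist.twistOver n S 1) ≅
      (Scheme.Modules.pullback (gT (i ≫ (CohB1.ProjSpaceOver n S ↘ S)) (i ≫ prZ n S) T)).obj
        (Twist.twistProjSpace n (ULift.{0} ℤ) 1) :=
  (Scheme.Modules.pullbackComp _ (prZ n S)).app _ ≪≫
    (Scheme.Modules.pullbackCongr (by rw [gT, Category.assoc])).app _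

theorem s15264 [LocallyOfFiniteType sS] [QuasiCompact sS] [IsSeparated sS] [IsClosedImmersion i]
    (hM : Main S sS n X i P) (M : Over S)
    (φ : ModFun.Problem.Hom (W4c2simpsonmod1.shProb (i ≫ (CohB1.ProjSpaceOver n S ↘ S)) (FQ S sS n X i P))
      (W4c2simpsonmod1.ftOver sS) M)
    (hφ : ModFun.IsBestApprox (W4c2simpsonmod1.ftOver sS)
      (W4c2simpsonmod1.shProb (i ≫ (CohB1.ProjSpaceOver n S ↘ S)) (FQ S sS n X i P)) M φ)
    (s : Spec (CommRingCat.of ℂ) ⟶ S) (hs : s ≫ sS = 𝟙 (Spec (CommRingCat.of ℂ)))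
    (hP : (W4c2simpsonmod1.ftOver sS) (Over.mk s))
    (E E' : (PicF.XT (i ≫ (CohB1.ProjSpaceOver n S ↘ S)) (Over.mk s)).Modules)
    (hE : (W4c2simpsonmod1.shProb (i ≫ (CohB1.ProjSpaceOver n S ↘ S)) (FQ S sS n X i P)).ok (Over.mk s) E)
    (hE' : (W4c2simpsonmod1.shProb (i ≫ (CohB1.ProjSpaceOver n S ↘ S)) (FQ S sS n X i P)).ok (Over.mk s) E') :
    φ.app (Over.mk s) E hP hE = φ.app (Over.mk s) E' hP hE' ↔
      @ShStab.SEquiv ℂ _ (PicF.XT (i ≫ (CohB1.ProjSpaceOver n S ↘ S)) (Over.mk s)) ⟨PicF.XTproj (i ≫ (CohB1.ProjSpaceOver n S ↘ S)) (Over.mk s)⟩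
        ((Scheme.Modules.pullback (pullback.fst (i ≫ (CohB1.ProjSpaceOver n S ↘ S)) (Over.mk s).hom ≫ i)).obj (Twist.twistOver n S 1))
        P.natDegree E E' := by
  have := isClosedImmersion_toPS S n X i
  obtain ⟨M₀, φ₀, h1, h2, h3⟩ := hM
  obtain ⟨R, 𝓔, π, 𝒢, D⟩ := h3 s hs
  exact (app_eq_iff_of_best hφ h1 (Over.mk s) E E' hP hE hE').trans
    (app_eq_iff_sEquiv hs (hQ S sS n X i P) D _ (polIso (Over.mk s)) hP hE hE')

/-- The strict inequalities. -/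
abbrev FSt (T : Over S) (E : (PicF.XT (i ≫ (CohB1.ProjSpaceOver n S ↘ S)) T).Modules) : Prop :=
  ∀ (t : Spec (CommRingCat.of ℂ) ⟶ T.left), t ≫ T.hom ≫ sS = 𝟙 (Spec (CommRingCat.of ℂ)) →
    Strict ℂ (pullback.snd (PicF.XTproj (i ≫ (CohB1.ProjSpaceOver n S ↘ S)) T) t)
      (fun m => (Scheme.Modules.pullback (pullback.fst (PicF.XTproj (i ≫ (CohB1.ProjSpaceOver n S ↘ S)) T) t ≫
        pullback.fst (i ≫ (CohB1.ProjSpaceOver n S ↘ S)) T.hom ≫ i)).obj (Twist.twistOver n S m)) P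
      ((Scheme.Modules.pullback (pullback.fst (PicF.XTproj (i ≫ (CohB1.ProjSpaceOver n S ↘ S)) T) t)).obj E)

theorem isStable_of_frozen [LocallyOfFiniteType sS] [QuasiCompact sS] [IsSeparated sS] [IsClosedImmersion i]
    (s : Spec (CommRingCat.of ℂ) ⟶ S) (hs : s ≫ sS = 𝟙 (Spec (CommRingCat.of ℂ)))
    (E : (PicF.XT (i ≫ (CohB1.ProjSpaceOver n S ↘ S)) (Over.mk s)).Modules)
    (hE : (W4c2simpsonmod1.shProb (i ≫ (CohB1.ProjSpaceOver n S ↘ S)) (FQ S sS n X i P)).ok (Over.mk s) E)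
    (hst : FSt (sS := sS) (P := P) (Over.mk s) E) :
    @ShStab.IsStable ℂ _ _ (ovr (i ≫ (CohB1.ProjSpaceOver n S ↘ S)) s)
      ((Scheme.Modules.pullback (pullback.fst (i ≫ (CohB1.ProjSpaceOver n S ↘ S)) (Over.mk s).hom ≫ i)).obj
        (Twist.twistOver n S 1)) E P.natDegree := by
  have hci := isClosedImmersion_toPS S n X i
  let f := i ≫ (CohB1.ProjSpaceOver n S ↘ S)
  let _ := ovr f s
  have hci' : IsClosedImmersion (toPA (gT f (i ≫ prZ n S) (Over.mk s))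
      ((PicF.XT f (Over.mk s)) ↘ Spec (CommRingCat.of ℂ))) := isClosedImmersion_toPA f (i ≫ prZ n S) s
  refine isStable_of ℂ (gT f (i ≫ prZ n S) (Over.mk s)) (polIso (Over.mk s))
    (ssh_of_adm f (i ≫ prZ n S) hs ((hQ S sS n X i P _ _).1 hE)) ?_
  have h1 := hst (𝟙 _) (by rw [Category.id_comp]; exact hs)
  let a := pullback.fst (PicF.XTproj f (Over.mk s)) (𝟙 (Spec (CommRingCat.of ℂ)))
  have hiso : IsIso a := inferInstanceAs (IsIso (pullback.fst (PicF.XTproj f (Over.mk s)) (𝟙 _)))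
  have ha : inv a ≫ pullback.snd (PicF.XTproj f (Over.mk s)) (𝟙 _) = PicF.XTproj f (Over.mk s) := by
    rw [IsIso.inv_comp_eq]
    exact ((pullback.condition (f := PicF.XTproj f (Over.mk s)) (g := 𝟙 _)).trans (Category.comp_id _)).symm
  refine h1.trans (inv a) ha (fun m => Fdesc.LocGen.isInvertible_pullback _ (K639.Trans.isInvertible_tw (prZ n S) m))
    (fun m => ⟨?_⟩) (((Scheme.Modules.pullbackId _).app E).symm ≪≫ K639.Trans.pull2 (IsIso.inv_hom_id a) E)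
  refine K639.Trans.pull2 (b := (a ≫ pullback.fst f (Over.mk s).hom ≫ i) ≫ prZ n S) ?_ _ ≪≫
    (Scheme.Modules.pullback _).mapIso (K639.Trans.pull2 rfl _)
  rw [gT, Category.assoc, IsIso.inv_hom_id_assoc, Category.assoc]

theorem s14975 [LocallyOfFiniteType sS] [QuasiCompact sS] [IsSeparated sS] [IsClosedImmersion i]
    (hM : Main S sS n X i P) (M : Over S)
    (φ : ModFun.Problem.Hom (W4c2simpsonmod1.shProb (i ≫ (CohB1.ProjSpaceOver n S ↘ S)) (FQ S sS n X i P))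
      (W4c2simpsonmod1.ftOver sS) M)
    (hφ : ModFun.IsBestApprox (W4c2simpsonmod1.ftOver sS)
      (W4c2simpsonmod1.shProb (i ≫ (CohB1.ProjSpaceOver n S ↘ S)) (FQ S sS n X i P)) M φ)
    (s : Spec (CommRingCat.of ℂ) ⟶ S) (hs : s ≫ sS = 𝟙 (Spec (CommRingCat.of ℂ)))
    (hP : (W4c2simpsonmod1.ftOver sS) (Over.mk s))
    (E E' : (PicF.XT (i ≫ (CohB1.ProjSpaceOver n S ↘ S)) (Over.mk s)).Modules)
    (hE : (W4c2simpsonmod1.shProb (i ≫ (CohB1.ProjSpaceOver n S ↘ S)) (FQ S sS n X i P)).ok (Over.mk s) E)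
    (hE' : (W4c2simpsonmod1.shProb (i ≫ (CohB1.ProjSpaceOver n S ↘ S)) (FQ S sS n X i P)).ok (Over.mk s) E')
    (hst : FSt (sS := sS) (P := P) (Over.mk s) E) (hst' : FSt (sS := sS) (P := P) (Over.mk s) E')
    (h : φ.app (Over.mk s) E hP hE = φ.app (Over.mk s) E' hP hE') : Nonempty (E ≅ E') := by
  have := isClosedImmersion_toPS S n X i
  obtain ⟨M₀, φ₀, h1, h2, h3⟩ := hM
  obtain ⟨R, 𝓔, π, 𝒢, D⟩ := h3 s hs
  exact iso_of_app_eq_of_stable hs (hQ S sS n X i P) D _ (polIso (Over.mk s)) hP hE hE'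
    (isStable_of_frozen s hs E hE hst) (isStable_of_frozen s hs E' hE' hst')
    ((app_eq_iff_of_best hφ h1 (Over.mk s) E E' hP hE hE').1 h)

end K53.Final
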