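import Groth.Agent.Coherent.K53.Glue
import Groth.Agent.Coherent.K53.Final

/-!
# The three statements on the moduli space of semistable sheaves from an atlas
-/

set_option autoImplicit false
set_option linter.unusedSectionVars false

universe u v

open CategoryTheory CategoryTheory.Limits AlgebraicGeometry Opposite

namespace K53.AsmFin

open Groth.Agent Groth.Agent.Fga QA0 QA1 QTDefs QTPull QT4 QT4b QT5 QT6a QT6c QT8 K585.KronK K585.Defs K585.Good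
  K53.Asm K53.AdmPull K53.Glue K53.SEq3

section Gen

variable {k : Type u} [Field k] {n : ℕ} {X S : Scheme.{u}} {f : X ⟶ S} {g₀ : X ⟶ PZ n}
  {sS : S ⟶ Spec (CommRingCat.of k)} {P : Polynomial ℚ} {R M : Over S} {𝓔 : (PicF.XT f R).Modules} {π : R ⟶ M}
  {𝒢 : (R.left ⟶ R.left) → Prop}

/-- Admissible sheaves over the rational points come from `R`. -/
theorem exists_pt (A : Atlas f g₀ sS P 𝓔 π 𝒢) {s : Spec (CommRingCat.of k) ⟶ S} (hs : s ≫ sS = 𝟙 _)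
    {E : (PicF.XT f (Over.mk s)).Modules} (hE : Adm f sS g₀ P (Over.mk s) E) :
    ∃ t : Over.mk s ⟶ R, Nonempty ((Scheme.Modules.pullback (PicF.XTmap f t)).obj 𝓔 ≅ E) := by
  have hT : LocallyOfFiniteType ((Over.mk s).hom ≫ sS) := by
    change LocallyOfFiniteType (s ≫ sS)
    rw [hs]
    infer_instance
  obtain ⟨U, u, v, hU, hu, hp, x, ⟨e⟩, -⟩ := ch_ex A hT hE (IsLocalRing.closedPoint k)
  have h1 : IsIso u.left := by
    refine isIso_of_isOpenImmersion_of_opensRange_eq_top _ ?_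
    rw [eq_top_iff]
    intro z _
    have hz : z = IsLocalRing.closedPoint k := Subsingleton.elim (α := PrimeSpectrum k) _ _
    rw [hz]
    exact hp
  have h2 : IsIso ((Over.forget S).map u) := h1
  have h3 : IsIso u := isIso_of_reflects_iso u (Over.forget S)
  refine ⟨inv u ≫ x, ⟨(pullIso₂ f rfl 𝓔).symm ≪≫ (Scheme.Modules.pullback (PicF.XTmap f (inv u))).mapIso e.symm ≪≫
    pullIso₂ f (c := 𝟙 _) (IsIso.inv_hom_id u) E ≪≫ pullIso₁ f rfl E⟩⟩

/-- The data of a quotient over a rational point. -/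
theorem quotData {Q : ∀ T : Over S, (PicF.XT f T).Modules → Prop} (A : Atlas f g₀ sS P 𝓔 π 𝒢)
    (hdisj : ∀ Z Z' : Set R.left, IsClosed Z → IsClosed Z' → Disjoint Z Z' → (∀ γ, 𝒢 γ → γ '' Z ⊆ Z) →
      (∀ γ, 𝒢 γ → γ '' Z' ⊆ Z') → Disjoint (π.left '' Z) (π.left '' Z'))
    {φ : ModFun.Problem.Hom (W4c2simpsonmod1.shProb f Q) (W4c2simpsonmod1.ftOver sS) M}
    (hφ : ∀ (T : Over S) (hT : W4c2simpsonmod1.ftOver sS T) (E : (PicF.XT f T).Modules)
        (hE : (W4c2simpsonmod1.shProb f Q).ok T E) (x : T ⟶ R),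
        Nonempty (E ≅ (Scheme.Modules.pullback (PicF.XTmap f x)).obj 𝓔) → φ.app T E hT hE = x ≫ π)
    {s : Spec (CommRingCat.of k) ⟶ S} (hs : s ≫ sS = 𝟙 _) :
    QuotData f g₀ sS s 𝓔 π φ P 𝒢 where
  lft := A.ft.1
  adm := A.adm
  ex E hE := exists_pt A hs (adm_of_ssh f g₀ hs hE)
  hov := A.hov
  inv γ hγ t t' h := by
    have : LocallyOfFiniteType (s ≫ sS) := by
      rw [hs]
      infer_instance
    exact A.inv γ hγ s t t' h
  disj := hdisj
  app t hP h := hφ _ hP _ h t ⟨Iso.refl _⟩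

/-- The rational points of `M`. -/
theorem exists_fam [IsAlgClosed k] [LocallyOfFiniteType sS] {Q : ∀ T : Over S, (PicF.XT f T).Modules → Prop}
    (hQ : ∀ T E, (W4c2simpsonmod1.shProb f Q).ok T E ↔ Adm f sS g₀ P T E) (A : Atlas f g₀ sS P 𝓔 π 𝒢)
    (hsurj : Surjective π.left) [LocallyOfFiniteType M.hom]
    {φ : ModFun.Problem.Hom (W4c2simpsonmod1.shProb f Q) (W4c2simpsonmod1.ftOver sS) M}
    (hφ : ∀ (T : Over S) (hT : W4c2simpsonmod1.ftOver sS T) (E : (PicF.XT f T).Modules)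
        (hE : (W4c2simpsonmod1.shProb f Q).ok T E) (x : T ⟶ R),
        Nonempty (E ≅ (Scheme.Modules.pullback (PicF.XTmap f x)).obj 𝓔) → φ.app T E hT hE = x ≫ π)
    (t : Spec (CommRingCat.of k) ⟶ M.left) (ht : t ≫ M.hom ≫ sS = 𝟙 _)
    (hP : (W4c2simpsonmod1.ftOver sS) (Over.mk (t ≫ M.hom))) :
    ∃ (E : (W4c2simpsonmod1.shProb f Q).Fam (Over.mk (t ≫ M.hom)))
      (hE : (W4c2simpsonmod1.shProb f Q).ok (Over.mk (t ≫ M.hom)) E),
      φ.app (Over.mk (t ≫ M.hom)) E hP hE = Over.homMk t rfl := by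
  have hlft : LocallyOfFiniteType (R.hom ≫ sS) := A.ft.1
  let y : M.left := t (IsLocalRing.closedPoint k)
  have hy : IsClosed ({y} : Set M.left) := (pointEquivClosedPoint (M.hom ≫ sS) ⟨t, ht⟩).2
  have hJ : JacobsonSpace R.left := LocallyOfFiniteType.jacobsonSpace (R.hom ≫ sS)
  have hcl : IsClosed (π.left ⁻¹' {y}) := hy.preimage π.left.continuous
  have hne : (π.left ⁻¹' {y}).Nonempty := by
    obtain ⟨x, hx⟩ := hsurj.surj y
    exact ⟨x, hx⟩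
  obtain ⟨x, hx1, hx2⟩ := nonempty_inter_closedPoints hne hcl.isLocallyClosed
  let t₀ := pointOfClosedPoint (R.hom ≫ sS) x hx2
  have ht₀ : t₀ ≫ R.hom ≫ sS = 𝟙 _ := pointOfClosedPoint_comp (R.hom ≫ sS) x hx2
  have hap : ∀ z, t₀ z = x := fun z => pointOfClosedPoint_apply (R.hom ≫ sS) x hx2 z
  have h : t₀ ≫ π.left = t := by
    refine ext_of_apply_closedPoint_eq (M.hom ≫ sS) ?_ ht ?_
    · rw [Category.assoc, Over.w_assoc π]
      exact ht₀
    · exact (congrArg π.left (hap _)).trans hx1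
  let t' : Over.mk (t ≫ M.hom) ⟶ R := Over.homMk t₀ (by
    rw [← h, Category.assoc, Over.w π]
    rfl)
  have hok : (W4c2simpsonmod1.shProb f Q).ok (Over.mk (t ≫ M.hom))
      ((Scheme.Modules.pullback (PicF.XTmap f t')).obj 𝓔) := (hQ _ _).2 (adm_pull f g₀ t' A.adm)
  refine ⟨(Scheme.Modules.pullback (PicF.XTmap f t')).obj 𝓔, hok, ?_⟩
  rw [hφ _ hP _ hok t' ⟨Iso.refl _⟩]
  exact Over.OverMorphism.ext h

end Gen

section Main

variable {S : Scheme.{0}} {sS : S ⟶ Spec (CommRingCat.of ℂ)} [LocallyOfFiniteType sS]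
  {n : ℕ} {X : Scheme.{0}} {i : X ⟶ CohB1.ProjSpaceOver n S} [IsClosedImmersion i] {P : Polynomial ℚ}
  {R M : Over S} {𝓔 : (PicF.XT (i ≫ (CohB1.ProjSpaceOver n S ↘ S)) R).Modules} {π : R ⟶ M}
  {𝒢 : (R.left ⟶ R.left) → Prop}

/-- `Main` from an atlas. -/
theorem main (A : Atlas (i ≫ (CohB1.ProjSpaceOver n S ↘ S)) (i ≫ prZ n S) sS P 𝓔 π 𝒢)
    {m : ℕ} (c : M.left ⟶ CohB1.ProjSpaceOver m S) (hc : IsClosedImmersion c)
    (hcM : c ≫ (CohB1.ProjSpaceOver m S ↘ S) = M.hom)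
    (hdisj : ∀ Z Z' : Set R.left, IsClosed Z → IsClosed Z' → Disjoint Z Z' → (∀ γ, 𝒢 γ → γ '' Z ⊆ Z) →
      (∀ γ, 𝒢 γ → γ '' Z' ⊆ Z') → Disjoint (π.left '' Z) (π.left '' Z')) :
    K53.Final.Main S sS n X i P := by
  have hsep : IsSeparated M.hom := by
    rw [← hcM]
    have h0 : IsProper (CohB1.ProjSpaceOver m S ↘ S) := Groth.Agent.Dix.ProjProper.isProper_toBase m S
    have h1 : IsSeparated (CohB1.ProjSpaceOver m S ↘ S) := inferInstance
    infer_instance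
  obtain ⟨φ, h1, h2⟩ := glue (K53.Final.hQ S sS n X i P) A
  exact ⟨M, φ, h1, hsep, fun s hs => ⟨R, 𝓔, π, 𝒢, quotData A hdisj h2 hs⟩⟩

/-- S14971 from an atlas. -/
theorem s14971 (A : Atlas (i ≫ (CohB1.ProjSpaceOver n S ↘ S)) (i ≫ prZ n S) sS P 𝓔 π 𝒢)
    (hsurj : Surjective π.left) {m : ℕ} (c : M.left ⟶ CohB1.ProjSpaceOver m S) (hc : IsClosedImmersion c)
    (hcM : c ≫ (CohB1.ProjSpaceOver m S ↘ S) = M.hom) :
    ∃ (M : Over S) (φ : ModFun.Problem.Hom (W4c2simpsonmod1.shProb (i ≫ (CohB1.ProjSpaceOver n S ↘ S))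
        (K53.Final.FQ S sS n X i P)) (W4c2simpsonmod1.ftOver sS) M),
      ModFun.IsBestApprox (W4c2simpsonmod1.ftOver sS) (W4c2simpsonmod1.shProb (i ≫ (CohB1.ProjSpaceOver n S ↘ S))
        (K53.Final.FQ S sS n X i P)) M φ ∧
      (∃ (m : ℕ) (j : M.left ⟶ CohB1.ProjSpaceOver m S), IsClosedImmersion j ∧
        j ≫ (CohB1.ProjSpaceOver m S ↘ S) = M.hom) ∧
      (∀ (t : Spec (CommRingCat.of ℂ) ⟶ M.left), t ≫ M.hom ≫ sS = 𝟙 (Spec (CommRingCat.of ℂ)) →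
        ∀ hP : (W4c2simpsonmod1.ftOver sS) (Over.mk (t ≫ M.hom)),
          ∃ (E : (W4c2simpsonmod1.shProb (i ≫ (CohB1.ProjSpaceOver n S ↘ S))
              (K53.Final.FQ S sS n X i P)).Fam (Over.mk (t ≫ M.hom)))
            (hE : (W4c2simpsonmod1.shProb (i ≫ (CohB1.ProjSpaceOver n S ↘ S))
              (K53.Final.FQ S sS n X i P)).ok (Over.mk (t ≫ M.hom)) E),
            φ.app (Over.mk (t ≫ M.hom)) E hP hE = Over.homMk t rfl) := by
  have hlM : LocallyOfFiniteType M.hom := by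
    rw [← hcM]
    have h0 : IsProper (CohB1.ProjSpaceOver m S ↘ S) := Groth.Agent.Dix.ProjProper.isProper_toBase m S
    have h1 : LocallyOfFiniteType (CohB1.ProjSpaceOver m S ↘ S) := inferInstance
    infer_instance
  obtain ⟨φ, h1, h2⟩ := glue (K53.Final.hQ S sS n X i P) A
  exact ⟨M, φ, h1, ⟨m, c, hc, hcM⟩, fun t ht hP => exists_fam (K53.Final.hQ S sS n X i P) A hsurj h2 t ht hP⟩

variable (S sS n X i P) in
/-- There is an atlas with a projective quotient. -/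
def AtlasEx : Prop :=
  ∃ (R M : Over S) (𝓔 : (PicF.XT (i ≫ (CohB1.ProjSpaceOver n S ↘ S)) R).Modules) (π : R ⟶ M)
    (𝒢 : (R.left ⟶ R.left) → Prop) (m : ℕ) (c : M.left ⟶ CohB1.ProjSpaceOver m S),
    Atlas (i ≫ (CohB1.ProjSpaceOver n S ↘ S)) (i ≫ prZ n S) sS P 𝓔 π 𝒢 ∧ IsClosedImmersion c ∧
      c ≫ (CohB1.ProjSpaceOver m S ↘ S) = M.hom ∧ Surjective π.left ∧
      ∀ Z Z' : Set R.left, IsClosed Z → IsClosed Z' → Disjoint Z Z' → (∀ γ, 𝒢 γ → γ '' Z ⊆ Z) →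
        (∀ γ, 𝒢 γ → γ '' Z' ⊆ Z') → Disjoint (π.left '' Z) (π.left '' Z')

theorem main_of_ex (h : AtlasEx S sS n X i P) : K53.Final.Main S sS n X i P := by
  obtain ⟨R, M, 𝓔, π, 𝒢, m, c, A, hc, hcM, -, hdisj⟩ := h
  exact main A c hc hcM hdisj

end Main

end K53.AsmFin
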