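import Mathlib.AlgebraicGeometry.Morphisms.FiniteType
import Mathlib.AlgebraicGeometry.Gluing

/-!
# Gluing morphisms in `Over S` from a local characterisation on affine schemes of finite type over `k`
-/

set_option autoImplicit false

universe u

open CategoryTheory CategoryTheory.Limits AlgebraicGeometry

namespace K53.Asm

variable {S : Scheme.{u}} {k : Type u} [Field k] (sS : S ⟶ Spec (CommRingCat.of k))

/-- `Spec B`, locally of finite type over `k`. -/
def Good (U : Over S) : Prop :=
  ∃ (B : Type u) (_ : CommRing B) (s : Spec (CommRingCat.of B) ⟶ S), LocallyOfFiniteType (s ≫ sS) ∧ U = Over.mk s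

theorem Good.lft {U : Over S} (h : Good sS U) : LocallyOfFiniteType (U.hom ≫ sS) := by
  obtain ⟨B, _, s, hs, rfl⟩ := h
  exact hs

/-- There are small open pieces. -/
theorem exists_good {P : Over S} (h : LocallyOfFiniteType (P.hom ≫ sS)) (x : P.left) :
    ∃ (W : Over S) (w : W ⟶ P), Good sS W ∧ IsOpenImmersion w.left ∧ x ∈ Set.range w.left := by
  obtain ⟨U, hU, hxU, -⟩ := exists_isAffineOpen_mem_and_subset (x := x) (U := ⊤) trivial
  let w₀ : Spec (CommRingCat.of Γ(P.left, U)) ⟶ P.left := hU.fromSpec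
  have hw₀ : IsOpenImmersion w₀ := inferInstanceAs (IsOpenImmersion hU.fromSpec)
  refine ⟨Over.mk (w₀ ≫ P.hom), Over.homMk w₀ rfl, ⟨Γ(P.left, U), inferInstance, w₀ ≫ P.hom, ?_, rfl⟩, hw₀, ?_⟩
  · rw [Category.assoc]
    infer_instance
  · change x ∈ Set.range hU.fromSpec
    rw [hU.range_fromSpec]
    exact hxU

theorem over_hom_ext {T M : Over S} {f g : T ⟶ M}
    (h : ∀ x : T.left, ∃ (W : Over S) (w : W ⟶ T), IsOpenImmersion w.left ∧ x ∈ Set.range w.left ∧ w ≫ f = w ≫ g) :
    f = g := by
  apply Over.OverMorphism.ext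
  refine Scheme.hom_ext_of_forall _ _ fun x => ?_
  obtain ⟨W, w, hw, hx, he⟩ := h x
  refine ⟨w.left.opensRange, hx, ?_⟩
  have e : w.left.opensRange.ι = (w.left.isoOpensRange).inv ≫ w.left := by
    rw [Scheme.Hom.isoOpensRange_inv_comp]
  have he' : w.left ≫ f.left = w.left ≫ g.left := congrArg (fun m => m.left) he
  rw [e, Category.assoc, Category.assoc, he']

variable {T M : Over S} {Ch : ∀ U : Over S, (U ⟶ T) → (U ⟶ M) → Prop}

/-- Two morphisms with the same characterisation agree locally. -/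
theorem eq_of_ch (huniq : ∀ (U : Over S), Good sS U → ∀ (u : U ⟶ T) (v v' : U ⟶ M), Ch U u v → Ch U u v' → v = v')
    (hnat : ∀ (U W : Over S), Good sS U → Good sS W → ∀ (g : W ⟶ U) (u : U ⟶ T) (v : U ⟶ M), Ch U u v →
      Ch W (g ≫ u) (g ≫ v))
    {U U' : Over S} (hU : Good sS U) (hU' : Good sS U') {u : U ⟶ T} {v : U ⟶ M} {u' : U' ⟶ T} {v' : U' ⟶ M}
    (h : Ch U u v) (h' : Ch U' u' v') {P : Over S} (hP : LocallyOfFiniteType (P.hom ≫ sS)) (a : P ⟶ U) (b : P ⟶ U')
    (hab : a ≫ u = b ≫ u') : a ≫ v = b ≫ v' := by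
  refine over_hom_ext fun x => ?_
  obtain ⟨W, w, hW, hw, hx⟩ := exists_good sS hP x
  refine ⟨W, w, hw, hx, ?_⟩
  have h1 := hnat U W hU hW (w ≫ a) u v h
  have h2 := hnat U' W hU' hW (w ≫ b) u' v' h'
  rw [Category.assoc, ← hab, ← Category.assoc] at h2
  rw [← Category.assoc, ← Category.assoc]
  exact huniq W hW _ _ _ h1 h2

/-- **Gluing.** -/
theorem exists_glue
    (hex : ∀ p : T.left, ∃ (U : Over S) (u : U ⟶ T) (v : U ⟶ M), Good sS U ∧ IsOpenImmersion u.left ∧
      p ∈ Set.range u.left ∧ Ch U u v)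
    (huniq : ∀ (U : Over S), Good sS U → ∀ (u : U ⟶ T) (v v' : U ⟶ M), Ch U u v → Ch U u v' → v = v')
    (hnat : ∀ (U W : Over S), Good sS U → Good sS W → ∀ (g : W ⟶ U) (u : U ⟶ T) (v : U ⟶ M), Ch U u v →
      Ch W (g ≫ u) (g ≫ v)) :
    ∃ y : T ⟶ M, ∀ (U : Over S), Good sS U → ∀ (u : U ⟶ T) (v : U ⟶ M), Ch U u v → v = u ≫ y := by
  choose U u v hU hu hp hc using hex
  let 𝒰 : Scheme.OpenCover.{u} T.left := Scheme.Cover.mkOfCovers T.left (fun p => (U p).left) (fun p => (u p).left)
    (fun p => ⟨p, (hp p).choose, (hp p).choose_spec⟩) hu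
  have hcomp : ∀ p q : T.left, pullback.fst (𝒰.f p) (𝒰.f q) ≫ (v p).left = pullback.snd (𝒰.f p) (𝒰.f q) ≫ (v q).left := by
    intro p q
    let P : Over S := Over.mk (pullback.fst (u p).left (u q).left ≫ (U p).hom)
    let a : P ⟶ U p := Over.homMk (pullback.fst (u p).left (u q).left) rfl
    let b : P ⟶ U q := Over.homMk (pullback.snd (u p).left (u q).left) (by
      change pullback.snd (u p).left (u q).left ≫ (U q).hom = pullback.fst (u p).left (u q).left ≫ (U p).hom
      rw [← Over.w (u q), ← Over.w (u p), ← Category.assoc, ← Category.assoc, pullback.condition])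
    have hP : LocallyOfFiniteType (P.hom ≫ sS) := by
      have := hu q
      have := Good.lft sS (hU p)
      change LocallyOfFiniteType ((pullback.fst (u p).left (u q).left ≫ (U p).hom) ≫ sS)
      rw [Category.assoc]
      infer_instance
    have h := eq_of_ch sS huniq hnat (hU p) (hU q) (hc p) (hc q) hP a b (Over.OverMorphism.ext pullback.condition)
    exact congrArg (fun m => m.left) h
  let y₀ : T.left ⟶ M.left := 𝒰.glueMorphisms (fun p => (v p).left) hcomp
  have hy : ∀ p : T.left, (u p).left ≫ y₀ = (v p).left := fun p => 𝒰.ι_glueMorphisms _ _ p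
  let y : T ⟶ M := Over.homMk y₀ (by
    refine 𝒰.hom_ext _ _ fun p => ?_
    exact (Category.assoc _ _ _).symm.trans ((congrArg (· ≫ M.hom) (hy p)).trans ((Over.w (v p)).trans
      (Over.w (u p)).symm)))
  have hy' : ∀ p : T.left, u p ≫ y = v p := fun p => Over.OverMorphism.ext (hy p)
  refine ⟨y, fun V hV w z hz => over_hom_ext fun x => ?_⟩
  let p := w.left x
  let P : Over S := Over.mk (pullback.fst w.left (u p).left ≫ V.hom)
  let a : P ⟶ V := Over.homMk (pullback.fst w.left (u p).left) rfl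
  let b : P ⟶ U p := Over.homMk (pullback.snd w.left (u p).left) (by
      change pullback.snd w.left (u p).left ≫ (U p).hom = pullback.fst w.left (u p).left ≫ V.hom
      rw [← Over.w (u p), ← Over.w w, ← Category.assoc, ← Category.assoc, pullback.condition])
  have hup := hu p
  have hP : LocallyOfFiniteType (P.hom ≫ sS) := by
    have := Good.lft sS hV
    change LocallyOfFiniteType ((pullback.fst w.left (u p).left ≫ V.hom) ≫ sS)
    rw [Category.assoc]
    infer_instance
  have hab : a ≫ w = b ≫ u p := Over.OverMorphism.ext pullback.condition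
  have h := eq_of_ch sS huniq hnat hV (hU p) hz (hc p) hP a b hab
  refine ⟨P, a, inferInstanceAs (IsOpenImmersion (pullback.fst w.left (u p).left)), ?_, ?_⟩
  · change x ∈ Set.range (pullback.fst w.left (u p).left)
    rw [IsOpenImmersion.range_pullbackFst]
    exact hp p
  · rw [h, ← hy' p, ← Category.assoc, ← hab, Category.assoc]

end K53.Asm
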