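import Groth.Agent.Coherent.K53.AsmFin
import Groth.Agent.Coherent.K585.Sur
import Groth.Agent.CurvesB.UnitCoh

/-!
# The degenerate case: no semistable sheaves
-/

set_option autoImplicit false

universe u v

open CategoryTheory CategoryTheory.Limits AlgebraicGeometry Opposite

namespace K53.AtlasEmpty

open Groth.Agent Groth.Agent.Fga QA0 QA1 QTDefs QTPull QT4 QT4b QT5 QT6a QT6c QT8 K585.KronK K585.Defs K585.Good
  K53.AdmPull K585.Coords

variable {k : Type u} [Field k] [IsAlgClosed k] {n : ℕ} {X S : Scheme.{u}} (f : X ⟶ S) (g₀ : X ⟶ PZ n)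
  (sS : S ⟶ Spec (CommRingCat.of k)) (P : Polynomial ℚ)

/-- The empty scheme over `S`. -/
noncomputable abbrev ES (S : Scheme.{u}) : Over S := Over.mk (Scheme.emptyTo S)

/-- The trivial sheaf. -/
noncomputable abbrev E0 : (PicF.XT f (ES S)).Modules := Coh.structureModule _

instance : IsEmpty (ES S).left := inferInstanceAs (IsEmpty (∅ : Scheme.{u}))

instance isEmpty_XT : IsEmpty (PicF.XT f (ES S)) := by
  have := (PicF.XTproj f (ES S)).base
  exact Function.isEmpty (fun x => (PicF.XTproj f (ES S)) x)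

variable (h : ∀ s : Spec (CommRingCat.of k) ⟶ S, s ≫ sS = 𝟙 _ → ∀ E : (PicF.XT f (Over.mk s)).Modules,
  ¬ @SSh k _ n _ (ovr f s) (gT f g₀ (Over.mk s)) P E)

include h in
theorem atlas : Atlas f g₀ sS P (E0 f) (𝟙 (ES S)) (fun _ => False) where
  ft := by
    refine ⟨?_, ?_, ?_⟩
    · change LocallyOfFiniteType (Scheme.emptyTo S ≫ sS)
      infer_instance
    · change QuasiCompact (Scheme.emptyTo S ≫ sS)
      infer_instance
    · change IsSeparated (Scheme.emptyTo S ≫ sS)
      infer_instance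
  adm := 
    { coh := CurvesB.UnitCoh.isCoh_structureModule _
      flat := fun x => (isEmpty_XT f).elim x
      ssh := fun t _ => False.elim (IsEmpty.false (α := (ES S).left) (t (IsLocalRing.closedPoint k : PrimeSpectrum k))) }
  hov _ h := h.elim
  loc {B} _ s _ E hE y := by
    exfalso
    obtain ⟨𝔪, h𝔪, hle⟩ := Ideal.exists_le_maximal y.asIdeal y.isPrime.ne_top
    obtain ⟨ψ, hψ, hψc⟩ := K585.Sur.exists_retract (sB (s ≫ sS)) (K585.Sur.sB_finiteType _) 𝔪 h𝔪
    let t : Spec (CommRingCat.of k) ⟶ Spec (CommRingCat.of B) := Spec.map (CommRingCat.ofHom ψ)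
    have hsB : sB (t ≫ s ≫ sS) = RingHom.id k := by
      rw [K585.RepR.sB_comp]
      exact hψc
    have ht : t ≫ s ≫ sS = 𝟙 _ := by
      rw [← K585.Sur.spec_sB (t ≫ s ≫ sS), hsB]
      exact Spec.map_id _
    exact h (t ≫ s) (by rw [Category.assoc]; exact ht) _ (hE.ssh t ht)
  rel _ _ x y _ := by
    have hxy : x = y := by
      apply Over.OverMorphism.ext
      have h1 : x.left ≫ Scheme.emptyTo S = y.left ≫ Scheme.emptyTo S := (Over.w x).trans (Over.w y).symm
      rwa [cancel_mono] at h1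
    rw [hxy]
  inv _ h := h.elim
  cat T ψ _ := ⟨ψ, Category.id_comp _, fun y hy => ((Category.id_comp y).symm.trans hy)⟩

section Main

variable {S : Scheme.{0}} {sS : S ⟶ Spec (CommRingCat.of ℂ)} [LocallyOfFiniteType sS]
  {n : ℕ} {X : Scheme.{0}} {i : X ⟶ CohB1.ProjSpaceOver n S} [IsClosedImmersion i] {P : Polynomial ℚ}

omit [LocallyOfFiniteType sS] [IsClosedImmersion i] in
theorem atlasEx (h : ∀ s : Spec (CommRingCat.of ℂ) ⟶ S, s ≫ sS = 𝟙 _ →
    ∀ E : (PicF.XT (i ≫ (CohB1.ProjSpaceOver n S ↘ S)) (Over.mk s)).Modules,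
    ¬ @SSh ℂ _ n _ (ovr (i ≫ (CohB1.ProjSpaceOver n S ↘ S)) s)
      (gT (i ≫ (CohB1.ProjSpaceOver n S ↘ S)) (i ≫ prZ n S) (Over.mk s)) P E) :
    K53.AsmFin.AtlasEx S sS n X i P := by
  refine ⟨ES S, ES S, E0 _, 𝟙 _, fun _ => False, 0, Scheme.emptyTo _, atlas _ _ sS P h, ?_, ?_, ?_, ?_⟩
  · infer_instance
  · exact Scheme.empty_ext _ _
  · change Surjective (𝟙 (∅ : Scheme))
    infer_instance
  · intro Z Z' _ _ _ _ _
    rw [Set.disjoint_left]
    intro x
    exact (IsEmpty.false (α := (ES S).left) x).elim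

end Main

end K53.AtlasEmpty
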