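import Groth.Agent.Coherent.K53.FlatPt
import Groth.Agent.ShStab.K846.Twist
import Groth.Agent.Ega2.VeryAmpleAmple

/-!
# Quotients with given Hilbert polynomial which are not flat at a given point
-/

set_option autoImplicit false
set_option linter.unusedSectionVars false
set_option linter.unusedVariables false

universe u

open CategoryTheory CategoryTheory.Limits AlgebraicGeometry Polynomial TensorProduct

namespace K53.BadQuot

open Groth.Agent Groth.Agent.CycB.StalkExact Groth.Agent.Fdesc.PullbackStalk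

/-- Flatness at a point passes to pullbacks. -/
theorem isFlatAt_pullback {X P : Scheme.{u}} (p : P ⟶ X) {M : X.Modules} {z : P}
    (h : FlatMod.IsFlatAt M (p.base z)) : FlatMod.IsFlatAt ((Scheme.Modules.pullback p).obj M) z := by
  letI := stalkAlg p z
  haveI : Module.Flat (X.presheaf.stalk (p.base z)) (M.presheaf.stalk (p.base z)) := h
  exact Module.Flat.of_linearEquiv (stalkPullbackEquiv p M z).symm

variable (k : Type u) [Field k]

/-- A coherent quotient of `M` with Hilbert polynomial `Φ` with respect to `N` which is not flat at `y`. -/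
def Bad (Y : Scheme.{u}) [Y.Over (Spec (CommRingCat.of k))] (N M : Y.Modules) (y : Y) (Φ : ℚ[X]) : Prop :=
  ∃ (G : Y.Modules) (π : M ⟶ G), Epi π ∧ Coh.IsCoh G ∧ ShStab.IsHilbPoly k Y N G Φ ∧
    ¬ FlatMod.IsFlatAt G y

variable {k}

theorem isHilbPoly_pull {Y Y' : Scheme.{u}} [Y.Over (Spec (CommRingCat.of k))]
    [Y'.Over (Spec (CommRingCat.of k))] [IsProper (Y ↘ Spec (CommRingCat.of k))] (a : Y' ⟶ Y) [IsIso a]
    (ha : a ≫ (Y ↘ Spec (CommRingCat.of k)) = Y' ↘ Spec (CommRingCat.of k)) {N M : Y.Modules}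
    (hN : PicF.IsInvertible N) (hM : Coh.IsCoh M) {Φ : ℚ[X]} :
    ShStab.IsHilbPoly k Y' ((Scheme.Modules.pullback a).obj N) ((Scheme.Modules.pullback a).obj M) Φ ↔
      ShStab.IsHilbPoly k Y N M Φ := by
  have hln : IsLocallyNoetherian Y := LocallyOfFiniteType.isLocallyNoetherian (Y ↘ Spec (CommRingCat.of k))
  have H1 : IsPullback a (Y' ↘ Spec (CommRingCat.of k)) (Y ↘ Spec (CommRingCat.of k)) (𝟙 _) :=
    IsPullback.of_horiz_isIso ⟨by rw [ha, Category.comp_id]⟩
  have H2 : IsPullback (𝟙 Y) (Y ↘ Spec (CommRingCat.of k)) (Y ↘ Spec (CommRingCat.of k)) (𝟙 _) :=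
    IsPullback.of_horiz_isIso ⟨by simp⟩
  rw [K846.Twist.isHilbPoly_pt (Y ↘ Spec (CommRingCat.of k)) (𝟙 _) (IsLocalRing.closedPoint k) a H1 hN hM,
    ← K846.Twist.isHilbPoly_pt (Y ↘ Spec (CommRingCat.of k)) (𝟙 _) (IsLocalRing.closedPoint k) (𝟙 Y) H2 hN hM]
  exact K846.Twist.isHilbPoly_iso_iff ((Scheme.Modules.pullbackId Y).app N) ((Scheme.Modules.pullbackId Y).app M)

/-- Transport along an isomorphism. -/
theorem Bad.pull {Y Y' : Scheme.{u}} [Y.Over (Spec (CommRingCat.of k))]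
    [Y'.Over (Spec (CommRingCat.of k))] [IsProper (Y ↘ Spec (CommRingCat.of k))] (a : Y' ⟶ Y) [IsIso a]
    (ha : a ≫ (Y ↘ Spec (CommRingCat.of k)) = Y' ↘ Spec (CommRingCat.of k)) {N M : Y.Modules}
    (hN : PicF.IsInvertible N) {N' M' : Y'.Modules}
    (eN : (Scheme.Modules.pullback a).obj N ≅ N') (eM : (Scheme.Modules.pullback a).obj M ≅ M')
    {y : Y} {y' : Y'} (hy : a.base y' = y) {Φ : ℚ[X]} (h : Bad k Y N M y Φ) : Bad k Y' N' M' y' Φ := by
  obtain ⟨G, π, hπ, hG, hH, hfl⟩ := h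
  subst hy
  refine ⟨(Scheme.Modules.pullback a).obj G, eM.inv ≫ (Scheme.Modules.pullback a).map π, ?_,
    FormalA.PullbackQC.isCoh_pullback _ _ hG, ?_, fun hf => hfl ?_⟩
  · have : Epi ((Scheme.Modules.pullback a).map π) := inferInstance
    infer_instance
  · exact K846.Twist.isHilbPoly_iso eN (Iso.refl _) ((isHilbPoly_pull a ha hN hG).2 hH)
  · have h1 : FlatMod.IsFlatAt ((Scheme.Modules.pullback (inv a)).obj ((Scheme.Modules.pullback a).obj G))
        (a.base y') := by
      refine isFlatAt_pullback (inv a) ?_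
      have h2 : (inv a).base (a.base y') = y' := by
        change (a ≫ inv a).base y' = y'
        rw [IsIso.hom_inv_id]
        rfl
      rw [h2]
      exact hf
    exact Dcoh.Spread.isFlatAt_of_iso ((Scheme.Modules.pullbackComp (inv a) a).app G ≪≫
      (Scheme.Modules.pullbackCongr (IsIso.inv_hom_id a)).app G ≪≫ (Scheme.Modules.pullbackId Y).app G) _ h1

theorem Bad.of_iso {Y : Scheme.{u}} [Y.Over (Spec (CommRingCat.of k))] {N N' M M' : Y.Modules}
    (eN : N ≅ N') (eM : M ≅ M') {y : Y} {Φ : ℚ[X]} (h : Bad k Y N M y Φ) : Bad k Y N' M' y Φ := by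
  obtain ⟨G, π, hπ, hG, hH, hfl⟩ := h
  exact ⟨G, eM.inv ≫ π, inferInstance, hG, K846.Twist.isHilbPoly_iso eN (Iso.refl _) hH, hfl⟩

/-- Transport along an isomorphism, both directions. -/
theorem bad_iff {Y Y' : Scheme.{u}} [Y.Over (Spec (CommRingCat.of k))]
    [Y'.Over (Spec (CommRingCat.of k))] [IsProper (Y ↘ Spec (CommRingCat.of k))]
    [IsProper (Y' ↘ Spec (CommRingCat.of k))] (a : Y' ⟶ Y) [IsIso a]
    (ha : a ≫ (Y ↘ Spec (CommRingCat.of k)) = Y' ↘ Spec (CommRingCat.of k)) {N M : Y.Modules}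
    (hN : PicF.IsInvertible N) {N' M' : Y'.Modules}
    (eN : (Scheme.Modules.pullback a).obj N ≅ N') (eM : (Scheme.Modules.pullback a).obj M ≅ M')
    {y : Y} {y' : Y'} (hy : a.base y' = y) {Φ : ℚ[X]} : Bad k Y' N' M' y' Φ ↔ Bad k Y N M y Φ := by
  constructor
  · intro h
    have ha' : inv a ≫ (Y' ↘ Spec (CommRingCat.of k)) = Y ↘ Spec (CommRingCat.of k) := by
      rw [← ha, IsIso.inv_hom_id_assoc]
    have hy' : (inv a).base y = y' := by
      rw [← hy]
      change (a ≫ inv a).base y' = y'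
      rw [IsIso.hom_inv_id]
      rfl
    have hN' : PicF.IsInvertible N' := Ega2.VeryAmpleAmple.isInvertible_of_iso eN (Fdesc.LocGen.isInvertible_pullback a hN)
    refine h.pull (inv a) ha' hN'
      ((Scheme.Modules.pullback (inv a)).mapIso eN.symm ≪≫ (Scheme.Modules.pullbackComp (inv a) a).app N ≪≫
        (Scheme.Modules.pullbackCongr (IsIso.inv_hom_id a)).app N ≪≫ (Scheme.Modules.pullbackId Y).app N)
      ((Scheme.Modules.pullback (inv a)).mapIso eM.symm ≪≫ (Scheme.Modules.pullbackComp (inv a) a).app M ≪≫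
        (Scheme.Modules.pullbackCongr (IsIso.inv_hom_id a)).app M ≪≫ (Scheme.Modules.pullbackId Y).app M) hy'
  · exact fun h => h.pull a ha hN eN eM hy

end K53.BadQuot
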