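import Groth.Agent.Sga2.LefCoh644
import Groth.Agent.Sga67.TwistOver
import Groth.Agent.Ega3B.SerreTwist
import Groth.Agent.Ega3B.ProjFrame

/-!
# Coherent modules on a closed subscheme of projective space over an affine base as quotients of sums of twists
-/

set_option autoImplicit false
set_option linter.unusedSectionVars false
set_option linter.unusedVariables false

universe u

open CategoryTheory CategoryTheory.Limits AlgebraicGeometry

namespace K53.EpiTw

open Groth.Agent

variable {X S : Scheme.{u}} (n : ℕ) (i : X ⟶ CohB1.ProjSpaceOver n S)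

/-- `O(-a)` is the `a`-th power of `O(-1)`. -/
theorem nonempty_neg (a : ℕ) : Nonempty (CohB1.tensorPow (Twist.twistOver n S (-1)) a ≅
    Twist.twistOver n S (-(a : ℤ))) := by
  induction a with
  | zero =>
    obtain ⟨e⟩ := Sga67.TwistOver.nonempty_twistOver_zero n S
    rw [Nat.cast_zero, neg_zero]
    exact ⟨e.symm⟩
  | succ a ih =>
    obtain ⟨e⟩ := ih
    obtain ⟨e'⟩ := Sga67.TwistOver.nonempty_twistOver_mul n S (-(a : ℤ)) (-1)
    have h : -(a : ℤ) + (-1 : ℤ) = -((a + 1 : ℕ) : ℤ) := by push_cast; ring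
    rw [h] at e'
    exact ⟨Ega2.Tens.mapTIso e (Iso.refl _) ≪≫ e'⟩

theorem isInverseOf : ClSub.IsInverseOf ((Scheme.Modules.pullback i).obj (Twist.twistOver n S 1))
    ((Scheme.Modules.pullback i).obj (Twist.twistOver n S (-1))) := by
  obtain ⟨e⟩ := Sga67.TwistOver.nonempty_twistOver_mul n S 1 (-1)
  obtain ⟨e0⟩ := Sga67.TwistOver.nonempty_twistOver_zero n S
  obtain ⟨e1⟩ := Ega3B.PullTensor.nonempty_pullUnitIso i
  rw [add_neg_cancel] at e
  exact ⟨(Ega3B.PullTensor.pullTensorIso i (Ega3B.ProjFrame.isInvertible_twistOver n 1)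
    (Ega3B.ProjFrame.isInvertible_twistOver n (-1))).symm ≪≫
    (Scheme.Modules.pullback i).mapIso (e ≪≫ e0) ≪≫ e1⟩

/-- Coherent modules are quotients of finite sums of a twisting sheaf. -/
theorem exists_epi [IsClosedImmersion i] [IsAffine S] {E : X.Modules} (hE : Coh.IsCoh E) :
    ∃ (p : ℕ) (ν : ℤ) (q : (∐ fun _ : Fin p => (Scheme.Modules.pullback i).obj (Twist.twistOver n S ν)) ⟶ E),
      Epi q := by
  have hA : CohB1.IsAmple ((Scheme.Modules.pullback i).obj (Twist.twistOver n S 1)) :=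
    Ega3B.SerreTwist.isAmple_lineOne n i
  obtain ⟨κ, hκ, a, π, hπ⟩ := Sga2.LefCoh644.exists_epi hA (isInverseOf n i) hE.1 hE.2
  have := Fintype.ofFinite κ
  obtain ⟨e⟩ := nonempty_neg (S := S) n a
  obtain ⟨e'⟩ := Ega3B.PullTensor.nonempty_pullPowIso i
    (Ega3B.ProjFrame.isInvertible_twistOver n (Y := S) (-1)) a
  let e2 : (Scheme.Modules.pullback i).obj (Twist.twistOver n S (-(a : ℤ))) ≅
      CohB1.tensorPow ((Scheme.Modules.pullback i).obj (Twist.twistOver n S (-1))) a :=
    (Scheme.Modules.pullback i).mapIso e.symm ≪≫ e'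
  let w : (∐ fun _ : Fin (Fintype.card κ) => (Scheme.Modules.pullback i).obj (Twist.twistOver n S (-(a : ℤ)))) ≅
      (∐ fun _ : κ => CohB1.tensorPow ((Scheme.Modules.pullback i).obj (Twist.twistOver n S (-1))) a) :=
    Sigma.whiskerEquiv (Fintype.equivFin κ).symm (fun _ => e2.symm)
  exact ⟨Fintype.card κ, -(a : ℤ), w.hom ≫ π, inferInstance⟩

end K53.EpiTw
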