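import Groth.Agent.S0392
import Groth.Agent.Fdesc.FlatBC
import Groth.Agent.CycB.StalkLoc
import Groth.Prelude.Def_FlatMod2

/-!
# Flatness at a point from flatness over the base and flatness on the fibre

`isFlatAt_of_fibre`: in a cartesian square `P = X ×_S T` with the local ring of `T` a field, a coherent
module on `X` which is flat over `S` at `p z` and whose pullback to `P` is flat at `z` is flat at `p z`.
-/

set_option autoImplicit false
set_option linter.style.haveILetI false
set_option linter.unusedVariables false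

universe u

open CategoryTheory CategoryTheory.Limits AlgebraicGeometry TensorProduct

namespace K53.FibFlat

section Algebra

theorem flat_of_surjective {P Q M : Type u} [CommRing P] [CommRing Q] [Algebra P Q]
    (hs : Function.Surjective (algebraMap P Q)) [AddCommGroup M] [Module P M] [Module Q M]
    [IsScalarTower P Q M] [Module.Flat P M] : Module.Flat Q M := by
  have hc : ∀ (N : Type u) [AddCommGroup N] [Module P N] [Module Q N] [IsScalarTower P Q N],
      TensorProduct.CompatibleSMul P Q N M := fun N _ _ _ _ => ⟨fun q x m => by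
    obtain ⟨r, rfl⟩ := hs q
    rw [algebraMap_smul, algebraMap_smul, smul_tmul]⟩
  have := hc Q
  exact Module.Flat.of_linearEquiv (TensorProduct.lidOfCompatibleSMul P Q M).symm

theorem flat_ringHom_of_surjective {P Q U : Type u} [CommRing P] [CommRing Q] [CommRing U]
    (f : P →+* Q) (hf : Function.Surjective f) (g : Q →+* U) (h : (g.comp f).Flat) : g.Flat := by
  letI := f.toAlgebra
  letI := g.toAlgebra
  letI := (g.comp f).toAlgebra
  haveI : IsScalarTower P Q U := IsScalarTower.of_algebraMap_eq fun _ => rfl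
  haveI : Module.Flat P U := h
  exact flat_of_surjective hf

variable {R S T U : Type u} [CommRing R] [IsLocalRing R] [CommRing S] [CommRing T] [CommRing U]
    [Algebra R S] [Algebra R T] [Algebra R U] [Algebra S U] [Algebra T U]
    [IsScalarTower R S U] [IsScalarTower R T U]

theorem flat_lift
    (h : (Algebra.TensorProduct.productMap (IsScalarTower.toAlgHom R S U)
      (IsScalarTower.toAlgHom R T U)).toRingHom.Flat)
    (h0 : ∀ a ∈ IsLocalRing.maximalIdeal R, algebraMap R T a = 0)
    (h0' : ∀ s ∈ (IsLocalRing.maximalIdeal R).map (algebraMap R S), algebraMap S U s = 0) :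
    (Ideal.Quotient.lift ((IsLocalRing.maximalIdeal R).map (algebraMap R S)) (algebraMap S U)
      h0').Flat := by
  let mS := (IsLocalRing.maximalIdeal R).map (algebraMap R S)
  let k := R ⧸ IsLocalRing.maximalIdeal R
  let Sb := S ⧸ mS
  letI : Field k := Ideal.Quotient.field _
  letI : Algebra k T := (Ideal.Quotient.lift _ (algebraMap R T) h0).toAlgebra
  letI : Algebra k Sb := (Ideal.quotientMap mS (algebraMap R S) Ideal.le_comap_map).toAlgebra
  letI : Algebra Sb U := (Ideal.Quotient.lift mS (algebraMap S U) h0').toAlgebra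
  haveI : IsScalarTower R k T := IsScalarTower.of_algebraMap_eq fun _ => rfl
  haveI : IsScalarTower R k Sb := IsScalarTower.of_algebraMap_eq fun _ => rfl
  haveI : IsScalarTower R Sb U := IsScalarTower.of_algebraMap_eq fun r => by
    rw [IsScalarTower.algebraMap_apply R S U]
    rfl
  have hcs : TensorProduct.CompatibleSMul R k Sb T := ⟨fun q x m => by
    obtain ⟨r, rfl⟩ := Ideal.Quotient.mk_surjective q
    have e1 : (Ideal.Quotient.mk _ r : k) = algebraMap R k r := rfl
    rw [e1, algebraMap_smul, algebraMap_smul, smul_tmul]⟩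
  haveI hT : Module.Flat k T := inferInstance
  haveI h1 : Module.Flat Sb (Sb ⊗[k] T) := inferInstance
  haveI h2 : Module.Flat Sb (Sb ⊗[R] T) :=
    Module.Flat.of_linearEquiv (TensorProduct.equivOfCompatibleSMul R k Sb Sb T).symm
  let g' : Sb ⊗[R] T →ₐ[R] U := Algebra.TensorProduct.productMap (IsScalarTower.toAlgHom R Sb U)
    (IsScalarTower.toAlgHom R T U)
  let f' : S ⊗[R] T →ₐ[R] Sb ⊗[R] T :=
    Algebra.TensorProduct.map (Ideal.Quotient.mkₐ R mS) (AlgHom.id R T)
  have hf' : Function.Surjective f' :=
    TensorProduct.map_surjective Ideal.Quotient.mk_surjective Function.surjective_id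
  have hg' : g'.toRingHom.Flat := by
    refine flat_ringHom_of_surjective f'.toRingHom hf' g'.toRingHom ?_
    have e : g'.toRingHom.comp f'.toRingHom =
        (Algebra.TensorProduct.productMap (IsScalarTower.toAlgHom R S U)
          (IsScalarTower.toAlgHom R T U)).toRingHom := by
      have : g'.comp f' = Algebra.TensorProduct.productMap (IsScalarTower.toAlgHom R S U)
          (IsScalarTower.toAlgHom R T U) := by
        ext s
        · simp [g', f']
          rfl
        · simp [g', f']
      rw [← this]
      rfl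
    rw [e]
    exact h
  have h3 : (algebraMap Sb (Sb ⊗[R] T)).Flat := by
    rw [RingHom.flat_algebraMap_iff]
    exact h2
  have h4 := RingHom.Flat.comp h3 hg'
  have e : g'.toRingHom.comp (algebraMap Sb (Sb ⊗[R] T)) =
      Ideal.Quotient.lift mS (algebraMap S U) h0' := by
    ext s
    change g' (algebraMap Sb (Sb ⊗[R] T) (Ideal.Quotient.mk mS s)) = algebraMap S U s
    rw [Algebra.TensorProduct.algebraMap_apply, Algebra.TensorProduct.productMap_apply_tmul, map_one,
      mul_one]
    rfl
  rwa [e] at h4

theorem flat_quot_of_cube [IsLocalRing S] [IsLocalRing U] [IsLocalHom (algebraMap S U)]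
    [IsLocalHom (algebraMap R S)]
    (h : (Algebra.TensorProduct.productMap (IsScalarTower.toAlgHom R S U)
      (IsScalarTower.toAlgHom R T U)).toRingHom.Flat)
    (h0 : ∀ a ∈ IsLocalRing.maximalIdeal R, algebraMap R T a = 0)
    {M : Type u} [AddCommGroup M] [Module S M] [Module.Flat U (U ⊗[S] M)] :
    Module.Flat (S ⧸ ((IsLocalRing.maximalIdeal R).map (algebraMap R S)))
      ((S ⧸ ((IsLocalRing.maximalIdeal R).map (algebraMap R S))) ⊗[S] M) := by
  let mS := (IsLocalRing.maximalIdeal R).map (algebraMap R S)
  have h0' : ∀ s ∈ (IsLocalRing.maximalIdeal R).map (algebraMap R S), algebraMap S U s = 0 := by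
    have : mS ≤ RingHom.ker (algebraMap S U) := by
      rw [Ideal.map_le_iff_le_comap]
      intro a ha
      rw [Ideal.mem_comap, RingHom.mem_ker, ← IsScalarTower.algebraMap_apply R S U,
        IsScalarTower.algebraMap_apply R T U, h0 a ha, map_zero]
    exact fun s hs => this hs
  have hfl := flat_lift h h0 h0'
  have hne : mS ≠ ⊤ := by
    intro e
    have h1 : (1 : S) ∈ mS := by rw [e]; trivial
    have h2 := h0' 1 h1
    rw [map_one] at h2
    exact one_ne_zero h2
  haveI : Nontrivial (S ⧸ mS) := Ideal.Quotient.nontrivial_iff.2 hne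
  haveI : IsLocalRing (S ⧸ mS) := IsLocalRing.of_surjective' _ Ideal.Quotient.mk_surjective
  letI : Algebra (S ⧸ mS) U := (Ideal.Quotient.lift mS (algebraMap S U) h0').toAlgebra
  haveI : IsScalarTower S (S ⧸ mS) U := IsScalarTower.of_algebraMap_eq fun _ => rfl
  haveI : IsLocalHom (algebraMap (S ⧸ mS) U) := ⟨fun a ha => by
    obtain ⟨s, rfl⟩ := Ideal.Quotient.mk_surjective a
    have h1 : IsUnit (algebraMap S U s) := ha
    exact ((isUnit_map_iff (algebraMap S U) s).1 h1).map _⟩
  haveI : Module.Flat (S ⧸ mS) U := hfl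
  haveI : Module.FaithfullyFlat (S ⧸ mS) U := Module.FaithfullyFlat.of_flat_of_isLocalHom
  have h5 : Module.Flat U (U ⊗[S ⧸ mS] ((S ⧸ mS) ⊗[S] M)) :=
    Module.Flat.of_linearEquiv (AlgebraTensorModule.cancelBaseChange S (S ⧸ mS) U U M)
  have h6 : Module.Flat (S ⧸ mS) (U ⊗[S ⧸ mS] ((S ⧸ mS) ⊗[S] M)) :=
    Module.Flat.trans (S ⧸ mS) U _
  exact Groth.Agent.Fdesc.FlatAlg.flat_of_flat_tensor (S' := U) h6

end Algebra

open Groth.Agent.Fdesc.PullbackStalk Groth.Agent.Fdesc.FlatBC

variable {P X T S : Scheme.{u}} {p : P ⟶ X} {q : P ⟶ T} {f : X ⟶ S} {g : T ⟶ S}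

theorem isFlatAt_of_fibre [IsLocallyNoetherian X] [IsLocallyNoetherian S] (H : IsPullback p q f g)
    (z : P) (hT : IsField (T.presheaf.stalk (q.base z))) (F : X.Modules) (hF : Coh.IsCoh F)
    (hfl : FlatMod.IsFlatOverAt f F (p.base z))
    (h : FlatMod.IsFlatAt ((Scheme.Modules.pullback p).obj F) z) : FlatMod.IsFlatAt F (p.base z) := by
  by_cases hx : Nontrivial (F.presheaf.stalk (p.base z))
  swap
  · rw [not_nontrivial_iff_subsingleton] at hx
    exact (inferInstance : Module.Flat (X.presheaf.stalk (p.base z)) (F.presheaf.stalk (p.base z)))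
  letI := stalkAlg f (p.base z)
  letI : Algebra (S.presheaf.stalk (f.base (p.base z))) (T.presheaf.stalk (q.base z)) :=
    (crossMap H.w z).hom.toAlgebra
  letI := stalkAlg p z
  letI := stalkAlg q z
  letI : Algebra (S.presheaf.stalk (f.base (p.base z))) (P.presheaf.stalk z) :=
    (f.stalkMap (p.base z) ≫ p.stalkMap z).hom.toAlgebra
  haveI : IsScalarTower (S.presheaf.stalk (f.base (p.base z))) (X.presheaf.stalk (p.base z))
    (P.presheaf.stalk z) := IsScalarTower.of_algebraMap_eq fun _ => rfl
  haveI : IsScalarTower (S.presheaf.stalk (f.base (p.base z))) (T.presheaf.stalk (q.base z))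
    (P.presheaf.stalk z) := IsScalarTower.of_algebraMap_eq fun r =>
      (ConcreteCategory.congr_hom (crossMap_comp H.w z) r).symm
  haveI : IsLocalHom (algebraMap (S.presheaf.stalk (f.base (p.base z))) (X.presheaf.stalk (p.base z))) :=
    inferInstanceAs (IsLocalHom (f.stalkMap (p.base z)).hom)
  haveI : IsLocalHom (algebraMap (X.presheaf.stalk (p.base z)) (P.presheaf.stalk z)) :=
    inferInstanceAs (IsLocalHom (p.stalkMap z).hom)
  haveI : Module.Flat (P.presheaf.stalk z)
      (P.presheaf.stalk z ⊗[X.presheaf.stalk (p.base z)] F.presheaf.stalk (p.base z)) := by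
    haveI : Module.Flat (P.presheaf.stalk z)
      (((Scheme.Modules.pullback p).obj F).presheaf.stalk z) := h
    exact Module.Flat.of_linearEquiv (stalkPullbackEquiv p F z)
  have h0 : ∀ a ∈ IsLocalRing.maximalIdeal (S.presheaf.stalk (f.base (p.base z))),
      algebraMap _ (T.presheaf.stalk (q.base z)) a = 0 := by
    intro a ha
    by_contra hne
    obtain ⟨b, hb⟩ := hT.mul_inv_cancel hne
    have hu : IsUnit (algebraMap (S.presheaf.stalk (f.base (p.base z)))
      (T.presheaf.stalk (q.base z)) a) := IsUnit.of_mul_eq_one b hb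
    have hu2 : IsUnit (algebraMap (S.presheaf.stalk (f.base (p.base z))) (P.presheaf.stalk z) a) := by
      rw [IsScalarTower.algebraMap_apply _ (T.presheaf.stalk (q.base z)) (P.presheaf.stalk z)]
      exact hu.map _
    rw [IsScalarTower.algebraMap_apply _ (X.presheaf.stalk (p.base z)) (P.presheaf.stalk z),
      isUnit_map_iff, isUnit_map_iff] at hu2
    exact (IsLocalRing.mem_maximalIdeal _).1 ha hu2
  haveI : Module.Finite (X.presheaf.stalk (p.base z)) (F.presheaf.stalk (p.base z)) :=
    Groth.Agent.CycB.StalkLoc.finite_stalk F hF _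
  letI := FlatMod.moduleStalkOver f F (p.base z)
  haveI : IsScalarTower (S.presheaf.stalk (f.base (p.base z))) (X.presheaf.stalk (p.base z))
    (F.presheaf.stalk (p.base z)) := ⟨fun a b m => by rw [Algebra.smul_def, mul_smul]; rfl⟩
  haveI : Module.Flat (S.presheaf.stalk (f.base (p.base z))) (F.presheaf.stalk (p.base z)) := hfl
  exact (Groth.Agent.S0392.result (S' := X.presheaf.stalk (p.base z))
    (flat_quot_of_cube (flat_productMap_stalk H z) h0)).2

theorem isField_stalk_Spec (k : Type u) [Field k] (x : Spec (CommRingCat.of k)) :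
    IsField ((Spec (CommRingCat.of k)).presheaf.stalk x) := by
  let x' : PrimeSpectrum k := x
  have hx : x'.asIdeal = ⊥ := by
    rcases Ideal.eq_bot_or_top x'.asIdeal with h | h
    · exact h
    · exact absurd h x'.2.ne_top
  have hu : ∀ y ∈ x'.asIdeal.primeCompl, IsUnit y := by
    intro y hy
    refine isUnit_iff_ne_zero.2 fun h0 => hy ?_
    rw [h0]
    exact zero_mem _
  letI : Algebra k ((Spec (CommRingCat.of k)).presheaf.stalk x) := StructureSheaf.stalkAlgebra k x'
  have h1 : IsLocalization.AtPrime ((Spec (CommRingCat.of k)).presheaf.stalk x) x'.asIdeal :=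
    StructureSheaf.IsLocalization.to_stalk k x'
  exact MulEquiv.isField (Field.toIsField k)
      (IsLocalization.atUnits k x'.asIdeal.primeCompl hu
        (S := (Spec (CommRingCat.of k)).presheaf.stalk x)).symm.toMulEquiv

end K53.FibFlat
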