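import Groth.Agent.S2426
import Groth.Agent.S0022
import Groth.Agent.Ega3A.PChart
import Groth.Agent.Ega3B.ProjFrame
import Groth.Agent.Ega3B.PullTensor
import Groth.Agent.VarietyA.EulerAdd
import Groth.Agent.VarietyB.HHPush
import Groth.Agent.S0019
import Groth.Agent.ShStab.K846.Twist
import Groth.Prelude.Def_FGA

/-!
# Hilbert polynomials of fibres of closed subschemes of projective space over a base
-/

set_option autoImplicit false
set_option linter.unusedSectionVars false
set_option linter.unusedVariables false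

universe u

open CategoryTheory CategoryTheory.Limits AlgebraicGeometry Polynomial

namespace K53.FibPoly

section Field

variable (κ : Type u) [Field κ] (n : ℕ) {Y : Scheme.{u}} [Y.Over (Spec (CommRingCat.of κ))]
  (j : Y ⟶ CohB1.ProjSpace n κ) [IsClosedImmersion j]
  (hj : j ≫ CohB1.ProjSpace.toSpec n κ = Y ↘ Spec (CommRingCat.of κ))

include hj

theorem subsingleton_HH {M : Y.Modules} (hM : Coh.IsCoh M) (q : ℕ) (hq : n + 1 ≤ q) :
    Subsingleton (Coh.HH Y M q) := by
  have hN : IsLocallyNoetherian (CohB1.ProjSpace n κ) :=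
    LocallyOfFiniteType.isLocallyNoetherian (CohB1.ProjSpace.toSpec n κ)
  obtain ⟨e⟩ := Groth.Agent.VarietyB.HHPush.exists_linearEquiv j κ hj M hM.1 q
  have h1 : Coh.IsQCoh ((Coh.push j).obj M) := (Groth.Agent.S0019.result j M hM).1
  have h2 := Groth.Agent.S0022.result n κ ((Coh.push j).obj M) q (by omega)
  exact e.toEquiv.subsingleton_congr.mp h2

theorem eulerLE_eq {M : Y.Modules} (hM : Coh.IsCoh M) : FGA.eulerCharLE κ Y M n = Curv2.euler κ Y M :=
  (Groth.Agent.VarietyA.EulerAdd.euler_eq_sum κ M (n + 1) (fun q hq => subsingleton_HH κ n j hj hM q hq)).symm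

theorem exists_poly {M : Y.Modules} (hM : Coh.IsCoh M) : ∃ φ : ℚ[X], ∀ m : ℤ,
    (FGA.eulerCharLE κ Y (CohB1.tensorMod M ((Scheme.Modules.pullback j).obj
      (Twist.twistProjSpace n κ m))) n : ℚ) = φ.eval (m : ℚ) := by
  obtain ⟨φ, hφ⟩ := Groth.Agent.S2426.result κ n Y j hj M hM
  refine ⟨φ, fun m => ?_⟩
  rw [← hφ m, FGA.eulerCharLE]
  push_cast
  refine Finset.sum_congr rfl fun i _ => ?_
  congr 2
  rw [Module.length_eq_rank]
  rfl

end Field

section Fibre

open Groth.Agent Groth.Agent.Ega3A.PChart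

variable {κ : Type u} [Field κ] (n : ℕ) {X S : Scheme.{u}} (i : X ⟶ CohB1.ProjSpaceOver n S)
  [IsClosedImmersion i] (h : Spec (CommRingCat.of κ) ⟶ S)

/-- Fibres are closed in projective space. -/
theorem exists_immersion {Y : Scheme.{u}} {p : Y ⟶ X} {q : Y ⟶ Spec (CommRingCat.of κ)}
    (H : IsPullback p q (i ≫ CohB1.ProjSpaceOver.toBase n S) h) :
    ∃ j : Y ⟶ CohB1.ProjSpace n κ, IsClosedImmersion j ∧ j ≫ CohB1.ProjSpace.toSpec n κ = q ∧
      ∀ m : ℤ, Nonempty ((Scheme.Modules.pullback p).obj ((Scheme.Modules.pullback i).obj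
        (Twist.twistOver n S m)) ≅ (Scheme.Modules.pullback j).obj (Twist.twistProjSpace n κ m)) := by
  have hP := isPullback_chart n h
  let j : Y ⟶ CohB1.ProjSpace n κ := hP.lift (p ≫ i) q (by rw [Category.assoc]; exact H.w)
  have h1 : j ≫ chart n h = p ≫ i := hP.lift_fst _ _ _
  have h2 : j ≫ CohB1.ProjSpace.toSpec n κ = q := hP.lift_snd _ _ _
  have h3 : IsPullback p j i (chart n h) := by
    refine IsPullback.of_bot (h₁₁ := p) (v₁₁ := j) (v₁₂ := i) (h₂₁ := chart n h) ?_ h1.symm hP
    rw [h2]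
    exact H
  have h4 : IsClosedImmersion j :=
    MorphismProperty.of_isPullback (P := @IsClosedImmersion) h3 inferInstance
  exact ⟨j, h4, h2, fun m =>
    ⟨(Scheme.Modules.pullbackComp p i).app (Twist.twistOver n S m) ≪≫
      (Scheme.Modules.pullbackCongr h1.symm).app (Twist.twistOver n S m) ≪≫
      ((Scheme.Modules.pullbackComp j (chart n h)).app (Twist.twistOver n S m)).symm ≪≫
      (Scheme.Modules.pullback j).mapIso (chartTwistIso n h m)⟩⟩

variable {n i h}

/-- The two forms of the condition on the Hilbert polynomial. -/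
theorem hilb_iff {Y : Scheme.{u}} [Y.Over (Spec (CommRingCat.of κ))] {p : Y ⟶ X}
    (H : IsPullback p (Y ↘ Spec (CommRingCat.of κ)) (i ≫ CohB1.ProjSpaceOver.toBase n S) h)
    {G : Y.Modules} (hG : Coh.IsCoh G) {Φ : ℚ[X]} :
    ShStab.IsHilbPoly κ Y ((Scheme.Modules.pullback p).obj ((Scheme.Modules.pullback i).obj
      (Twist.twistOver n S 1))) G Φ ↔
    ∀ m : ℤ, (FGA.eulerCharLE κ Y (CohB1.tensorMod G ((Scheme.Modules.pullback p).obj
      ((Scheme.Modules.pullback i).obj (Twist.twistOver n S m)))) n : ℚ) = Φ.eval (m : ℚ) := by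
  obtain ⟨j, hj, hjq, e⟩ := exists_immersion n i h H
  obtain ⟨φ, hφ⟩ := exists_poly κ n j hjq hG
  have hinv : ∀ m : ℤ, PicF.IsInvertible ((Scheme.Modules.pullback p).obj
      ((Scheme.Modules.pullback i).obj (Twist.twistOver n S m))) := fun m =>
    Fdesc.LocGen.isInvertible_pullback p (Fdesc.LocGen.isInvertible_pullback i
      (Ega3B.ProjFrame.isInvertible_twistOver n (Y := S) m))
  have h1 : ∀ m : ℤ, FGA.eulerCharLE κ Y (CohB1.tensorMod G ((Scheme.Modules.pullback p).obj
      ((Scheme.Modules.pullback i).obj (Twist.twistOver n S m)))) n =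
      FGA.eulerCharLE κ Y (CohB1.tensorMod G ((Scheme.Modules.pullback j).obj
      (Twist.twistProjSpace n κ m))) n := fun m => by
    obtain ⟨a⟩ := e m
    exact Fga.EulerIso.eulerCharLE_congr κ (Ega2.Tens.mapTIso (Iso.refl G) a) n
  have h2 : ∀ m : ℕ, Curv2.euler κ Y (ShStab.twist Y ((Scheme.Modules.pullback p).obj
      ((Scheme.Modules.pullback i).obj (Twist.twistOver n S 1))) G m) =
      FGA.eulerCharLE κ Y (CohB1.tensorMod G ((Scheme.Modules.pullback p).obj
      ((Scheme.Modules.pullback i).obj (Twist.twistOver n S (m : ℤ))))) n := fun m => by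
    rw [eulerLE_eq κ n j hjq (Fga.TwistCoh.isCoh_tensor hG (hinv m))]
    obtain ⟨a⟩ := Ega3B.ProjFrame.nonempty_pullback_twistOver_iso n i m
    obtain ⟨b⟩ := Ega3B.PullTensor.nonempty_pullPowIso p
      (L := (Scheme.Modules.pullback i).obj (Twist.twistOver n S 1))
      (Fdesc.LocGen.isInvertible_pullback i (Ega3B.ProjFrame.isInvertible_twistOver n (Y := S) 1)) m
    exact Fga.HodgePush.euler_congr κ Y (Ega2.Tens.mapTIso (Iso.refl G)
      (((Scheme.Modules.pullback p).mapIso a ≪≫ b).symm))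
  constructor
  · intro hH
    have hφΦ : φ = Φ := by
      refine Polynomial.eq_of_infinite_eval_eq _ _ ?_
      refine Set.Infinite.mono (s := Set.range (fun t : ℕ => (t : ℚ))) ?_
        (Set.infinite_range_of_injective Nat.cast_injective)
      rintro _ ⟨t, rfl⟩
      have h3 := hφ (t : ℤ)
      rw [← h1, ← h2, hH t] at h3
      simpa using h3.symm
    intro m
    rw [h1, hφ, hφΦ]
  · intro hH m
    rw [h2, hH]
    simp

end Fibre

end K53.FibPoly
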