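import Groth.Agent.Coherent.K53.King
import Groth.Agent.Cohder.SubobjLattice

/-!
# Iterated extensions and filtrations by subobjects

`Filt Φ M`: `M` is an iterated extension of objects of `Φ`.
* `filt_of_series`, `exists_series`: translation to `LTSeries (Subobject M)` and `StabCat.factor`;
* `filt_sub_quot`: for `Φ` consisting of stable objects, a subobject with `ℓ = 0` of an object of
  `Filt Φ` and the quotient are in `Filt Φ`.
-/

set_option autoImplicit false
set_option linter.unusedSectionVars false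
set_option linter.unusedVariables false

universe v u w

open CategoryTheory CategoryTheory.Limits

namespace K53.FiltExt

open K53.King

variable {C : Type u} [Category.{v} C] [Abelian C]

/-- Iterated extensions of objects of `Φ`. -/
inductive Filt (Φ : C → Prop) : C → Prop
  | zero (M : C) : IsZero M → Filt Φ M
  | ext (S : ShortComplex C) : S.ShortExact → Filt Φ S.X₁ → Φ S.X₃ → Filt Φ S.X₂

variable {Φ : C → Prop}

theorem Filt.of_iso {M N : C} (e : M ≅ N) (hM : Filt Φ M) : Filt Φ N := by
  cases hM with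
  | zero _ h => exact Filt.zero _ (h.of_iso e.symm)
  | ext S hS h₁ h₃ =>
    let S' : ShortComplex C := ShortComplex.mk (S.f ≫ e.hom) (e.inv ≫ S.g) (by simp)
    have i : S ≅ S' := ShortComplex.isoMk (Iso.refl _) e (Iso.refl _) (by simp [S']) (by simp [S'])
    exact Filt.ext S' (ShortComplex.shortExact_of_iso i hS) h₁ h₃

/-- Iterated extension from a series. -/
theorem filt_of_series {E : C} (s : LTSeries (Subobject E)) (h0 : s.head = ⊥) (h1 : s.last = ⊤)
    (hs : ∀ i, Φ (StabCat.factor s i)) : Filt Φ E := by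
  have key : ∀ i : Fin (s.length + 1), Filt Φ (s i : C) := by
    intro i
    induction i using Fin.induction with
    | zero =>
      have : s 0 = ⊥ := h0
      rw [this]
      exact Filt.zero _ (IsZero.of_mono_eq_zero _ Subobject.bot_arrow)
    | succ i ih =>
      exact Filt.ext (ShortComplex.mk (Subobject.ofLE (s i.castSucc) (s i.succ) (le_of_lt (s.step i)))
        (cokernel.π _) (cokernel.condition _)) (K846.Lat.shortExact_cokernel _) ih (hs i)
  have h2 := key (Fin.last _)
  have h3 : s (Fin.last _) = ⊤ := h1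
  rw [h3] at h2
  exact h2.of_iso (asIso (⊤ : Subobject E).arrow)

/-- The factor of consecutive subobjects only depends on the inclusion up to isomorphism. -/
noncomputable def cokIso {A B A' B' : C} (f : A ⟶ B) (g : A' ⟶ B') (a : A ≅ A') (b : B ≅ B')
    (w : f ≫ b.hom = a.hom ≫ g) : cokernel f ≅ cokernel g :=
  cokernel.mapIso f g a b w

theorem factor_congr {P : C → Prop} {E : C} {A B A' B' : Subobject E} (hA : A = A') (hB : B = B') (hh : A ≤ B)
    (h' : A' ≤ B') (hP : P (cokernel (Subobject.ofLE A' B' h'))) : P (cokernel (Subobject.ofLE A B hh)) := by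
  subst hA hB
  exact hP

/-- Factors of the image of a chain under a monomorphism. -/
noncomputable def mapFactorIso {M N : C} (f : M ⟶ N) [Mono f] {A B : Subobject M} (hAB : A ≤ B)
    (h' : Subobject.mk (A.arrow ≫ f) ≤ Subobject.mk (B.arrow ≫ f)) :
    cokernel (Subobject.ofLE (Subobject.mk (A.arrow ≫ f)) (Subobject.mk (B.arrow ≫ f)) h') ≅
      cokernel (Subobject.ofLE A B hAB) :=
  cokIso _ _ (Subobject.underlyingIso _) (Subobject.underlyingIso _) (by
    rw [← cancel_mono (B.arrow ≫ f), Category.assoc, Subobject.underlyingIso_hom_comp_eq_mk,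
      Subobject.ofLE_arrow, Category.assoc, Subobject.ofLE_arrow_assoc,
      Subobject.underlyingIso_hom_comp_eq_mk])

theorem map_obj_eq {M N : C} (f : M ⟶ N) [Mono f] (A : Subobject M) :
    (Subobject.map f).obj A = Subobject.mk (A.arrow ≫ f) := by
  rw [← Subobject.map_mk, Subobject.mk_arrow]

/-- The factor at the top. -/
noncomputable def topFactorIso {M N : C} (f : M ⟶ N) [Mono f] (h' : Subobject.mk f ≤ ⊤) :
    cokernel (Subobject.ofLE (Subobject.mk f) ⊤ h') ≅ cokernel f :=
  cokIso _ _ (Subobject.underlyingIso _) (asIso (⊤ : Subobject N).arrow) (by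
    simp)

/-- A series from an iterated extension. -/
theorem exists_series (hΦ : ∀ {M N : C}, (M ≅ N) → Φ M → Φ N) (hz : ∀ M, Φ M → ¬ IsZero M) {E : C}
    (hE : Filt Φ E) :
    ∃ s : LTSeries (Subobject E), s.head = ⊥ ∧ s.last = ⊤ ∧ ∀ i, Φ (StabCat.factor s i) := by
  induction hE with
  | zero M h =>
    refine ⟨RelSeries.singleton _ ⊥, rfl, ?_, fun i => i.elim0⟩
    change (⊥ : Subobject M) = ⊤
    have : (⊤ : Subobject M) = ⊥ := by
      rw [← Subobject.mk_arrow (⊤ : Subobject M), Subobject.mk_eq_bot_iff_zero]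
      exact h.eq_of_tgt _ _
    exact this.symm
  | ext S hS h₁ h₃ ih =>
    obtain ⟨s, hs0, hs1, hs⟩ := ih
    have := hS.mono_f
    have := hS.epi_g
    let m : Subobject S.X₁ → Subobject S.X₂ := (Subobject.map S.f).obj
    have hm : StrictMono m := by
      intro P Q hPQ
      refine lt_of_le_of_ne ((Subobject.map S.f).monotone hPQ.le) fun h => hPQ.ne ?_
      exact Subobject.map_obj_injective S.f h
    have hmt : m ⊤ = Subobject.mk S.f := Subobject.map_top S.f
    have hmb : m ⊥ = ⊥ := Subobject.map_bot S.f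
    have hne : (Subobject.mk S.f) < ⊤ := by
      refine lt_of_le_of_ne le_top fun h => hz _ h₃ ?_
      have hi : IsIso S.f := (Subobject.isIso_iff_mk_eq_top S.f).2 h
      have h0 : S.g = 0 := by
        rw [← cancel_epi S.f, S.zero, comp_zero]
      exact IsZero.of_epi_eq_zero _ h0
    let t : LTSeries (Subobject S.X₂) := (s.map m hm).snoc ⊤ (by
      have h1 : (s.map m hm).last = m s.last := rfl
      change (s.map m hm).last < ⊤
      rw [h1, hs1, hmt]
      exact hne)
    refine ⟨t, ?_, RelSeries.last_snoc _ _ _, ?_⟩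
    · have h1 : t.head = m s.head := by
        rw [RelSeries.head_snoc]
        rfl
      rw [h1, hs0, hmb]
    · intro i
      refine Fin.lastCases ?_ (fun j => ?_) (show Fin (s.length + 1) from i)
      · have e1 : t (Fin.last s.length).castSucc = Subobject.mk S.f := by
          refine (RelSeries.snoc_castSucc (s.map m hm) ⊤ _ (Fin.last _)).trans ?_
          change m (s (Fin.last _)) = _
          have : s (Fin.last s.length) = ⊤ := hs1
          rw [this, hmt]
        have e2 : t (Fin.last s.length).succ = ⊤ := RelSeries.last_snoc' (s.map m hm) ⊤ _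
        refine factor_congr e1 e2 _ le_top (hΦ ?_ h₃)
        exact (topFactorIso S.f le_top ≪≫ (cokernelIsoOfEq rfl) ≪≫
          (hS.exact.gIsCokernel.coconePointUniqueUpToIso (cokernelIsCokernel S.f)).symm).symm
      · have e1 : t j.castSucc.castSucc = Subobject.mk ((s j.castSucc).arrow ≫ S.f) :=
          (RelSeries.snoc_castSucc (s.map m hm) ⊤ _ j.castSucc).trans (map_obj_eq S.f _)
        have e2 : t j.castSucc.succ = Subobject.mk ((s j.succ).arrow ≫ S.f) :=
          (RelSeries.snoc_castSucc (s.map m hm) ⊤ _ j.succ).trans (map_obj_eq S.f _)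
        have hle : Subobject.mk ((s j.castSucc).arrow ≫ S.f) ≤ Subobject.mk ((s j.succ).arrow ≫ S.f) := by
          rw [← map_obj_eq, ← map_obj_eq]
          exact (Subobject.map S.f).monotone (le_of_lt (s.step j))
        exact factor_congr e1 e2 _ hle (hΦ (mapFactorIso S.f (le_of_lt (s.step j)) hle).symm (hs j))

section Three

variable {S : ShortComplex C} (hS : S.ShortExact) {G : C} (ι : G ⟶ S.X₂) [Mono ι]

include hS

/-- The part of `G` in `S.X₁`. -/
noncomputable def kerLift : kernel (ι ≫ S.g) ⟶ S.X₁ :=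
  haveI := hS.mono_f
  hS.exact.lift (kernel.ι (ι ≫ S.g) ≫ ι) (by rw [Category.assoc, kernel.condition])

theorem kerLift_f : kerLift hS ι ≫ S.f = kernel.ι (ι ≫ S.g) ≫ ι :=
  haveI := hS.mono_f
  hS.exact.lift_f _ _

theorem mono_kerLift : Mono (kerLift hS ι) := by
  have : Mono (kerLift hS ι ≫ S.f) := by
    rw [kerLift_f]
    infer_instance
  exact mono_of_mono _ S.f

theorem isPullback_ker : IsPullback (kerLift hS ι) (kernel.ι (ι ≫ S.g)) S.f ι := by
  have := hS.mono_f
  have := mono_kerLift hS ι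
  refine ⟨⟨kerLift_f hS ι⟩, ⟨PullbackCone.IsLimit.mk _
    (fun s => kernel.lift (ι ≫ S.g) s.snd (by
      rw [← Category.assoc, ← s.condition, Category.assoc, S.zero, comp_zero])) (fun s => ?_)
    (fun s => kernel.lift_ι _ _ _) (fun s m _ h2 => ?_)⟩⟩
  · rw [← cancel_mono S.f, Category.assoc, kerLift_f, kernel.lift_ι_assoc, s.condition]
  · rw [← cancel_mono (kernel.ι (ι ≫ S.g)), h2, kernel.lift_ι]

/-- `X₁ / K ⟶ X₂ / G`. -/
noncomputable def qa : cokernel (kerLift hS ι) ⟶ cokernel ι :=
  cokernel.map (kerLift hS ι) ι (kernel.ι (ι ≫ S.g)) S.f (kerLift_f hS ι)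

omit hS in
/-- `X₂ / G ⟶ X₃ / im G`. -/
noncomputable def qb : cokernel ι ⟶ cokernel (ι ≫ S.g) :=
  cokernel.map ι (ι ≫ S.g) (𝟙 G) S.g (by simp)

theorem π_qa : cokernel.π (kerLift hS ι) ≫ qa hS ι = S.f ≫ cokernel.π ι := cokernel.π_desc _ _ _

omit hS in
theorem π_qb : cokernel.π ι ≫ qb (S := S) ι = S.g ≫ cokernel.π (ι ≫ S.g) := cokernel.π_desc _ _ _

theorem qa_qb : qa hS ι ≫ qb ι = 0 := by
  rw [← cancel_epi (cokernel.π (kerLift hS ι)), ← Category.assoc, π_qa, Category.assoc, π_qb,
    ← Category.assoc, S.zero, zero_comp, comp_zero]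

theorem quotSeq_shortExact : (ShortComplex.mk (qa hS ι) (qb ι) (qa_qb hS ι)).ShortExact := by
  have := hS.mono_f
  have := hS.epi_g
  have hm : Mono (qa hS ι) :=
    Abelian.mono_cokernel_map_of_isPullback (isPullback_ker hS ι)
  have he : Epi (qb (S := S) ι) := by
    have h2 : Epi (cokernel.π ι ≫ qb (S := S) ι) := by
      rw [π_qb]
      exact epi_comp _ _
    exact epi_of_epi (cokernel.π ι) _
  refine { exact := ShortComplex.exact_of_g_is_cokernel _ ?_, mono_f := hm, epi_g := he }
  have k1 : ∀ {Z : C} (z : cokernel ι ⟶ Z), qa hS ι ≫ z = 0 →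
      S.f ≫ cokernel.π ι ≫ z = 0 := fun z hz => by
    rw [← Category.assoc, ← π_qa hS, Category.assoc, hz, comp_zero]
  have k2 : ∀ {Z : C} (z : cokernel ι ⟶ Z) (hz : qa hS ι ≫ z = 0),
      (ι ≫ S.g) ≫ hS.exact.desc (cokernel.π ι ≫ z) (k1 z hz) = 0 := fun z hz => by
    rw [Category.assoc, hS.exact.g_desc, ← Category.assoc, cokernel.condition, zero_comp]
  have k3 : ∀ {Z : C} (z : cokernel ι ⟶ Z) (hz : qa hS ι ≫ z = 0),
      qb ι ≫ cokernel.desc (ι ≫ S.g) (hS.exact.desc (cokernel.π ι ≫ z) (k1 z hz)) (k2 z hz) = z :=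
    fun z hz => by
      rw [← cancel_epi (cokernel.π ι), ← Category.assoc, π_qb, Category.assoc, cokernel.π_desc,
        hS.exact.g_desc]
  exact CokernelCofork.IsColimit.ofπ _ _ (fun z hz => cokernel.desc (ι ≫ S.g)
    (hS.exact.desc (cokernel.π ι ≫ z) (k1 z hz)) (k2 z hz)) (fun z hz => k3 z hz)
    (fun z hz m hm' => (cancel_epi (qb (S := S) ι)).1 (hm'.trans (k3 z hz).symm))

end Three

section Sub

variable {V : Type w} [AddCommGroup V] [LinearOrder V] [IsOrderedAddMonoid V]
  {ok : C → Prop} {ℓ : C → V} (h : K846.Lat.Add ok ℓ)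

include h

theorem filt_ss (hst : ∀ M, Φ M → St ok ℓ M) {E : C} (hE : Filt Φ E) : SS ok ℓ E := by
  induction hE with
  | zero M hM => exact SS.zero h hM
  | ext S hS h₁ h₃ ih => exact SS.ext h S hS ih (hst _ h₃).1

/-- Subobjects and quotients with `ℓ = 0` of iterated extensions of stable objects. -/
theorem filt_sub_quot (hΦ : ∀ {M N : C}, (M ≅ N) → Φ M → Φ N) (hst : ∀ M, Φ M → St ok ℓ M) {E : C}
    (hE : Filt Φ E) : ∀ (G : C) (ι : G ⟶ E), Mono ι → ok G → ℓ G = 0 →
      Filt Φ G ∧ Filt Φ (cokernel ι) := by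
  induction hE with
  | zero M hM =>
    intro G ι hι hG h0
    exact ⟨Filt.zero _ (IsZero.of_mono ι hM), Filt.zero _ (IsZero.of_epi (cokernel.π ι) hM)⟩
  | ext S hS h₁ h₃ ih =>
    intro G ι hι hG h0
    have hB := hst _ h₃
    have hA := filt_ss h hst h₁
    have hK := h.ok_kernel (ι ≫ S.g) hG hB.1.1
    have hm := mono_kerLift hS ι
    have a1 := hA.2.2 _ (kerLift hS ι) hm hK
    have a2 := hB.1.2.2 _ (Abelian.image.ι (ι ≫ S.g)) inferInstance (h.ok_image _ hG hB.1.1)
    have a3 := add_image h (ι ≫ S.g) hG hB.1.1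
    rw [a3, h0, zero_sub] at a2
    have b1 : ℓ (kernel (ι ≫ S.g)) = 0 := le_antisymm (neg_nonneg.1 a2) a1
    have b2 : ℓ (Abelian.image (ι ≫ S.g)) = 0 := by rw [a3, h0, b1, sub_zero]
    obtain ⟨c1, c2⟩ := ih _ (kerLift hS ι) hm hK b1
    have hq := quotSeq_shortExact hS ι
    rcases St.eq_zero_or_epi h hB hG (ι ≫ S.g) b2 with hz | he
    · constructor
      · have : IsIso (kernel.ι (ι ≫ S.g)) := by
          rw [hz]
          infer_instance
        exact c1.of_iso (asIso (kernel.ι (ι ≫ S.g)))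
      · have e : S.X₃ ≅ cokernel (ι ≫ S.g) := cokernelZeroIsoTarget.symm ≪≫ cokernelIsoOfEq hz.symm
        exact Filt.ext _ hq c2 (hΦ e h₃)
    · constructor
      · exact Filt.ext _ (K846.Lat.shortExact_kernel (ι ≫ S.g)) c1 h₃
      · have hz : IsZero (cokernel (ι ≫ S.g)) := isZero_cokernel_of_epi _
        have : IsIso (qa hS ι) := by
          have : Mono (qa hS ι) := hq.mono_f
          have : Epi (qa hS ι) := hq.exact.epi_f (hz.eq_of_tgt _ _)
          exact isIso_of_mono_of_epi _
        exact c2.of_iso (asIso (qa hS ι))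

end Sub

end K53.FiltExt
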