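import Groth.Agent.PerfC.RelFlat
import Groth.Agent.Dcoh.Spread
import Groth.Agent.Ega1.SuppTensorMod
import Groth.Agent.Sga2lef.H81.LocFree
import Groth.Agent.Coherent.K53.FiltExt
import Groth.Prelude.Def_StabCat

/-!
# Flatness of a coherent module at a point

`FlatMod.IsFlatAt M x` for coherent `M` on a locally Noetherian scheme is the same as being finite
locally free on an open neighbourhood of `x`; behaviour for the graded object of a filtration and for
extensions; pullback of a short exact sequence whose third term is flat at the points.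
-/

set_option autoImplicit false
set_option linter.style.haveILetI false

universe u

open CategoryTheory CategoryTheory.Limits AlgebraicGeometry TensorProduct

namespace K53.FlatPt

open Groth.Agent.CycB.StalkExact Groth.Agent.Fdesc.PullbackStalk

variable {X : Scheme.{u}}

theorem isFlatAt_of_nhd {M : X.Modules} {x : X} {U : X.Opens} (hx : x ∈ U)
    (h : FlatMod.IsFinLocFree (M.restrict U.ι)) : FlatMod.IsFlatAt M x :=
  (Groth.Agent.Dcoh.StalkRestrict.isFlatAt_restrict_pt_iff U hx M).1
    (Groth.Agent.Dcoh.Spread.isFlat_of_isFinLocFree h _)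

theorem exists_nhd [IsLocallyNoetherian X] {M : X.Modules} (hM : Coh.IsCoh M) {x : X}
    (h : FlatMod.IsFlatAt M x) : ∃ U : X.Opens, x ∈ U ∧ FlatMod.IsFinLocFree (M.restrict U.ι) := by
  have : Module.Free (X.presheaf.stalk x) (M.presheaf.stalk x) := by
    have h1 : Module.Finite (X.presheaf.stalk x) (M.presheaf.stalk x) :=
      Groth.Agent.Ega1.FTStalkFin.stalk_finite M hM.2 _
    have h2 : Module.Flat (X.presheaf.stalk x) (M.presheaf.stalk x) := h
    exact Module.free_of_flat_of_isLocalRing
  obtain ⟨U, h1, h2⟩ := Groth.Agent.Sga2lef.H81.LocFree.exists_nhd_of_free_stalk M hM {x}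
    (by rintro y rfl; exact this)
  exact ⟨U, h1 rfl, h2⟩

/-- Factors of a filtration whose graded object is flat at `x` are flat at `x`. -/
theorem isFlatAt_factor {E : X.Modules} (s : LTSeries (Subobject E)) {x : X}
    (h : FlatMod.IsFlatAt (StabCat.grObj s) x) (i : Fin s.length) :
    FlatMod.IsFlatAt (StabCat.factor s i) x := by
  classical
  exact Groth.Agent.Dcoh.Spread.isFlatAt_of_retract
    (Sigma.ι (fun i : Fin s.length => StabCat.factor s i) i)
    (Sigma.desc fun j => if hj : j = i then eqToHom (by rw [hj]) else 0) (by simp) x h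

theorem isFlatAt_grObj {E : X.Modules} (s : LTSeries (Subobject E)) {x : X}
    (h : ∀ i : Fin s.length, FlatMod.IsFlatAt (StabCat.factor s i) x) :
    FlatMod.IsFlatAt (StabCat.grObj s) x := by
  have : HasFiniteBiproducts (ModuleCat.{u} (X.presheaf.stalk x)) := Abelian.hasFiniteBiproducts
  have : HasExactColimitsOfShape (Discrete (Fin s.length)) (ModuleCat.{u} (X.presheaf.stalk x)) :=
    hasExactColimitsOfShape_discrete_finite _ _
  exact Groth.Agent.Dcoh.FlatRes.flat_pt_of_isColimit
    (Discrete.functor (fun i : Fin s.length => StabCat.factor s i) ⋙ Groth.Agent.Dcoh.Stalk.stalkF x)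
    (fun j => h j.as) (isColimitOfPreserves (Groth.Agent.Dcoh.Stalk.stalkF x) (colimit.isColimit _))

theorem isFlatAt_of_shortExact (T : ShortComplex X.Modules) (hT : T.ShortExact) (x : X)
    (h1 : FlatMod.IsFlatAt T.X₁ x) (h3 : FlatMod.IsFlatAt T.X₃ x) : FlatMod.IsFlatAt T.X₂ x := by
  obtain ⟨e1, e2, e3⟩ := stalkLin_shortExact T hT x
  haveI : Module.Flat (X.presheaf.stalk x) (T.X₁.presheaf.stalk x) := h1
  haveI : Module.Flat (X.presheaf.stalk x) (T.X₃.presheaf.stalk x) := h3
  exact Groth.Agent.Divis.FlatExt.flat_of_exact e1 e2 e3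

theorem isFlatAt_of_shortExact_left (T : ShortComplex X.Modules) (hT : T.ShortExact) (x : X)
    (h2 : FlatMod.IsFlatAt T.X₂ x) (h3 : FlatMod.IsFlatAt T.X₃ x) : FlatMod.IsFlatAt T.X₁ x := by
  obtain ⟨e1, e2, e3⟩ := stalkLin_shortExact T hT x
  haveI : Module.Flat (X.presheaf.stalk x) (T.X₂.presheaf.stalk x) := h2
  haveI : Module.Flat (X.presheaf.stalk x) (T.X₃.presheaf.stalk x) := h3
  exact Groth.Agent.Divis.FlatExt.flat_of_exact_left e1 e2 e3

theorem isFlatAt_of_isZero {M : X.Modules} (h : IsZero M) (x : X) : FlatMod.IsFlatAt M x :=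
  Groth.Agent.Dcoh.FlatRes.isFlat_of_isZero h x

/-- Everything filtered by modules flat at `x` is flat at `x`. -/
theorem isFlatAt_of_filt {Φ : X.Modules → Prop} {x : X} (hΦ : ∀ M, Φ M → FlatMod.IsFlatAt M x)
    {M : X.Modules} (h : FiltExt.Filt Φ M) : FlatMod.IsFlatAt M x := by
  induction h with
  | zero M hz => exact isFlatAt_of_isZero hz x
  | ext S hS h1 h3 ih => exact isFlatAt_of_shortExact S hS x ih (hΦ _ h3)

/-- Pullback preserves the injection of a short exact sequence whose third term is flat at the points of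
the image. -/
theorem mono_pullback_map {P : Scheme.{u}} (p : P ⟶ X) (T : ShortComplex X.Modules) (hT : T.ShortExact)
    (h : ∀ z : P, FlatMod.IsFlatAt T.X₃ (p.base z)) : Mono ((Scheme.Modules.pullback p).map T.f) := by
  apply Groth.Agent.PerfB.FlatPull.mono_of_stalkLin_injective
  intro z
  obtain ⟨h1, h2, h3⟩ := stalkLin_shortExact T hT (p.base z)
  letI := stalkAlg p z
  haveI : Module.Flat (X.presheaf.stalk (p.base z)) (T.X₃.presheaf.stalk (p.base z)) := h _
  have key : Function.Injective ((stalkLin T.f (p.base z)).baseChange (P.presheaf.stalk z)) :=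
    Groth.Agent.Divis.FlatExt.lTensor_injective_of_flat h1 h2 h3 (P.presheaf.stalk z)
  have hc : ∀ x, stalkLin ((Scheme.Modules.pullback p).map T.f) z (stalkPullbackEquiv p T.X₁ z x) =
      stalkPullbackEquiv p T.X₂ z ((stalkLin T.f (p.base z)).baseChange (P.presheaf.stalk z) x) := by
    intro x
    induction x with
    | zero => simp
    | add a b ha hb => simp only [map_add, ha, hb]
    | tmul t m =>
      rw [stalkPullbackEquiv_tmul, LinearMap.baseChange_tmul, stalkPullbackEquiv_tmul, map_smul,
        Groth.Agent.PerfB.FlatPull.stalkLin_pullback_canAdd]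
  intro x y hxy
  obtain ⟨x, rfl⟩ := (stalkPullbackEquiv p T.X₁ z).surjective x
  obtain ⟨y, rfl⟩ := (stalkPullbackEquiv p T.X₁ z).surjective y
  rw [hc, hc] at hxy
  rw [key ((stalkPullbackEquiv p T.X₂ z).injective hxy)]

theorem isZero_iff_support {M : X.Modules} : IsZero M ↔ CohB1.support M = ∅ := by
  rw [Groth.Agent.PerfB.FlatPull.isZero_iff_subsingleton, Set.eq_empty_iff_forall_notMem]
  simp only [CohB1.support, Set.mem_ofPred_eq, not_not]

end K53.FlatPt
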