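import Groth.Agent.Coherent.K53.KingJH
import Groth.Agent.Coherent.K53.FiltExt
import Groth.Agent.ShStab.K846.Gies
import Groth.Agent.ShStab.K846.Rows2

/-!
# Semistable sheaves with a fixed reduced Hilbert polynomial, relative to `HilbFacts`
-/

set_option autoImplicit false
set_option linter.unusedSectionVars false
set_option linter.unusedVariables false

universe u

open CategoryTheory CategoryTheory.Limits AlgebraicGeometry Polynomial

namespace K53.GiesKing

open K53.King K53.KingJH K53.FiltExt K849.PolyOrd K846.Gies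

variable {k : Type u} [Field k] {X : Scheme.{u}} [X.Over (Spec (CommRingCat.of k))]
variable {L : X.Modules}

variable (k L) in
/-- The linear invariant for the reduced Hilbert polynomial of `E`. -/
noncomputable abbrev elE (d : ℕ) (E : X.Modules) : X.Modules → PV := el (hv k L) (alphaL d) (hv k L E)

variable [IsLocallyNoetherian X] (H : HilbFacts k X L)

include H

theorem addE (d : ℕ) (E : X.Modules) : K846.Lat.Add (okd k L d) (elE k L d E) :=
  add_el (add_okd H d) _

theorem redEq_all_iff {d : ℕ} {M E : X.Modules} (hM : Coh.IsCoh M) (hE : Coh.IsCoh E) :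
    (∀ pM pE : ℚ[X], ShStab.IsHilbPoly k X L M pM → ShStab.IsHilbPoly k X L E pE →
      StabCat.RedEq d pM pE) ↔
      alphaL d (hv k L E) • hv k L M = alphaL d (hv k L M) • hv k L E := by
  rw [← redEq_iff]
  constructor
  · intro h
    exact h _ _ (isHilbPoly_hp H hM) (isHilbPoly_hp H hE)
  · intro h pM pE h1 h2
    obtain rfl := (isHilbPoly_iff H hM).1 h1
    obtain rfl := (isHilbPoly_iff H hE).1 h2
    exact h

theorem semistable_iff {d : ℕ} {E : X.Modules} (hE : ShStab.IsSemistable k X L E d) {M : X.Modules}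
    (h0 : ¬ IsZero M) :
    (ShStab.IsSemistable k X L M d ∧ ∀ pM pE : ℚ[X], ShStab.IsHilbPoly k X L M pM →
      ShStab.IsHilbPoly k X L E pE → StabCat.RedEq d pM pE) ↔ SS (okd k L d) (elE k L d E) M := by
  have hp := hv_pos H hE.1 hE.2.1
  have hap := alpha_pos H hE.1 hE.2.1 hE.2.2.1
  rw [isSemistable_iff H]
  constructor
  · rintro ⟨⟨h1, h2, h3, h4⟩, h5⟩
    exact (ss_iff (pos_okd H d) (add_okd H d) hp hap h1 h0).1
      ⟨h3, h4, (redEq_all_iff H h1.1 hE.1).1 h5⟩
  · intro h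
    obtain ⟨h3, h4, h5⟩ := (ss_iff (pos_okd H d) (add_okd H d) hp hap h.1 h0).2 h
    exact ⟨⟨h.1, h0, h3, h4⟩, (redEq_all_iff H h.1.1 hE.1).2 h5⟩

theorem stable_iff {d : ℕ} {E : X.Modules} (hE : ShStab.IsSemistable k X L E d) {M : X.Modules} :
    (ShStab.IsStable k X L M d ∧ ∀ pM pE : ℚ[X], ShStab.IsHilbPoly k X L M pM →
      ShStab.IsHilbPoly k X L E pE → StabCat.RedEq d pM pE) ↔ St (okd k L d) (elE k L d E) M := by
  have hp := hv_pos H hE.1 hE.2.1
  have hap := alpha_pos H hE.1 hE.2.1 hE.2.2.1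
  rw [isStable_iff H]
  constructor
  · rintro ⟨⟨h1, h2, h3, h4⟩, h5⟩
    exact (st_iff (pos_okd H d) (add_okd H d) hp hap h1 h2).1
      ⟨h3, h4, (redEq_all_iff H h1.1 hE.1).1 h5⟩
  · intro h
    obtain ⟨h3, h4, h5⟩ := (st_iff (pos_okd H d) (add_okd H d) hp hap h.1.1 h.2.1).2 h
    exact ⟨⟨h.1.1, h.2.1, h3, h4⟩, (redEq_all_iff H h.1.1.1 hE.1).2 h5⟩

theorem ss_self {d : ℕ} {E : X.Modules} (hE : ShStab.IsSemistable k X L E d) :
    SS (okd k L d) (elE k L d E) E :=
  (semistable_iff H hE hE.2.1).1 ⟨hE, fun pM pE h1 h2 => by rw [unique h1 h2]; rfl⟩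

omit [IsLocallyNoetherian X] H in
theorem redEq_symm {d : ℕ} {p q : ℚ[X]} (h : StabCat.RedEq d p q) : StabCat.RedEq d q p := Eq.symm h

theorem ss_of {d : ℕ} {E F : X.Modules} (hE : ShStab.IsSemistable k X L E d)
    (hF : ShStab.IsSemistable k X L F d) {pE pF : ℚ[X]} (hpE : ShStab.IsHilbPoly k X L E pE)
    (hpF : ShStab.IsHilbPoly k X L F pF) (hred : StabCat.RedEq d pE pF) :
    SS (okd k L d) (elE k L d E) F :=
  (semistable_iff H hE hF.2.1).1 ⟨hF, fun pM pE' h1 h2 => by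
    rw [unique h1 hpF, unique h2 hpE]
    exact redEq_symm hred⟩

/-- Kernels and cokernels. -/
theorem ker_coker {d : ℕ} {E F : X.Modules} (hE : ShStab.IsSemistable k X L E d)
    (hF : ShStab.IsSemistable k X L F d) {pE pF : ℚ[X]} (hpE : ShStab.IsHilbPoly k X L E pE)
    (hpF : ShStab.IsHilbPoly k X L F pF) (hred : StabCat.RedEq d pE pF) (f : E ⟶ F) :
    (IsZero (kernel f) ∨ (ShStab.IsSemistable k X L (kernel f) d ∧
        ∀ pK : ℚ[X], ShStab.IsHilbPoly k X L (kernel f) pK → StabCat.RedEq d pK pE)) ∧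
    (IsZero (cokernel f) ∨ (ShStab.IsSemistable k X L (cokernel f) d ∧
        ∀ pQ : ℚ[X], ShStab.IsHilbPoly k X L (cokernel f) pQ → StabCat.RedEq d pQ pE)) := by
  have h1 := ss_self H hE
  have h2 := ss_of H hE hF hpE hpF hred
  constructor
  · by_cases hz : IsZero (kernel f)
    · exact Or.inl hz
    · obtain ⟨a, b⟩ := (semistable_iff H hE hz).2 (h1.kernel (addE H d E) h2 f)
      exact Or.inr ⟨a, fun pK hK => b _ _ hK hpE⟩
  · by_cases hz : IsZero (cokernel f)
    · exact Or.inl hz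
    · obtain ⟨a, b⟩ := (semistable_iff H hE hz).2 (h1.cokernel (addE H d E) h2 f)
      exact Or.inr ⟨a, fun pK hK => b _ _ hK hpE⟩

/-- From a Jordan-Hölder filtration whose factors have a property. -/
theorem filt_of_jh {d : ℕ} {E : X.Modules} (hE : ShStab.IsSemistable k X L E d) (Ψ : X.Modules → Prop)
    {s : LTSeries (Subobject E)} (hs : ShStab.IsJHFiltration k X L E d s)
    (hΨ : ∀ i, Ψ (StabCat.factor s i)) :
    Filt (fun M => St (okd k L d) (elE k L d E) M ∧ Ψ M) E :=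
  filt_of_series s hs.1 hs.2.1 fun i => ⟨(stable_iff H hE).1 ⟨(hs.2.2 i).1, fun pM pE h1 h2 =>
    (hs.2.2 i).2 pM pE h1 h2⟩, hΨ i⟩

/-- To a Jordan-Hölder filtration of an object `M` whose reduced polynomial is that of `E` (or zero). -/
theorem jh_of_filt {d : ℕ} {E : X.Modules} (hE : ShStab.IsSemistable k X L E d) (Ψ : X.Modules → Prop)
    (hΨ : ∀ {M N : X.Modules}, (M ≅ N) → Ψ M → Ψ N) {M : X.Modules}
    (hM : Filt (fun M => St (okd k L d) (elE k L d E) M ∧ Ψ M) M) :
    ∃ s : LTSeries (Subobject M), ShStab.IsJHFiltration k X L M d s ∧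
      ∀ i, Ψ (StabCat.factor s i) := by
  have hadd := addE H d E
  have hiso : ∀ {M N : X.Modules}, (M ≅ N) → (St (okd k L d) (elE k L d E) M ∧ Ψ M) →
      (St (okd k L d) (elE k L d E) N ∧ Ψ N) := fun {M N} e h => by
    refine ⟨⟨h.1.1.of_iso hadd e, fun hz => h.1.2.1 (hz.of_iso e), fun T ι hι hT hz hi => ?_⟩, hΨ e h.2⟩
    refine h.1.2.2 T (ι ≫ e.inv) (mono_comp _ _) hT hz fun hi' => hi ?_
    have : ι = (ι ≫ e.inv) ≫ e.hom := by simp
    rw [this]
    infer_instance
  obtain ⟨s, h0, h1, hs⟩ := exists_series hiso (fun M hM => hM.1.2.1) hM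
  have hMss := filt_ss hadd (fun M hM => hM.1) hM
  refine ⟨s, ⟨h0, h1, fun i => ?_⟩, fun i => (hs i).2⟩
  obtain ⟨a, b⟩ := (stable_iff H hE).2 (hs i).1
  refine ⟨a, fun p q hp hq => ?_⟩
  -- compare with `E`
  have hMz : ¬ IsZero M := by
    intro hz
    have e1 : (⊤ : Subobject M) = ⊥ := by
      rw [← Subobject.mk_arrow (⊤ : Subobject M), Subobject.mk_eq_bot_iff_zero]
      exact hz.eq_of_tgt _ _
    have h2 : s.head = s.last := by rw [h0, h1, e1]
    have h3 : s i.castSucc < s i.succ := s.step i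
    have h4 : s.head ≤ s i.castSucc := LTSeries.head_le s _
    have h5 : s i.succ ≤ s.last := LTSeries.monotone s (Fin.le_last _)
    exact absurd h2 ((h4.trans_lt h3).trans_le h5).ne
  obtain ⟨c1, c2⟩ := (semistable_iff H hE hMz).2 hMss
  have hpE := isHilbPoly_hp H hE.1
  have e1 := (redEq_all_iff H a.1 hE.1).1 b
  have e2 := (redEq_all_iff H c1.1 hE.1).1 c2
  have hap := alpha_pos H hE.1 hE.2.1 hE.2.2.1
  obtain rfl := (isHilbPoly_iff H a.1).1 hp
  obtain rfl := (isHilbPoly_iff H c1.1).1 hq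
  rw [redEq_iff]
  have e3 : alphaL d (hv k L E) • (alphaL d (hv k L M) • hv k L (StabCat.factor s i)) =
      alphaL d (hv k L E) • (alphaL d (hv k L (StabCat.factor s i)) • hv k L M) := by
    rw [smul_comm, e1, smul_comm (alphaL d (hv k L E)), e2, smul_comm]
  have := congrArg (fun z => (alphaL d (hv k L E))⁻¹ • z) e3
  simpa only [smul_smul, inv_mul_cancel_left₀ hap.ne'] using this

/-- Subobjects and quotients with the same reduced polynomial. -/
theorem filt_sub_quot' {d : ℕ} {E : X.Modules} (hE : ShStab.IsSemistable k X L E d)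
    (Ψ : X.Modules → Prop) (hΨ : ∀ {M N : X.Modules}, (M ≅ N) → Ψ M → Ψ N) {F : X.Modules}
    (hF : Filt (fun M => St (okd k L d) (elE k L d E) M ∧ Ψ M) F) {G : X.Modules} (ι : G ⟶ F) [Mono ι]
    (hG : SS (okd k L d) (elE k L d E) G) :
    Filt (fun M => St (okd k L d) (elE k L d E) M ∧ Ψ M) G ∧
      Filt (fun M => St (okd k L d) (elE k L d E) M ∧ Ψ M) (cokernel ι) := by
  have hadd := addE H d E
  have hiso : ∀ {M N : X.Modules}, (M ≅ N) → (St (okd k L d) (elE k L d E) M ∧ Ψ M) →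
      (St (okd k L d) (elE k L d E) N ∧ Ψ N) := fun {M N} e h => by
    refine ⟨⟨h.1.1.of_iso hadd e, fun hz => h.1.2.1 (hz.of_iso e), fun T ι hι hT hz hi => ?_⟩, hΨ e h.2⟩
    refine h.1.2.2 T (ι ≫ e.inv) (mono_comp _ _) hT hz fun hi' => hi ?_
    have : ι = (ι ≫ e.inv) ≫ e.hom := by simp
    rw [this]
    infer_instance
  exact filt_sub_quot hadd hiso (fun M hM => hM.1) hF G ι inferInstance hG.1 hG.2.1

end K53.GiesKing
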