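import Groth.Agent.Coherent.K53.GiesKing
import Groth.Agent.Coherent.K53.FlatPt
import Groth.Agent.S10830

/-!
# Jordan-Hölder filtrations whose graded object is locally free near given points
-/

set_option autoImplicit false
set_option linter.unusedSectionVars false
set_option linter.unusedVariables false

universe u

open CategoryTheory CategoryTheory.Limits AlgebraicGeometry Polynomial

namespace K53.GiesLF

open K53.King K53.KingJH K53.FiltExt K53.GiesKing K849.PolyOrd K846.Gies

variable {k : Type u} [Field k] {X : Scheme.{u}} [X.Over (Spec (CommRingCat.of k))]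
variable {L : X.Modules}

variable (k L) in
/-- `M` has a Jordan-Hölder filtration whose graded object is locally free near the points of `T`. -/
def LFJH (d : ℕ) (T : Set X) (M : X.Modules) : Prop :=
  ∃ s : LTSeries (Subobject M), ShStab.IsJHFiltration k X L M d s ∧
    ∀ x ∈ T, ∃ U : X.Opens, x ∈ U ∧ FlatMod.IsFinLocFree ((StabCat.grObj s).restrict U.ι)

/-- Flat at the points of `T`. -/
def FlatOn (T : Set X) (M : X.Modules) : Prop := ∀ x ∈ T, FlatMod.IsFlatAt M x

theorem FlatOn.of_iso {T : Set X} {M N : X.Modules} (e : M ≅ N) (h : FlatOn T M) : FlatOn T N :=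
  fun x hx => Groth.Agent.Dcoh.Spread.isFlatAt_of_iso e x (h x hx)

variable [IsLocallyNoetherian X] (H : HilbFacts k X L)

include H

theorem filt_of_lfjh {d : ℕ} {T : Set X} {E M : X.Modules} (hE : ShStab.IsSemistable k X L E d)
    (hM : ShStab.IsSemistable k X L M d) (hred : ∀ pM pE : ℚ[X], ShStab.IsHilbPoly k X L M pM →
      ShStab.IsHilbPoly k X L E pE → StabCat.RedEq d pM pE) (h : LFJH k L d T M) :
    Filt (fun N => St (okd k L d) (elE k L d E) N ∧ FlatOn T N) M := by
  obtain ⟨s, hs, hU⟩ := h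
  refine filt_of_series s hs.1 hs.2.1 fun i => ⟨(stable_iff H hE).1 ⟨(hs.2.2 i).1, fun pN pE h1 h2 => ?_⟩,
    fun x hx => ?_⟩
  · -- transitivity through `M`
    have hpM := isHilbPoly_hp H hM.1
    have e1 := (redEq_all_iff H (hs.2.2 i).1.1 hM.1).1 fun p q hp hq => (hs.2.2 i).2 p q hp hq
    have e2 := (redEq_all_iff H hM.1 hE.1).1 hred
    refine (redEq_all_iff H (hs.2.2 i).1.1 hE.1).2 ?_ pN pE h1 h2
    have hap := alpha_pos H hM.1 hM.2.1 hM.2.2.1
    have e3 : alphaL d (hv k L M) • (alphaL d (hv k L E) • hv k L (StabCat.factor s i)) =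
        alphaL d (hv k L M) • (alphaL d (hv k L (StabCat.factor s i)) • hv k L E) := by
      rw [smul_comm, e1, smul_comm (alphaL d (hv k L E)), e2, smul_comm]
    have := congrArg (fun z => (alphaL d (hv k L M))⁻¹ • z) e3
    simpa only [smul_smul, inv_mul_cancel_left₀ hap.ne'] using this
  · obtain ⟨U, hxU, hU'⟩ := hU x hx
    exact FlatPt.isFlatAt_factor s (FlatPt.isFlatAt_of_nhd hxU hU') i

theorem lfjh_of_filt {d : ℕ} {T : Set X} {E M : X.Modules} (hE : ShStab.IsSemistable k X L E d)
    (hM : Filt (fun N => St (okd k L d) (elE k L d E) N ∧ FlatOn T N) M) : LFJH k L d T M := by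
  obtain ⟨s, hs, h⟩ := jh_of_filt H hE (FlatOn T) FlatOn.of_iso hM
  refine ⟨s, hs, fun x hx => FlatPt.exists_nhd ?_ (FlatPt.isFlatAt_grObj s fun i => h i x hx)⟩
  exact Groth.Agent.CycB.CohProp.isCoh_finite_coproduct _ fun i => (hs.2.2 i).1.1

theorem ss_of_redEq {d : ℕ} {E : X.Modules} (hE : ShStab.IsSemistable k X L E d)
    {G : X.Modules} (ι : G ⟶ E) [Mono ι] (hG : Coh.IsCoh G)
    (pG pE : ℚ[X]) (hpG : ShStab.IsHilbPoly k X L G pG) (hpE : ShStab.IsHilbPoly k X L E pE)
    (hred : StabCat.RedEq d pG pE) : SS (okd k L d) (elE k L d E) G := by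
  have hEss := ss_self H hE
  refine hEss.of_mono ι (okd_of_mono H ι hG hEss.1) (el_eq_zero_iff.2 ?_)
  exact (redEq_all_iff H hG hE.1).1 fun p q hp hq => by rwa [unique hp hpG, unique hq hpE]

/-- Subsheaves and quotients with the same reduced Hilbert polynomial. -/
theorem sub_quot {d : ℕ} {T : Set X} {E : X.Modules} (hE : ShStab.IsSemistable k X L E d)
    (hJ : LFJH k L d T E) {G : X.Modules} (ι : G ⟶ E) [Mono ι] (hG : Coh.IsCoh G)
    (pG pE : ℚ[X]) (hpG : ShStab.IsHilbPoly k X L G pG) (hpE : ShStab.IsHilbPoly k X L E pE)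
    (hred : StabCat.RedEq d pG pE) : LFJH k L d T G ∧ LFJH k L d T (cokernel ι) := by
  have hF := filt_of_lfjh H hE hE (fun p q hp hq => by rw [unique hp hq]; rfl) hJ
  obtain ⟨h1, h2⟩ := filt_sub_quot' H hE (FlatOn T) FlatOn.of_iso hF ι
    (ss_of_redEq H hE ι hG pG pE hpG hpE hred)
  exact ⟨lfjh_of_filt H hE h1, lfjh_of_filt H hE h2⟩

/-- A morphism of such sheaves on an irreducible scheme which vanishes at a point is zero. -/
theorem hom_eq_zero {d : ℕ} [IrreducibleSpace X] (hX : topologicalKrullDim X = (d : WithBot ℕ∞))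
    {P : Scheme.{u}} [Nonempty P] (ξ : P ⟶ X) {E F : X.Modules}
    (hE : ShStab.IsSemistable k X L E d) (hF : ShStab.IsSemistable k X L F d)
    (hred : ∀ pE pF : ℚ[X], ShStab.IsHilbPoly k X L E pE → ShStab.IsHilbPoly k X L F pF →
      StabCat.RedEq d pE pF)
    (hJF : LFJH k L d (Set.range ξ.base) F)
    (f : E ⟶ F) (hf : (Scheme.Modules.pullback ξ).map f = 0) : f = 0 := by
  have hadd := addE H d E
  have hred' : ∀ pF pE : ℚ[X], ShStab.IsHilbPoly k X L F pF → ShStab.IsHilbPoly k X L E pE →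
      StabCat.RedEq d pF pE := fun pF pE h1 h2 => redEq_symm (hred pE pF h2 h1)
  have hFilt := filt_of_lfjh H hE hF hred' hJF
  have hEss := ss_self H hE
  have hFss : SS (okd k L d) (elE k L d E) F := (semistable_iff H hE hF.2.1).1 ⟨hF, hred'⟩
  have hIss := hEss.image hadd hFss f
  obtain ⟨-, hQ⟩ := filt_sub_quot' H hE (FlatOn (Set.range ξ.base)) FlatOn.of_iso hFilt
    (Abelian.image.ι f) hIss
  have hQfl : ∀ z : P, FlatMod.IsFlatAt (cokernel (Abelian.image.ι f)) (ξ.base z) := fun z =>
    FlatPt.isFlatAt_of_filt (fun M hM => hM.2 _ ⟨z, rfl⟩) hQ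
  let T : ShortComplex X.Modules :=
    ShortComplex.mk (Abelian.image.ι f) (cokernel.π (Abelian.image.ι f)) (cokernel.condition _)
  have hT : T.ShortExact :=
    { exact := ShortComplex.exact_cokernel _
      mono_f := inferInstanceAs (Mono (Abelian.image.ι f))
      epi_g := inferInstanceAs (Epi (cokernel.π (Abelian.image.ι f))) }
  have hm : Mono ((Scheme.Modules.pullback ξ).map (Abelian.image.ι f)) :=
    FlatPt.mono_pullback_map ξ T hT hQfl
  have h1 : (Scheme.Modules.pullback ξ).map (Abelian.factorThruImage f) = 0 := by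
    rw [← cancel_mono ((Scheme.Modules.pullback ξ).map (Abelian.image.ι f)), ← Functor.map_comp,
      Abelian.image.fac, hf, Limits.zero_comp]
  have h2 : IsZero ((Scheme.Modules.pullback ξ).obj (Abelian.image f)) := by
    rw [IsZero.iff_id_eq_zero, ← cancel_epi ((Scheme.Modules.pullback ξ).map (Abelian.factorThruImage f)),
      h1, Limits.zero_comp, Limits.zero_comp]
  by_contra hne
  have hI0 : ¬ IsZero (Abelian.image f) := fun hz => hne (by
    rw [← Abelian.image.fac f, hz.eq_of_tgt (Abelian.factorThruImage f) 0, Limits.zero_comp])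
  have hIcoh : Coh.IsCoh (Abelian.image f) := hIss.1.1
  have hdim := hF.2.2.1 _ (Abelian.image.ι f) inferInstance hIcoh hI0
  have huniv : CohB1.support (Abelian.image f) = Set.univ := by
    by_contra hu
    have h3 := Groth.Agent.S10830.result X (by
      rw [hX]
      exact fun h => ENat.natCast_ne_top d (WithBot.coe_injective h)) _
      (Groth.Agent.Ega3B.Devissage.isClosed_support hIcoh) hu
    rw [hdim, hX] at h3
    exact lt_irrefl _ h3
  rw [FlatPt.isZero_iff_support] at h2
  obtain ⟨z⟩ := ‹Nonempty P›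
  have h4 : z ∈ CohB1.support ((Scheme.Modules.pullback ξ).obj (Abelian.image f)) :=
    (Groth.Agent.Ega1.SuppTensorMod.mem_support_pullback ξ _ hIcoh.2 z).2 (by rw [huniv]; trivial)
  rw [h2] at h4
  exact h4

end K53.GiesLF
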