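import Groth.Agent.Coherent.K53.AsmGlue
import Groth.Agent.Coherent.K53.AdmPull
import Groth.Agent.Coherent.K585.Good

/-!
# An atlas gives a best approximation (node GLUE of `K585.Plan4`)
-/

set_option autoImplicit false

universe u v

open CategoryTheory CategoryTheory.Limits AlgebraicGeometry Opposite

namespace K53.Glue

open Groth.Agent Groth.Agent.Fga QA0 QA1 QTDefs QTPull QT4 QT4b QT5 QT6a QT6c QT8 K585.KronK K585.Defs K585.Good
  K53.Asm K53.AdmPull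

section FT

variable {S : Scheme.{u}} {k : Type u} [Field k] (sS : S ⟶ Spec (CommRingCat.of k))

theorem ft_of_good {U : Over S} (h : K53.Asm.Good sS U) : W4c2simpsonmod1.ftOver sS U := by
  obtain ⟨B, _, s, hs, rfl⟩ := h
  refine ⟨hs, ?_, ?_⟩
  · change QuasiCompact (s ≫ sS)
    infer_instance
  · change IsSeparated (s ≫ sS)
    infer_instance

end FT

variable {k : Type u} [Field k] {n : ℕ} {X S : Scheme.{u}} {f : X ⟶ S} {g₀ : X ⟶ PZ n}
  {sS : S ⟶ Spec (CommRingCat.of k)} {P : Polynomial ℚ} {R M : Over S} {𝓔 : (PicF.XT f R).Modules} {π : R ⟶ M}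
  {𝒢 : (R.left ⟶ R.left) → Prop}

variable (𝓔 π) in
/-- The local characterisation. -/
def Ch {T : Over S} (E : (PicF.XT f T).Modules) (U : Over S) (u : U ⟶ T) (v : U ⟶ M) : Prop :=
  ∃ x : U ⟶ R, Nonempty ((Scheme.Modules.pullback (PicF.XTmap f u)).obj E ≅
    (Scheme.Modules.pullback (PicF.XTmap f x)).obj 𝓔) ∧ v = x ≫ π

theorem ch_nat {T : Over S} {E : (PicF.XT f T).Modules} {U W : Over S} (g : W ⟶ U) (u : U ⟶ T) (v : U ⟶ M)
    (h : Ch 𝓔 π E U u v) : Ch 𝓔 π E W (g ≫ u) (g ≫ v) := by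
  obtain ⟨x, ⟨e⟩, rfl⟩ := h
  refine ⟨g ≫ x, ⟨(pullIso₂ f rfl E).symm ≪≫ (Scheme.Modules.pullback (PicF.XTmap f g)).mapIso e ≪≫
    pullIso₂ f rfl 𝓔⟩, (Category.assoc _ _ _).symm⟩

theorem ch_uniq (A : Atlas f g₀ sS P 𝓔 π 𝒢) {T : Over S} {E : (PicF.XT f T).Modules} {U : Over S}
    (hU : K53.Asm.Good sS U) (u : U ⟶ T) (v v' : U ⟶ M) (h : Ch 𝓔 π E U u v) (h' : Ch 𝓔 π E U u v') : v = v' := by
  obtain ⟨x, ⟨e⟩, rfl⟩ := h
  obtain ⟨y, ⟨e'⟩, rfl⟩ := h'
  obtain ⟨B, _, s, hs, rfl⟩ := hU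
  exact A.rel s x y ⟨e.symm ≪≫ e'⟩

theorem ch_ex (A : Atlas f g₀ sS P 𝓔 π 𝒢) {T : Over S} (hT : LocallyOfFiniteType (T.hom ≫ sS))
    {E : (PicF.XT f T).Modules} (hE : Adm f sS g₀ P T E) (p : T.left) :
    ∃ (U : Over S) (u : U ⟶ T) (v : U ⟶ M), K53.Asm.Good sS U ∧ IsOpenImmersion u.left ∧
      p ∈ Set.range u.left ∧ Ch 𝓔 π E U u v := by
  obtain ⟨W, w, hW, hw, ⟨y, hy⟩⟩ := exists_good sS hT p
  obtain ⟨B, _, s, hs, rfl⟩ := hW
  obtain ⟨r, hr, x, ⟨e⟩⟩ := A.loc s _ (adm_pull f g₀ w hE) y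
  let ρ : Spec (CommRingCat.of (Localization.Away r)) ⟶ Spec (CommRingCat.of B) :=
    Spec.map (CommRingCat.ofHom (algebraMap B (Localization.Away r)))
  have hρ : IsOpenImmersion ρ := inferInstanceAs (IsOpenImmersion
    (Spec.map (CommRingCat.ofHom (algebraMap B (Localization.Away r)))))
  let θ : Over.mk (ρ ≫ s) ⟶ Over.mk s := Over.homMk ρ rfl
  refine ⟨Over.mk (ρ ≫ s), θ ≫ w, x ≫ π, ⟨Localization.Away r, inferInstance, ρ ≫ s, ?_, rfl⟩, ?_, ?_, x, ?_, rfl⟩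
  · rw [Category.assoc]
    infer_instance
  · change IsOpenImmersion (ρ ≫ w.left)
    infer_instance
  · have h1 : y ∈ Set.range ρ := by
      change y ∈ Set.range (PrimeSpectrum.comap (algebraMap B (Localization.Away r)))
      rw [PrimeSpectrum.localization_away_comap_range _ r]
      exact hr
    obtain ⟨z, hz⟩ := h1
    refine ⟨z, ?_⟩
    change (ρ ≫ w.left) z = p
    rw [Scheme.Hom.comp_apply, hz, hy]
  · exact ⟨(pullIso₂ f rfl E).symm ≪≫ e⟩

theorem exists_app (A : Atlas f g₀ sS P 𝓔 π 𝒢) {T : Over S} (hT : LocallyOfFiniteType (T.hom ≫ sS))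
    {E : (PicF.XT f T).Modules} (hE : Adm f sS g₀ P T E) :
    ∃ y : T ⟶ M, ∀ (U : Over S), K53.Asm.Good sS U → ∀ (u : U ⟶ T) (v : U ⟶ M), Ch 𝓔 π E U u v → v = u ≫ y :=
  exists_glue sS (Ch := Ch 𝓔 π E) (fun p => ch_ex A hT hE p) (fun _ hU u v v' => ch_uniq A hU u v v')
    (fun _ _ _ _ g u v => ch_nat g u v)

/-- Two morphisms with the characterising property. -/
theorem app_uniq (A : Atlas f g₀ sS P 𝓔 π 𝒢) {T : Over S} (hT : LocallyOfFiniteType (T.hom ≫ sS))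
    {E : (PicF.XT f T).Modules} (hE : Adm f sS g₀ P T E) {N : Over S} {y y' : T ⟶ N}
    (h : ∀ (U : Over S), K53.Asm.Good sS U → ∀ (u : U ⟶ T) (x : U ⟶ R),
      Nonempty ((Scheme.Modules.pullback (PicF.XTmap f u)).obj E ≅
        (Scheme.Modules.pullback (PicF.XTmap f x)).obj 𝓔) → u ≫ y = u ≫ y') : y = y' := by
  refine over_hom_ext fun p => ?_
  obtain ⟨U, u, v, hU, hu, hp, x, hx, -⟩ := ch_ex A hT hE p
  exact ⟨U, u, hu, hp, h U hU u x hx⟩

theorem glue {Q : ∀ T : Over S, (PicF.XT f T).Modules → Prop}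
    (hQ : ∀ T E, (W4c2simpsonmod1.shProb f Q).ok T E ↔ Adm f sS g₀ P T E)
    (A : Atlas f g₀ sS P 𝓔 π 𝒢) :
    ∃ φ : ModFun.Problem.Hom (W4c2simpsonmod1.shProb f Q) (W4c2simpsonmod1.ftOver sS) M,
      ModFun.IsBestApprox (W4c2simpsonmod1.ftOver sS) (W4c2simpsonmod1.shProb f Q) M φ ∧
      ∀ (T : Over S) (hT : W4c2simpsonmod1.ftOver sS T) (E : (PicF.XT f T).Modules)
        (hE : (W4c2simpsonmod1.shProb f Q).ok T E) (x : T ⟶ R),
        Nonempty (E ≅ (Scheme.Modules.pullback (PicF.XTmap f x)).obj 𝓔) → φ.app T E hT hE = x ≫ π := by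
  choose app happ using fun (T : Over S) (E : (PicF.XT f T).Modules) (hT : W4c2simpsonmod1.ftOver sS T)
    (hE : (W4c2simpsonmod1.shProb f Q).ok T E) => exists_app A hT.1 ((hQ T E).1 hE)
  have happ' : ∀ (T : Over S) (E : (PicF.XT f T).Modules) (hT : W4c2simpsonmod1.ftOver sS T)
    (hE : (W4c2simpsonmod1.shProb f Q).ok T E) (U : Over S), K53.Asm.Good sS U → ∀ (u : U ⟶ T) (x : U ⟶ R),
      Nonempty ((Scheme.Modules.pullback (PicF.XTmap f u)).obj E ≅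
        (Scheme.Modules.pullback (PicF.XTmap f x)).obj 𝓔) → u ≫ app T E hT hE = x ≫ π :=
    fun T E hT hE U hU u x hx => (happ T E hT hE U hU u _ ⟨x, hx, rfl⟩).symm
  let φ : ModFun.Problem.Hom (W4c2simpsonmod1.shProb f Q) (W4c2simpsonmod1.ftOver sS) M :=
    { app := app
      natural := by
        intro T T' g E hT hT' hE hE'
        refine app_uniq A hT'.1 ((hQ _ _).1 hE') fun U hU u x hx => ?_
        rw [happ' _ _ hT' hE' U hU u x hx, ← Category.assoc]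
        exact (happ' T E hT hE U hU (u ≫ g) x ⟨(pullIso₂ f rfl E).symm ≪≫ hx.some⟩).symm
      resp := by
        intro T E E' hT hE hE' hr
        refine app_uniq A hT.1 ((hQ _ _).1 hE') fun U hU u x hx => ?_
        rw [happ' _ _ hT hE' U hU u x hx]
        exact happ' T E hT hE U hU u x ⟨(Scheme.Modules.pullback _).mapIso (Nonempty.some hr) ≪≫ hx.some⟩ }
  have hφ : ∀ (T : Over S) (hT : W4c2simpsonmod1.ftOver sS T) (E : (PicF.XT f T).Modules)
        (hE : (W4c2simpsonmod1.shProb f Q).ok T E) (x : T ⟶ R),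
        Nonempty (E ≅ (Scheme.Modules.pullback (PicF.XTmap f x)).obj 𝓔) → φ.app T E hT hE = x ≫ π := by
    intro T hT E hE x hx
    refine over_hom_ext fun p => ?_
    obtain ⟨W, w, hW, hw, hp⟩ := exists_good sS hT.1 p
    refine ⟨W, w, hw, hp, ?_⟩
    rw [← Category.assoc]
    exact happ' T E hT hE W hW w (w ≫ x) ⟨(Scheme.Modules.pullback _).mapIso hx.some ≪≫ pullIso₂ f rfl 𝓔⟩
  refine ⟨φ, fun N ψ => ?_, hφ⟩
  have hR : (W4c2simpsonmod1.shProb f Q).ok R 𝓔 := (hQ _ _).2 A.adm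
  let ψR : R ⟶ N := ψ.app R 𝓔 A.ft hR
  have hψ : ∀ (T : Over S) (hT : W4c2simpsonmod1.ftOver sS T) (E : (PicF.XT f T).Modules)
        (hE : (W4c2simpsonmod1.shProb f Q).ok T E) (x : T ⟶ R),
        Nonempty (E ≅ (Scheme.Modules.pullback (PicF.XTmap f x)).obj 𝓔) → ψ.app T E hT hE = x ≫ ψR := by
    intro T hT E hE x hx
    have hx' : (W4c2simpsonmod1.shProb f Q).ok T ((Scheme.Modules.pullback (PicF.XTmap f x)).obj 𝓔) :=
      (hQ _ _).2 (adm_pull f g₀ x A.adm)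
    rw [ψ.resp E _ hT hE hx' hx]
    exact ψ.natural x 𝓔 A.ft hT hR hx'
  have hψ' : ∀ (T : Over S) (hT : W4c2simpsonmod1.ftOver sS T) (E : (PicF.XT f T).Modules)
        (hE : (W4c2simpsonmod1.shProb f Q).ok T E) (U : Over S), K53.Asm.Good sS U → ∀ (u : U ⟶ T) (x : U ⟶ R),
      Nonempty ((Scheme.Modules.pullback (PicF.XTmap f u)).obj E ≅
        (Scheme.Modules.pullback (PicF.XTmap f x)).obj 𝓔) → u ≫ ψ.app T E hT hE = x ≫ ψR := by
    intro T hT E hE U hU u x hx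
    have hu : (W4c2simpsonmod1.shProb f Q).ok U ((Scheme.Modules.pullback (PicF.XTmap f u)).obj E) :=
      (hQ _ _).2 (adm_pull f g₀ u ((hQ _ _).1 hE))
    have h1 := ψ.natural u E hT (ft_of_good sS hU) hE hu
    rw [← h1]
    exact hψ U (ft_of_good sS hU) _ hu x hx
  have hinv : ∀ γ, 𝒢 γ → γ ≫ ψR.left = ψR.left := by
    intro γ hγ
    let γ' : R ⟶ R := Over.homMk γ (A.hov γ hγ)
    have h1 : γ' ≫ ψR = ψR := by
      refine over_hom_ext fun p => ?_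
      obtain ⟨W, w, hW, hw, hp⟩ := exists_good sS A.ft.1 p
      refine ⟨W, w, hw, hp, ?_⟩
      obtain ⟨B, _, s, hs, rfl⟩ := hW
      have h2 := A.inv γ hγ s w (w ≫ γ') rfl
      have hW : K53.Asm.Good sS (Over.mk s) := ⟨B, inferInstance, s, hs, rfl⟩
      have h3 := hψ' R A.ft 𝓔 hR _ hW w (w ≫ γ') ⟨h2.some.symm⟩
      rw [← Category.assoc]
      exact h3.symm
    exact congrArg (fun m => m.left) h1
  obtain ⟨χ, hχ, hχu⟩ := A.cat N.left ψR.left hinv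
  have hχS : χ ≫ N.hom = M.hom := by
    obtain ⟨c, -, hcu⟩ := A.cat S R.hom A.hov
    exact (hcu (χ ≫ N.hom) (show π.left ≫ χ ≫ N.hom = R.hom by rw [← Category.assoc, hχ, Over.w])).trans
      (hcu M.hom (Over.w π)).symm
  let χ' : M ⟶ N := Over.homMk χ hχS
  have hχ' : π ≫ χ' = ψR := Over.OverMorphism.ext hχ
  refine ⟨χ', fun T E hT hE => ?_, fun c hc => ?_⟩
  · refine app_uniq A hT.1 ((hQ _ _).1 hE) fun U hU u x hx => ?_
    rw [hψ' T hT E hE U hU u x hx, ← Category.assoc, ← hχ', ← Category.assoc]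
    congr 1
    exact (happ' T E hT hE U hU u x hx).symm
  · have h1 := hc R 𝓔 A.ft hR
    rw [hφ R A.ft 𝓔 hR (𝟙 R) ⟨(pullIso₁ f rfl 𝓔).symm⟩, Category.id_comp] at h1
    apply Over.OverMorphism.ext
    exact hχu c.left (congrArg (fun m => m.left) h1.symm)

end K53.Glue
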