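import Groth.Agent.Coherent.K53.FibFlat
import Mathlib.RingTheory.Flat.EquationalCriterion
import Mathlib.LinearAlgebra.TensorProduct.RightExactness
import Mathlib.RingTheory.Ideal.Operations

/-!
# Commutative algebra for the infinitesimal step: vanishing of homomorphisms of flat families
-/

set_option autoImplicit false
set_option linter.style.haveILetI false
set_option linter.unusedVariables false
set_option linter.unusedSectionVars false

universe u

open TensorProduct

namespace K53.HomAlg

section Colon

variable {R M : Type u} [CommRing R] [IsLocalRing R] [AddCommGroup M] [Module R M] [Module.Flat R M]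

/-- For `M` flat over a local ring, `a ∉ J`: `a f ∈ J M` implies `f ∈ 𝔪 M`. -/
theorem flat_colon {J : Ideal R} {a : R} (ha : a ∉ J) {f : M}
    (h : a • f ∈ J • (⊤ : Submodule R M)) : f ∈ IsLocalRing.maximalIdeal R • (⊤ : Submodule R M) := by
  have htop : (⊤ : Submodule R M) = Submodule.span R (Set.range (id : M → M)) := by
    rw [Set.range_id, Submodule.span_univ]
  rw [htop, Submodule.mem_ideal_smul_span_iff_exists_sum] at h
  obtain ⟨c, hc, hsum⟩ := h
  let ℓ : Option c.support → R := fun o => o.elim a (fun i => - c i)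
  let x : Option c.support → M := fun o => o.elim f (fun i => (i : M))
  have hrel : ∑ o, ℓ o • x o = 0 := by
    rw [Fintype.sum_option]
    simp only [ℓ, x, Option.elim, neg_smul, Finset.sum_neg_distrib]
    rw [← hsum, Finsupp.sum, ← Finset.sum_coe_sort c.support (fun i => c i • id i)]
    simp
  obtain ⟨κ, A, y, hy, hA⟩ := Module.Flat.isTrivialRelation_of_sum_smul_eq_zero hrel
  have h1 : f = ∑ j, A none j • y j := hy none
  rw [h1]
  refine Submodule.sum_mem _ fun j _ => Submodule.smul_mem_smul ?_ trivial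
  rw [IsLocalRing.mem_maximalIdeal]
  intro hu
  apply ha
  have h2 := hA j
  rw [Fintype.sum_option] at h2
  simp only [ℓ, Option.elim, neg_mul, Finset.sum_neg_distrib] at h2
  have h3 : a * A none j ∈ J := by
    rw [add_neg_eq_zero] at h2
    rw [h2]
    exact Ideal.sum_mem _ fun i _ => Ideal.mul_mem_right _ _ (hc i)
  exact (Ideal.mul_unit_mem_iff_mem J hu).1 h3

end Colon

section Restrict

variable {A R B M : Type u} [CommRing A] [CommRing R] [CommRing B] [Algebra R B] [AddCommGroup M]
  [Module R M] [Module B M] [IsScalarTower R B M]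

/-- Elements of `(J B) M` are in `J M`. -/
theorem mem_smul_top_restrict (ρ : A →+* R) (ρ' : A →+* B) (hρ : ∀ a, algebraMap R B (ρ a) = ρ' a)
    (J : Ideal A) {m : M} (h : m ∈ (J.map ρ') • (⊤ : Submodule B M)) :
    m ∈ (J.map ρ) • (⊤ : Submodule R M) := by
  refine Submodule.smul_induction_on h (fun b hb n _ => ?_) (fun x y hx hy => add_mem hx hy)
  have : ∀ b ∈ J.map ρ', ∀ n : M, b • n ∈ (J.map ρ) • (⊤ : Submodule R M) := by
    intro b hb
    refine Submodule.span_induction (p := fun b _ => ∀ n : M, b • n ∈ (J.map ρ) • (⊤ : Submodule R M))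
      ?_ ?_ ?_ ?_ hb
    · rintro _ ⟨j, hj, rfl⟩ n
      rw [← hρ, algebraMap_smul]
      exact Submodule.smul_mem_smul (Ideal.mem_map_of_mem _ hj) trivial
    · intro n
      rw [zero_smul]
      exact zero_mem _
    · intro x y _ _ hx hy n
      rw [add_smul]
      exact add_mem (hx n) (hy n)
    · intro c x _ hx n
      rw [smul_eq_mul, mul_comm, mul_smul]
      exact hx _
  exact this b hb n

theorem mem_smul_top_extend (J : Ideal R) {m : M} (h : m ∈ J • (⊤ : Submodule R M)) :
    m ∈ (J.map (algebraMap R B)) • (⊤ : Submodule B M) := by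
  refine Submodule.smul_induction_on h (fun r hr n _ => ?_) (fun x y hx hy => add_mem hx hy)
  rw [← algebraMap_smul B r n]
  exact Submodule.smul_mem_smul (Ideal.mem_map_of_mem _ hr) trivial

end Restrict

section BaseChange

variable {B U F N : Type u} [CommRing B] [CommRing U] [Algebra B U] [AddCommGroup F] [Module B F]
  [AddCommGroup N] [Module B N]

theorem one_tmul_eq_zero {I : Ideal B} (hI : ∀ b ∈ I, algebraMap B U b = 0) {n : N}
    (hn : n ∈ I • (⊤ : Submodule B N)) (c : U) : c ⊗ₜ[B] n = 0 := by
  refine Submodule.smul_induction_on hn (fun b hb n _ => ?_) (fun x y hx hy => ?_)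
  · rw [TensorProduct.tmul_smul, TensorProduct.smul_tmul', Algebra.smul_def, hI b hb, zero_mul,
      TensorProduct.zero_tmul]
  · rw [TensorProduct.tmul_add, hx, hy, add_zero]

theorem baseChange_injective_of_ker_le (p : F →ₗ[B] N) (hp : Function.Surjective p) {I : Ideal B}
    (hI : ∀ b ∈ I, algebraMap B U b = 0) (hker : ∀ x, p x = 0 → x ∈ I • (⊤ : Submodule B F)) :
    Function.Injective (p.baseChange U) := by
  have hex : Function.Exact (LinearMap.ker p).subtype p := LinearMap.exact_subtype_ker_map p
  have h1 := lTensor_exact U hex hp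
  rw [injective_iff_map_eq_zero]
  intro t ht
  obtain ⟨s, rfl⟩ := (h1 t).1 ht
  have h2 : (LinearMap.ker p).subtype.lTensor U = 0 := by
    refine TensorProduct.ext' fun c x => ?_
    rw [LinearMap.lTensor_tmul]
    exact one_tmul_eq_zero hI (hker _ x.2) c
  rw [h2]
  rfl

end BaseChange

section Killed

variable {R S T U : Type u} [CommRing R] [IsLocalRing R] [CommRing S] [CommRing T] [CommRing U]
    [Algebra R S] [Algebra R T] [Algebra R U] [Algebra S U] [Algebra T U]
    [IsScalarTower R S U] [IsScalarTower R T U]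

/-- `N → U ⊗ N` is injective for `N` killed by the maximal ideal of `R`. -/
theorem mk_injective_of_cube [IsLocalRing S] [IsLocalRing U] [IsLocalHom (algebraMap S U)]
    [IsLocalHom (algebraMap R S)]
    (h : (Algebra.TensorProduct.productMap (IsScalarTower.toAlgHom R S U)
      (IsScalarTower.toAlgHom R T U)).toRingHom.Flat)
    (h0 : ∀ a ∈ IsLocalRing.maximalIdeal R, algebraMap R T a = 0)
    {N : Type u} [AddCommGroup N] [Module S N]
    (hN : ∀ r ∈ IsLocalRing.maximalIdeal R, ∀ n : N, algebraMap R S r • n = 0) :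
    Function.Injective (TensorProduct.mk S U N 1) := by
  let mS := (IsLocalRing.maximalIdeal R).map (algebraMap R S)
  have h0' : ∀ s ∈ (IsLocalRing.maximalIdeal R).map (algebraMap R S), algebraMap S U s = 0 := by
    have : mS ≤ RingHom.ker (algebraMap S U) := by
      rw [Ideal.map_le_iff_le_comap]
      intro a ha
      rw [Ideal.mem_comap, RingHom.mem_ker, ← IsScalarTower.algebraMap_apply R S U,
        IsScalarTower.algebraMap_apply R T U, h0 a ha, map_zero]
    exact fun s hs => this hs
  have hfl := FibFlat.flat_lift h h0 h0'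
  have hne : mS ≠ ⊤ := by
    intro e
    have h1 : (1 : S) ∈ mS := by rw [e]; trivial
    have h2 := h0' 1 h1
    rw [map_one] at h2
    exact one_ne_zero h2
  have hNS : ∀ s ∈ mS, ∀ n : N, s • n = 0 := by
    intro s hs
    refine Submodule.span_induction (p := fun s _ => ∀ n : N, s • n = 0) ?_ ?_ ?_ ?_ hs
    · rintro _ ⟨r, hr, rfl⟩ n
      exact hN r hr n
    · intro n
      rw [zero_smul]
    · intro x y _ _ hx hy n
      rw [add_smul, hx, hy, add_zero]
    · intro c x _ hx n
      rw [smul_eq_mul, mul_smul, hx, smul_zero]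
  haveI : Nontrivial (S ⧸ mS) := Ideal.Quotient.nontrivial_iff.2 hne
  haveI : IsLocalRing (S ⧸ mS) := IsLocalRing.of_surjective' _ Ideal.Quotient.mk_surjective
  letI : Algebra (S ⧸ mS) U := (Ideal.Quotient.lift mS (algebraMap S U) h0').toAlgebra
  haveI : IsScalarTower S (S ⧸ mS) U := IsScalarTower.of_algebraMap_eq fun _ => rfl
  haveI : IsLocalHom (algebraMap (S ⧸ mS) U) := ⟨fun a ha => by
    obtain ⟨s, rfl⟩ := Ideal.Quotient.mk_surjective a
    have h1 : IsUnit (algebraMap S U s) := ha
    exact ((isUnit_map_iff (algebraMap S U) s).1 h1).map _⟩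
  haveI : Module.Flat (S ⧸ mS) U := hfl
  haveI : Module.FaithfullyFlat (S ⧸ mS) U := Module.FaithfullyFlat.of_flat_of_isLocalHom
  letI : Module (S ⧸ mS) N := Module.IsTorsionBySet.module (fun n s => hNS s.1 s.2 n)
  haveI : IsScalarTower S (S ⧸ mS) N := Module.IsTorsionBySet.isScalarTower _
  intro n n' hnn
  apply Module.FaithfullyFlat.tensorProduct_mk_injective (A := S ⧸ mS) (B := U) N
  have := congrArg (TensorProduct.mapOfCompatibleSMul (S ⧸ mS) S S U N) hnn
  simpa using this

end Killed

section Free

variable {A R B F ι : Type u} [CommRing A] [CommRing R] [IsLocalRing R] [CommRing B] [IsLocalRing B]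
  [AddCommGroup F] [Module B F]

theorem coord_mem {J : Ideal B} (b : Module.Basis ι B F) {m : F}
    (h : m ∈ J • (⊤ : Submodule B F)) (i : ι) : b.repr m i ∈ J := by
  refine Submodule.smul_induction_on h (fun c hc n _ => ?_) (fun x y hx hy => ?_)
  · rw [map_smul, Finsupp.smul_apply, smul_eq_mul]
    exact Ideal.mul_mem_right _ _ hc
  · rw [map_add, Finsupp.add_apply]
    exact add_mem hx hy

/-- The element `f₁` with `φ(e) = a f₁ + j` lies in `𝔪 F` if `φ(e)` dies under the section. -/
theorem mem_of_coord_zero (ρ : A →+* B) (θ : B →+* R) [IsLocalHom θ] (J : Ideal A) {a : A}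
    (ha : θ (ρ a) ∉ J.map (θ.comp ρ)) (b : Module.Basis ι B F) {y f₁ : F}
    (hy : ∀ i, θ (b.repr y i) = 0) (h : y - ρ a • f₁ ∈ (J.map ρ) • (⊤ : Submodule B F)) :
    f₁ ∈ IsLocalRing.maximalIdeal B • (⊤ : Submodule B F) := by
  have h1 : ∀ i, b.repr f₁ i ∈ IsLocalRing.maximalIdeal B := by
    intro i
    have h2 := coord_mem b h i
    rw [map_sub, map_smul, Finsupp.sub_apply, Finsupp.smul_apply, smul_eq_mul] at h2
    have h3 : θ (b.repr y i - ρ a * b.repr f₁ i) ∈ J.map (θ.comp ρ) := by
      rw [← Ideal.map_map]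
      exact Ideal.mem_map_of_mem θ h2
    rw [map_sub, hy, zero_sub, map_mul, neg_mem_iff] at h3
    rw [IsLocalRing.mem_maximalIdeal]
    intro hu
    exact ha ((Ideal.mul_unit_mem_iff_mem _ (hu.map θ)).1 h3)
  rw [← b.linearCombination_repr f₁, Finsupp.linearCombination_apply]
  exact Submodule.sum_mem _ fun i _ => Submodule.smul_mem_smul (h1 i) trivial

end Free

end K53.HomAlg
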