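import Groth.Agent.Coherent.K53.HomZero
import Groth.Agent.Coherent.K53.FlatPt
import Groth.Agent.FormalA.PullbackQC
import Groth.Agent.Sga67.CohBasic
import Groth.Agent.Ega3B.Devissage
import Mathlib.AlgebraicGeometry.AlgClosed.Basic

/-!
# Homomorphisms of flat families over a base of finite type over an algebraically closed field which
vanish along a section
-/

set_option autoImplicit false
set_option linter.style.haveILetI false
set_option linter.unusedVariables false
set_option linter.unusedSectionVars false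

universe u

open CategoryTheory CategoryTheory.Limits AlgebraicGeometry TensorProduct

namespace K53.HomGlobal

open Groth.Agent.CycB.StalkExact Groth.Agent.Fdesc.PullbackStalk Groth.Agent.Fdesc.FlatBC
open Groth.Agent.PerfB.FlatPull K53.HomStep K53.StalkMul K53.HomAlg

section Pull

variable {Z Y X : Scheme.{u}}

theorem pullback_comp_map_eq_zero_iff (a : Z ⟶ Y) (b : Y ⟶ X) {E F : X.Modules} (φ : E ⟶ F) :
    (Scheme.Modules.pullback (a ≫ b)).map φ = 0 ↔
      (Scheme.Modules.pullback a).map ((Scheme.Modules.pullback b).map φ) = 0 := by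
  have h := (Scheme.Modules.pullbackComp a b).hom.naturality φ
  constructor
  · intro h0
    rw [h0, comp_zero] at h
    rw [← cancel_mono ((Scheme.Modules.pullbackComp a b).hom.app F), zero_comp]
    exact h
  · intro h0
    have h1 : (Scheme.Modules.pullback b ⋙ Scheme.Modules.pullback a).map φ = 0 := h0
    rw [h1, zero_comp] at h
    rw [← cancel_epi ((Scheme.Modules.pullbackComp a b).hom.app E), comp_zero]
    exact h.symm

theorem pullback_map_eq_zero_congr {a b : Z ⟶ X} (h : a = b) {E F : X.Modules} (φ : E ⟶ F) :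
    (Scheme.Modules.pullback a).map φ = 0 ↔ (Scheme.Modules.pullback b).map φ = 0 := by
  subst h
  rfl

/-- The pullback of a module flat at a point is flat at the points above. -/
theorem isFlatAt_pullback (g : Z ⟶ X) (M : X.Modules) (z : Z) (h : FlatMod.IsFlatAt M (g.base z)) :
    FlatMod.IsFlatAt ((Scheme.Modules.pullback g).obj M) z := by
  letI := stalkAlg g z
  haveI : Module.Flat (X.presheaf.stalk (g.base z)) (M.presheaf.stalk (g.base z)) := h
  haveI : Module.Flat (Z.presheaf.stalk z)
    (Z.presheaf.stalk z ⊗[X.presheaf.stalk (g.base z)] M.presheaf.stalk (g.base z)) := inferInstance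
  exact Module.Flat.of_linearEquiv (stalkPullbackEquiv g M z).symm

/-- Vanishing of a morphism on the stalk can be checked after a flat pullback. -/
theorem stalkLin_eq_zero_of_pullback (g : Z ⟶ X) [Flat g] {E F : X.Modules} (φ : E ⟶ F) (z : Z)
    (h : ∀ e', stalkLin ((Scheme.Modules.pullback g).map φ) z e' = 0)
    (e : E.presheaf.stalk (g.base z)) : stalkLin φ (g.base z) e = 0 := by
  letI := stalkAlg g z
  haveI := Groth.Agent.Fdesc.StalkExt.faithfullyFlat_stalkMap g z
  have h1 := h (canAdd g E z e)
  rw [stalkLin_pullback_canAdd, ← stalkPullbackEquiv_one] at h1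
  apply Module.FaithfullyFlat.tensorProduct_mk_injective (A := X.presheaf.stalk (g.base z))
    (B := Z.presheaf.stalk z) (F.presheaf.stalk (g.base z))
  rw [_root_.map_zero]
  apply (stalkPullbackEquiv g F z).injective
  rw [_root_.map_zero]
  exact h1

end Pull

variable {k : Type u} [Field k] [IsAlgClosed k]

/-- Vanishing on stalks over a closed point of the base. -/
theorem stalk_eq_zero {X S : Scheme.{u}} (f : X ⟶ S) [IsLocallyNoetherian S] [IsLocallyNoetherian X]
    [LocallyOfFiniteType f]
    {E F : X.Modules} (hF : Coh.IsCoh F) (hFfl : FlatMod.IsFlatOver f F)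
    (ξ : S ⟶ X) (hξ : ξ ≫ f = 𝟙 S) (t : Spec (CommRingCat.of k) ⟶ S)
    (ht : IsClosed ({t.base (IsLocalRing.closedPoint k)} : Set S))
    (hfl : FlatMod.IsFlatAt F (ξ.base (t.base (IsLocalRing.closedPoint k))))
    (hhom : ∀ χ : (Scheme.Modules.pullback (pullback.fst f t)).obj E ⟶
      (Scheme.Modules.pullback (pullback.fst f t)).obj F,
      (Scheme.Modules.pullback (pullback.lift (t ≫ ξ) (𝟙 _) (by simp [hξ]) :
        Spec (CommRingCat.of k) ⟶ pullback f t)).map χ = 0 → χ = 0)
    (φ : E ⟶ F) (hφ : (Scheme.Modules.pullback ξ).map φ = 0) (x : X)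
    (hx : f.base x = t.base (IsLocalRing.closedPoint k)) (e : E.presheaf.stalk x) :
    stalkLin φ x e = 0 := by
  let s := t.base (IsLocalRing.closedPoint k)
  obtain ⟨_, ⟨U, hU, rfl⟩, hsU, -⟩ := S.isBasis_affineOpens.exists_subset_of_mem_open
    (Set.mem_univ s) isOpen_univ
  let A := Γ(S, U)
  have hN : IsNoetherianRing A := IsLocallyNoetherian.component_noetherian ⟨U, hU⟩
  let j : Spec A ⟶ S := hU.fromSpec
  haveI : IsOpenImmersion j := hU.isOpenImmersion_fromSpec
  have hjr : Set.range j.base = (U : Set S) := hU.range_fromSpec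
  have htpt : ∀ y : Spec (CommRingCat.of k), y = IsLocalRing.closedPoint k := fun y =>
    Subsingleton.elim (α := PrimeSpectrum k) _ _
  have htr : Set.range t.base ⊆ Set.range j.base := by
    rintro _ ⟨y, rfl⟩
    rw [hjr, htpt y]
    exact hsU
  let t' : Spec (CommRingCat.of k) ⟶ Spec A := IsOpenImmersion.lift j t htr
  have ht' : t' ≫ j = t := IsOpenImmersion.lift_fac _ _ _
  let s' := t'.base (IsLocalRing.closedPoint k)
  have hs' : j.base s' = s := by
    change (t' ≫ j).base _ = _
    rw [ht']
  have hmax : s'.asIdeal.IsMaximal := by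
    have hcl : IsClosed ({s'} : Set (Spec A)) := by
      have : ({s'} : Set (Spec A)) = j.base ⁻¹' {s} := by
        ext y
        simp only [Set.mem_singleton_iff, Set.mem_preimage]
        constructor
        · rintro rfl
          exact hs'
        · intro hy
          exact j.isOpenEmbedding.injective (hy.trans hs'.symm)
      rw [this]
      exact ht.preimage j.base.hom.continuous
    exact (PrimeSpectrum.isClosed_singleton_iff_isMaximal (show PrimeSpectrum A from s')).1 hcl
  let i' := pullback.fst f j
  let f' := pullback.snd f j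
  have hX' : IsLocallyNoetherian (pullback f j) := LocallyOfFiniteType.isLocallyNoetherian f'
  have H' : IsPullback i' f' f j := IsPullback.of_hasPullback f j
  let p' : pullback f t ⟶ pullback f j :=
    pullback.lift (pullback.fst f t) (pullback.snd f t ≫ t') (by
      rw [Category.assoc, ht', pullback.condition])
  have hp'i : p' ≫ i' = pullback.fst f t := pullback.lift_fst _ _ _
  have hp'f : p' ≫ f' = pullback.snd f t ≫ t' := pullback.lift_snd _ _ _
  have H : IsPullback p' (pullback.snd f t) f' t' := by
    refine IsPullback.of_right ?_ hp'f H'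
    rw [hp'i, ht']
    exact IsPullback.of_hasPullback f t
  let ξ' : Spec A ⟶ pullback f j := pullback.lift (j ≫ ξ) (𝟙 _) (by simp [hξ])
  have hξ'i : ξ' ≫ i' = j ≫ ξ := pullback.lift_fst _ _ _
  have hξ'f : ξ' ≫ f' = 𝟙 _ := pullback.lift_snd _ _ _
  let σ : Spec (CommRingCat.of k) ⟶ pullback f t := pullback.lift (t ≫ ξ) (𝟙 _) (by simp [hξ])
  have hσ : σ ≫ p' = t' ≫ ξ' := by
    apply pullback.hom_ext
    · change (σ ≫ p') ≫ i' = (t' ≫ ξ') ≫ i'
      rw [Category.assoc, hp'i, Category.assoc, hξ'i, ← Category.assoc, ht']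
      exact pullback.lift_fst _ _ _
    · change (σ ≫ p') ≫ f' = (t' ≫ ξ') ≫ f'
      rw [Category.assoc, hp'f, Category.assoc, hξ'f, ← Category.assoc]
      have : σ ≫ pullback.snd f t = 𝟙 _ := pullback.lift_snd _ _ _
      rw [this, Category.id_comp, Category.comp_id]
  let E' := (Scheme.Modules.pullback i').obj E
  let F' := (Scheme.Modules.pullback i').obj F
  have hT : ∀ y : Spec (CommRingCat.of k), t'.base y = s' ∧
      IsField ((Spec (CommRingCat.of k)).presheaf.stalk y) := fun y =>
    ⟨by rw [htpt y], FibFlat.isField_stalk_Spec k y⟩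
  have hrange : ∀ x' : (pullback f j : Scheme.{u}), f'.base x' = s' →
      ∃ z : (pullback f t : Scheme.{u}), p'.base z = x' := by
    intro x' hx'
    obtain ⟨z, hz, -⟩ := Scheme.exists_preimage_of_isPullback H x' (IsLocalRing.closedPoint k) hx'
    exact ⟨z, hz⟩
  have hF' : Coh.IsCoh F' := Groth.Agent.FormalA.PullbackQC.isCoh_pullback i' F hF
  have hF'fl : ∀ x', f'.base x' = s' → FlatMod.IsFlatOverAt f' F' x' := fun x' _ =>
    isFlatOverAt_pullback H' F x' (hFfl _)
  have hfree : Module.Free ((pullback f j : Scheme.{u}).presheaf.stalk (ξ'.base s'))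
      (F'.presheaf.stalk (ξ'.base s')) := by
    have h1 : Module.Flat ((pullback f j : Scheme.{u}).presheaf.stalk (ξ'.base s'))
        (F'.presheaf.stalk (ξ'.base s')) := by
      apply isFlatAt_pullback i' F (ξ'.base s')
      have : i'.base (ξ'.base s') = ξ.base s := by
        change (ξ' ≫ i').base s' = _
        rw [hξ'i]
        change ξ.base (j.base s') = _
        rw [hs']
      rw [this]
      exact hfl
    have h2 : Module.Finite ((pullback f j : Scheme.{u}).presheaf.stalk (ξ'.base s'))
        (F'.presheaf.stalk (ξ'.base s')) := Groth.Agent.CycB.StalkLoc.finite_stalk F' hF' _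
    exact Module.free_of_flat_of_isLocalRing
  have hhom' : ∀ χ : (Scheme.Modules.pullback p').obj E' ⟶ (Scheme.Modules.pullback p').obj F',
      (Scheme.Modules.pullback σ).map χ = 0 → χ = 0 := by
    intro χ hχ
    let α : Scheme.Modules.pullback i' ⋙ Scheme.Modules.pullback p' ≅
        Scheme.Modules.pullback (pullback.fst f t) :=
      Scheme.Modules.pullbackComp p' i' ≪≫ Scheme.Modules.pullbackCongr hp'i
    have h1 := hhom (α.inv.app E ≫ χ ≫ α.hom.app F) (by
      rw [Functor.map_comp, Functor.map_comp, hχ, zero_comp, comp_zero])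
    rw [← cancel_epi (α.inv.app E), ← cancel_mono (α.hom.app F), Category.assoc, h1, comp_zero,
      zero_comp]
  have hφ' : (Scheme.Modules.pullback ξ').map ((Scheme.Modules.pullback i').map φ) = 0 := by
    rw [← pullback_comp_map_eq_zero_iff, pullback_map_eq_zero_congr hξ'i,
      pullback_comp_map_eq_zero_iff, hφ, Functor.map_zero]
  obtain ⟨x', hx'1, hx'2⟩ := Scheme.exists_preimage_of_isPullback H' x s' (by rw [hs', hx])
  subst hx'1
  have hi' : Flat i' := inferInstance
  refine stalkLin_eq_zero_of_pullback i' φ x' (fun e' => ?_) e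
  exact HomZero.stalk_eq_zero H s' hmax hT hrange hF' hF'fl σ ξ' hξ'f hσ hhom'
    ((Scheme.Modules.pullback i').map φ) hφ' hfree x' hx'2 e'

/-- A homomorphism of flat families which vanishes along a section is zero. -/
theorem hom_eq_zero {X S : Scheme.{u}} (f : X ⟶ S) [IsProper f] (sS : S ⟶ Spec (CommRingCat.of k))
    [LocallyOfFiniteType sS] [QuasiCompact sS]
    {E F : X.Modules} (hE : Coh.IsCoh E) (hF : Coh.IsCoh F) (hFfl : FlatMod.IsFlatOver f F)
    (ξ : S ⟶ X) (hξ : ξ ≫ f = 𝟙 S)
    (hfl : ∀ t : Spec (CommRingCat.of k) ⟶ S, t ≫ sS = 𝟙 _ →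
      FlatMod.IsFlatAt F (ξ.base (t.base (IsLocalRing.closedPoint k))))
    (hhom : ∀ (t : Spec (CommRingCat.of k) ⟶ S), t ≫ sS = 𝟙 _ →
      ∀ χ : (Scheme.Modules.pullback (pullback.fst f t)).obj E ⟶
      (Scheme.Modules.pullback (pullback.fst f t)).obj F,
      (Scheme.Modules.pullback (pullback.lift (t ≫ ξ) (𝟙 _) (by simp [hξ]) :
        Spec (CommRingCat.of k) ⟶ pullback f t)).map χ = 0 → χ = 0)
    (φ : E ⟶ F) (hφ : (Scheme.Modules.pullback ξ).map φ = 0) : φ = 0 := by
  have hS : IsLocallyNoetherian S := LocallyOfFiniteType.isLocallyNoetherian sS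
  have hX : IsLocallyNoetherian X := LocallyOfFiniteType.isLocallyNoetherian f
  have hXc : CompactSpace X := by
    have : QuasiCompact (f ≫ sS) := inferInstance
    exact QuasiCompact.compactSpace_of_compactSpace (f ≫ sS)
  have hI : Coh.IsCoh (Abelian.image φ) := Groth.Agent.Sga67.CohBasic.isCoh_image φ hE hF.1
  have hsupp : CohB1.support (Abelian.image φ) = ∅ := by
    by_contra hne
    obtain ⟨x, hx, hxc⟩ := IsClosed.exists_closed_singleton
      (Groth.Agent.Ega3B.Devissage.isClosed_support hI) (Set.nonempty_iff_ne_empty.2 hne)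
    apply hx
    let s := f.base x
    have hs : IsClosed ({s} : Set S) := by
      have := f.isClosedMap _ hxc
      rwa [Set.image_singleton] at this
    let t := pointOfClosedPoint sS s hs
    have htS : t ≫ sS = 𝟙 _ := pointOfClosedPoint_comp sS s hs
    have hts : t.base (IsLocalRing.closedPoint k) = s := pointOfClosedPoint_apply sS s hs _
    have h0 : ∀ e : E.presheaf.stalk x, stalkLin φ x e = 0 := fun e =>
      stalk_eq_zero f hF hFfl ξ hξ t (by rw [hts]; exact hs) (hfl t htS) (hhom t htS) φ hφ x
        (by rw [hts]) e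
    refine ⟨fun a b => ?_⟩
    have h1 : ∀ n : (Abelian.image φ).presheaf.stalk x, n = 0 := by
      intro n
      obtain ⟨e, rfl⟩ := stalkLin_surjective (Abelian.factorThruImage φ) x n
      apply stalkLin_injective (Abelian.image.ι φ) x
      rw [_root_.map_zero, ← LinearMap.comp_apply, ← stalkLin_comp, Abelian.image.fac]
      exact h0 e
    rw [h1 a, h1 b]
  have hz := FlatPt.isZero_iff_support.2 hsupp
  rw [← Abelian.image.fac φ, hz.eq_of_tgt (Abelian.factorThruImage φ) 0, zero_comp]

end K53.HomGlobal
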