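import Groth.Agent.Coherent.K53.HomSemiAlg
import Groth.Agent.FGA.K887.RepMain
import Groth.Prelude.Def_KLin

/-!
# Upper semicontinuity of the dimension of `Hom(E_t, F_t)` for `F` flat
-/

set_option autoImplicit false

universe u

open CategoryTheory CategoryTheory.Limits AlgebraicGeometry Opposite TopologicalSpace

namespace K53.HomSemi

open K887.RepHom K887.HomSec

theorem sc_eq {X : Scheme.{u}} (G : X.Modules) (c : Γ(X, ⊤)) : sc G c = Formal.smulModΓ G c := by
  refine Scheme.Modules.hom_ext _ _ fun U => ?_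
  ext m
  exact (sc_app G c U m).trans (KLin.smulModΓ_app_apply G c U m).symm

theorem finrank_eq {A : CommRingCat.{u}} {X : Scheme.{u}} {f : X ⟶ Spec A} {E F : X.Modules} (R : Rep f E F)
    {K : Type u} [Field K] {X' : Scheme.{u}} [X'.Over (Spec (CommRingCat.of K))] {φ : A ⟶ CommRingCat.of K}
    {a : X' ⟶ X} (H : IsPullback a (X' ↘ Spec (CommRingCat.of K)) f (Spec.map φ)) :
    Module.finrank K ((Scheme.Modules.pullback a).obj E ⟶ (Scheme.Modules.pullback a).obj F) =
      Module.finrank K (R.M →ₛₗ[φ.hom] K) := by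
  let e : (R.M →ₛₗ[φ.hom] K) ≃ₗ[K] ((Scheme.Modules.pullback a).obj E ⟶ (Scheme.Modules.pullback a).obj F) :=
    LinearEquiv.ofBijective
      { toFun := R.θ H
        map_add' := R.add H
        map_smul' := fun c α => by
          rw [R.smul H c α, sc_eq]
          exact (KLin.comp_smulModΓ _ _) }
      (R.bij H)
  exact e.finrank_eq.symm

/-- **Semicontinuity** over an affine base. -/
theorem exists_isClosed {A : CommRingCat.{u}} [IsNoetherianRing A] {X : Scheme.{u}} (f : X ⟶ Spec A) [IsProper f]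
    (hX : PerfAux.HasResolutionProperty X) (E F : X.Modules) (hE : Coh.IsCoh E) (hF : Coh.IsCoh F)
    (hfl : FlatMod.IsFlatOver f F) (d : ℕ) :
    ∃ C : Set (Spec A), IsClosed C ∧ ∀ (K : Type u) [Field K] (X' : Scheme.{u}) [X'.Over (Spec (CommRingCat.of K))]
      (φ : A ⟶ CommRingCat.of K) (a : X' ⟶ X) (_ : IsPullback a (X' ↘ Spec (CommRingCat.of K)) f (Spec.map φ))
      (x : Spec (CommRingCat.of K)),
      (Spec.map φ x ∈ C ↔
        d ≤ Module.finrank K ((Scheme.Modules.pullback a).obj E ⟶ (Scheme.Modules.pullback a).obj F)) := by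
  obtain ⟨R⟩ := nonempty_rep f hX E F hE hF hfl
  have hfp := R.fp
  have hfin : Module.Finite A R.M := inferInstance
  refine ⟨_, HomSemiAlg.isClosed (A := A) (M := R.M) d, fun K _ X' _ φ a H x => ?_⟩
  rw [finrank_eq R H, HomSemiAlg.finrank_residue φ.hom (Spec.map φ x) ?_]
  · exact Iff.rfl
  · have hx : x.asIdeal = ⊥ := by
      rw [eq_bot_iff]
      intro b hb
      rw [Ideal.mem_bot]
      by_contra hb0
      exact x.2.ne_top (Ideal.eq_top_of_isUnit_mem _ hb (isUnit_iff_ne_zero.2 hb0))
    change RingHom.ker φ.hom = x.asIdeal.comap φ.hom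
    rw [hx]
    rfl

end K53.HomSemi
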