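import Groth.Agent.S14609
import Mathlib.LinearAlgebra.Dual.Lemmas
import Mathlib.RingTheory.TensorProduct.IsBaseChangeHom

/-!
# Upper semicontinuity of the dimension of the space of semilinear functionals
-/

set_option autoImplicit false

universe u

open scoped TensorProduct

namespace K53.HomSemiAlg

variable {A : Type u} [CommRing A] {M : Type u} [AddCommGroup M] [Module A M]

/-- Semilinear functionals are functionals on the base change. -/
theorem finrank_semilin [Module.Finite A M] {K : Type u} [Field K] (φ : A →+* K) :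
    Module.finrank K (M →ₛₗ[φ] K) =
      (letI := φ.toAlgebra; Module.finrank K (K ⊗[A] M)) := by
  let _ := φ.toAlgebra
  have e1 : (M →ₛₗ[φ] K) ≃ₗ[K] (M →ₗ[A] K) :=
    { toFun := fun f =>
        { toFun := f
          map_add' := f.map_add
          map_smul' := fun a m => f.map_smulₛₗ a m }
      invFun := fun f =>
        { toFun := f
          map_add' := f.map_add
          map_smul' := fun a m => f.map_smul a m }
      map_add' := fun _ _ => rfl
      map_smul' := fun _ _ => rfl
      left_inv := fun _ => rfl
      right_inv := fun _ => rfl }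
  have e2 : (M →ₗ[A] K) ≃ₗ[K] Module.Dual K (K ⊗[A] M) := LinearMap.liftBaseChangeEquiv K
  rw [(e1.trans e2).finrank_eq]
  exact Subspace.dual_finrank_eq

theorem finrank_residue [Module.Finite A M] {K : Type u} [Field K] (φ : A →+* K) (p : PrimeSpectrum A)
    (hp : RingHom.ker φ = p.asIdeal) :
    Module.finrank K (M →ₛₗ[φ] K) =
      Module.finrank p.asIdeal.ResidueField (p.asIdeal.ResidueField ⊗[A] M) := by
  rw [finrank_semilin]
  let _ := φ.toAlgebra
  let ρ : p.asIdeal.ResidueField →+* K := Ideal.ResidueField.lift p.asIdeal φ hp.ge (by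
      intro a ha
      have h0 : φ a ≠ 0 := fun h0 => ha (by rw [← hp]; exact h0)
      exact h0.isUnit)
  have hρ : ∀ a, ρ (algebraMap A _ a) = φ a := fun a => Ideal.ResidueField.lift_algebraMap _ _ _ _ _
  let _ := ρ.toAlgebra
  have : IsScalarTower A p.asIdeal.ResidueField K := IsScalarTower.of_algebraMap_eq fun a => (hρ a).symm
  have e : K ⊗[p.asIdeal.ResidueField] (p.asIdeal.ResidueField ⊗[A] M) ≃ₗ[K] K ⊗[A] M :=
    TensorProduct.AlgebraTensorModule.cancelBaseChange A p.asIdeal.ResidueField K K M
  rw [← e.finrank_eq, Module.finrank_baseChange]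

/-- **Semicontinuity.** -/
theorem isClosed [IsNoetherianRing A] [Module.Finite A M] (d : ℕ) :
    IsClosed {p : PrimeSpectrum A | d ≤ Module.finrank p.asIdeal.ResidueField (p.asIdeal.ResidueField ⊗[A] M)} := by
  have h := Groth.Agent.S14609.result A M A (0 : M →ₗ[A] A)
  have h2 : ∀ p : PrimeSpectrum A, Module.finrank p.asIdeal.ResidueField
      (LinearMap.ker ((0 : M →ₗ[A] A).baseChange p.asIdeal.ResidueField)) =
      Module.finrank p.asIdeal.ResidueField (p.asIdeal.ResidueField ⊗[A] M) := fun p => by
    rw [LinearMap.baseChange_zero, LinearMap.ker_zero, finrank_top]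
  have h3 := upperSemicontinuous_iff_isClosed_preimage.1 h d
  convert h3 using 1
  ext p
  simp only [Set.mem_ofPred_eq, Set.mem_preimage, Set.mem_Ici, h2]

end K53.HomSemiAlg
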