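import Groth.Agent.LoccohB.HHmap
import Groth.Agent.PerfB.FlatPull
import Groth.Agent.Dcoh.StalkMod

/-!
# Multiplication by global functions on stalks; quotients by ideals of global functions; lifting
through monomorphisms
-/

set_option autoImplicit false
set_option linter.style.haveILetI false

universe u

open CategoryTheory CategoryTheory.Limits AlgebraicGeometry TensorProduct

namespace K53.StalkMul

open Groth.Agent.CycB.StalkExact Groth.Agent.LoccohB.HHmap Groth.Agent.LoccohB.GlueHom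
open Groth.Agent.Dcoh.StalkMod Groth.Agent.Fdesc.PullbackStalk

variable {X : Scheme.{u}}

/-- The germ of a global function. -/
noncomputable def rho (X : Scheme.{u}) (x : X) : Γ(X, ⊤) →+* X.presheaf.stalk x :=
  (X.presheaf.germ ⊤ x trivial).hom

theorem rho_apply (x : X) (r : Γ(X, ⊤)) : rho X x r = X.presheaf.germ ⊤ x trivial r := rfl

theorem stalkLin_smulHom (F : X.Modules) (r : Γ(X, ⊤)) (x : X) (m : F.presheaf.stalk x) :
    stalkLin (smulHom F r) x m = rho X x r • m := by
  obtain ⟨V, hV, s, rfl⟩ := TopCat.Presheaf.exists_germ_eq F.presheaf m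
  rw [stalkLin_germ, smulHom_app]
  have h1 : F.presheaf.germ V x hV (resO (le_top : V ≤ ⊤) r • s) =
      X.presheaf.germ V x hV (resO (le_top : V ≤ ⊤) r) • F.presheaf.germ V x hV s :=
    germ_smul x hV _ _
  rw [h1, rho_apply, resO_apply]
  congr 1
  exact TopCat.Presheaf.germ_res_apply X.presheaf (homOfLE (le_top : V ≤ ⊤)) x hV r

theorem stalk_cokernel {M N : X.Modules} (f : M ⟶ N) (x : X) (n : N.presheaf.stalk x) :
    stalkLin (cokernel.π f) x n = 0 ↔ n ∈ LinearMap.range (stalkLin f x) := by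
  have h := stalkLin_exact (ShortComplex.mk f (cokernel.π f) (cokernel.condition f))
    (ShortComplex.exact_cokernel f) x
  exact h n

theorem mem_map_smul_top {A R M : Type u} [CommRing A] [CommRing R] [AddCommGroup M] [Module R M]
    (ρ : A →+* R) (a : A) (m : M) :
    m ∈ ((Ideal.span {a}).map ρ) • (⊤ : Submodule R M) ↔ ∃ n : M, m = ρ a • n := by
  rw [Ideal.map_span, Set.image_singleton, Submodule.ideal_span_singleton_smul]
  constructor
  · intro h
    obtain ⟨n, -, hn⟩ := Submodule.mem_smul_pointwise_iff_exists _ _ _ |>.1 h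
    exact ⟨n, hn.symm⟩
  · rintro ⟨n, rfl⟩
    exact Submodule.smul_mem_pointwise_smul _ _ _ trivial

/-- The quotient of a module by a finitely generated ideal of global functions. -/
theorem exists_quot (J : Ideal Γ(X, ⊤)) (hJ : J.FG) : ∀ F : X.Modules,
    ∃ (G : X.Modules) (π : F ⟶ G), Epi π ∧ ∀ (x : X) (m : F.presheaf.stalk x),
      stalkLin π x m = 0 ↔ m ∈ (J.map (rho X x)) • (⊤ : Submodule (X.presheaf.stalk x) _) := by
  refine Submodule.fg_induction (R := Γ(X, ⊤)) (M := Γ(X, ⊤))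
    (motive := fun (J : Ideal Γ(X, ⊤)) _ => ∀ F : X.Modules,
    ∃ (G : X.Modules) (π : F ⟶ G), Epi π ∧ ∀ (x : X) (m : F.presheaf.stalk x),
      stalkLin π x m = 0 ↔ m ∈ (J.map (rho X x)) • (⊤ : Submodule (X.presheaf.stalk x) _))
      ?_ ?_ J hJ
  · intro a F
    refine ⟨_, cokernel.π (smulHom F a), inferInstance, fun x m => ?_⟩
    rw [stalk_cokernel, LinearMap.mem_range]
    refine Iff.trans ?_ (mem_map_smul_top (rho X x) a m).symm
    refine exists_congr fun n => ?_
    rw [stalkLin_smulHom]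
    exact eq_comm
  · intro J₁ J₂ _ _ h₁ h₂ F
    obtain ⟨G₁, π₁, e₁, k₁⟩ := h₁ F
    obtain ⟨G₂, π₂, e₂, k₂⟩ := h₂ G₁
    refine ⟨G₂, π₁ ≫ π₂, epi_comp _ _, fun x m => ?_⟩
    rw [stalkLin_comp, LinearMap.comp_apply, k₂, Ideal.map_sup, Submodule.sup_smul,
      Submodule.mem_sup]
    have hs := stalkLin_surjective π₁ x
    have hmap : ((Ideal.map (rho X x) J₂) • (⊤ : Submodule (X.presheaf.stalk x) (F.presheaf.stalk x))).map
        (stalkLin π₁ x) = (Ideal.map (rho X x) J₂) • ⊤ := by
      rw [Submodule.map_smul'', Submodule.map_top, LinearMap.range_eq_top.2 hs]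
    rw [← hmap, Submodule.mem_map]
    constructor
    · rintro ⟨y, hy, hyx⟩
      refine ⟨m - y, (k₁ x _).1 ?_, y, hy, by abel⟩
      rw [map_sub, hyx, sub_self]
    · rintro ⟨y, hy, z, hz, rfl⟩
      exact ⟨z, hz, by rw [_root_.map_add, (k₁ x y).2 hy, zero_add]⟩

/-- Lifting through a monomorphism is a condition on stalks. -/
theorem exists_lift {E N G : X.Modules} (ι : N ⟶ G) [Mono ι] (α : E ⟶ G)
    (h : ∀ (x : X) (e : E.presheaf.stalk x), stalkLin α x e ∈ LinearMap.range (stalkLin ι x)) :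
    ∃ β : E ⟶ N, β ≫ ι = α := by
  have h0 : α ≫ cokernel.π ι = 0 := by
    refine hom_ext_stalk _ _ fun x => ?_
    ext e
    rw [stalkLin_comp, stalkLin_zero]
    exact (stalk_cokernel ι x _).2 (h x e)
  exact ⟨Abelian.monoLift ι α h0, Abelian.monoLift_comp ι α h0⟩

theorem hom_eq_zero_iff {M N : X.Modules} (φ : M ⟶ N) :
    φ = 0 ↔ ∀ (x : X) (m : M.presheaf.stalk x), stalkLin φ x m = 0 := by
  constructor
  · rintro rfl x m
    rw [stalkLin_zero]
    rfl
  · intro h
    refine hom_ext_stalk _ _ fun x => ?_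
    ext e
    rw [h, stalkLin_zero]
    rfl

end K53.StalkMul
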