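import Groth.Agent.Coherent.K53.HomAlg
import Groth.Agent.Coherent.K53.StalkMul
import Groth.Agent.PerfC.RelFlat

/-!
# The infinitesimal step for homomorphisms of flat families
-/

set_option autoImplicit false
set_option linter.style.haveILetI false
set_option linter.unusedVariables false
set_option linter.unusedSectionVars false

universe u

open CategoryTheory CategoryTheory.Limits AlgebraicGeometry TensorProduct

namespace K53.HomStep

open Groth.Agent.CycB.StalkExact Groth.Agent.Fdesc.PullbackStalk Groth.Agent.Fdesc.FlatBC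
open Groth.Agent.PerfB.FlatPull Groth.Agent.Dcoh.StalkMod
open K53.StalkMul K53.HomAlg
open Groth.Agent.LoccohB.HHmap (smulHom smulHom_app)

section Pull

variable {P X : Scheme.{u}}

theorem stalkPullbackEquiv_one (g : P ⟶ X) (N : X.Modules) (z : P)
    (n : N.presheaf.stalk (g.base z)) :
    letI := stalkAlg g z
    stalkPullbackEquiv g N z (1 ⊗ₜ[X.presheaf.stalk (g.base z)] n) = canAdd g N z n := by
  rw [stalkPullbackEquiv_tmul, one_smul]

theorem pullback_map_eq_zero_iff (g : P ⟶ X) {E N : X.Modules} (ψ : E ⟶ N) :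
    (Scheme.Modules.pullback g).map ψ = 0 ↔ ∀ (z : P) (e : E.presheaf.stalk (g.base z)),
      letI := stalkAlg g z
      (1 : P.presheaf.stalk z) ⊗ₜ[X.presheaf.stalk (g.base z)] (stalkLin ψ (g.base z) e) = 0 := by
  constructor
  · intro h z e
    letI := stalkAlg g z
    apply (stalkPullbackEquiv g N z).injective
    rw [stalkPullbackEquiv_one, map_zero, ← stalkLin_pullback_canAdd, h, stalkLin_zero]
    rfl
  · intro h
    rw [hom_eq_zero_iff]
    intro z m
    letI := stalkAlg g z
    obtain ⟨t, rfl⟩ := (stalkPullbackEquiv g E z).surjective m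
    induction t with
    | zero => simp
    | add a b ha hb => simp only [map_add, ha, hb, add_zero]
    | tmul c e =>
      rw [stalkPullbackEquiv_tmul, map_smul, stalkLin_pullback_canAdd, ← stalkPullbackEquiv_one, h,
        map_zero, smul_zero]

end Pull

section Rho

variable {X S : Scheme.{u}} {A : Type u} [CommRing A]

/-- `A → O_{S,s}`. -/
noncomputable def rS (c : A →+* Γ(S, ⊤)) (s : S) : A →+* S.presheaf.stalk s := (rho S s).comp c

/-- `A → O_{X,x}`. -/
noncomputable def rX (f : X ⟶ S) (c : A →+* Γ(S, ⊤)) (x : X) : A →+* X.presheaf.stalk x :=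
  (rho X x).comp (f.appTop.hom.comp c)

theorem stalkMap_rS (f : X ⟶ S) (c : A →+* Γ(S, ⊤)) (x : X) (a : A) :
    (f.stalkMap x).hom (rS c (f.base x) a) = rX f c x a :=
  Scheme.Hom.germ_stalkMap_apply f ⊤ x trivial (c a)

theorem comp_rS (f : X ⟶ S) (c : A →+* Γ(S, ⊤)) (x : X) :
    (f.stalkMap x).hom.comp (rS c (f.base x)) = rX f c x :=
  RingHom.ext fun a => stalkMap_rS f c x a

theorem section_rX (f : X ⟶ S) (ξ : S ⟶ X) (hξ : ξ ≫ f = 𝟙 S) (c : A →+* Γ(S, ⊤)) (s : S) :
    (ξ.stalkMap s).hom.comp (rX f c (ξ.base s)) = rS c s := by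
  ext a
  have h1 := Scheme.Hom.germ_stalkMap_apply ξ ⊤ s trivial (f.appTop (c a))
  have h2 : ξ.appTop (f.appTop (c a)) = c a := by
    have h3 := congrArg (fun k : S ⟶ S => k.appTop (c a)) hξ
    simp only [Scheme.Hom.comp_appTop, Scheme.Hom.id_appTop] at h3
    exact h3
  change (ξ.stalkMap s) (X.presheaf.germ ⊤ (ξ.base s) trivial (f.appTop (c a))) = _
  refine h1.trans ?_
  change S.presheaf.germ ⊤ s trivial (ξ.appTop (f.appTop (c a))) = _
  rw [h2]
  rfl

end Rho

section Cross

variable {P X T S : Scheme.{u}} {p : P ⟶ X} {q : P ⟶ T} {f : X ⟶ S} {g : T ⟶ S}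

theorem crossMap_eq_zero (w : p ≫ f = q ≫ g) (z : P) (hT : IsField (T.presheaf.stalk (q.base z)))
    (a : S.presheaf.stalk (f.base (p.base z)))
    (ha : a ∈ IsLocalRing.maximalIdeal (S.presheaf.stalk (f.base (p.base z)))) :
    (crossMap w z).hom a = 0 := by
  by_contra hne
  obtain ⟨b, hb⟩ := hT.mul_inv_cancel hne
  have hu : IsUnit ((crossMap w z).hom a) := IsUnit.of_mul_eq_one b hb
  have hu2 : IsUnit ((p.stalkMap z).hom ((f.stalkMap (p.base z)).hom a)) := by
    have := congrArg (fun k => k.hom a) (crossMap_comp w z)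
    change (q.stalkMap z).hom ((crossMap w z).hom a) =
      (p.stalkMap z).hom ((f.stalkMap (p.base z)).hom a) at this
    rw [← this]
    exact hu.map _
  rw [isUnit_map_iff, isUnit_map_iff] at hu2
  exact (IsLocalRing.mem_maximalIdeal _).1 ha hu2

theorem map_maximalIdeal_eq_zero (w : p ≫ f = q ≫ g) (z : P)
    (hT : IsField (T.presheaf.stalk (q.base z))) (b : X.presheaf.stalk (p.base z))
    (hb : b ∈ (IsLocalRing.maximalIdeal (S.presheaf.stalk (f.base (p.base z)))).map
      (f.stalkMap (p.base z)).hom) : (p.stalkMap z).hom b = 0 := by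
  have h : (IsLocalRing.maximalIdeal (S.presheaf.stalk (f.base (p.base z)))).map
      (f.stalkMap (p.base z)).hom ≤ RingHom.ker (p.stalkMap z).hom := by
    rw [Ideal.map_le_iff_le_comap]
    intro a ha
    rw [Ideal.mem_comap, RingHom.mem_ker]
    have := congrArg (fun k => k.hom a) (crossMap_comp w z)
    change (q.stalkMap z).hom ((crossMap w z).hom a) =
      (p.stalkMap z).hom ((f.stalkMap (p.base z)).hom a) at this
    rw [← this, crossMap_eq_zero w z hT a ha, map_zero]
  exact h hb

end Cross

section Step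

variable {P X T S : Scheme.{u}} {p : P ⟶ X} {q : P ⟶ T} {f : X ⟶ S} {g : T ⟶ S}
variable {A : Type u} [CommRing A]

theorem step (H : IsPullback p q f g) (c : A →+* Γ(S, ⊤)) (s : S)
    (hT : ∀ t : T, g.base t = s ∧ IsField (T.presheaf.stalk t))
    (hrange : ∀ x : X, f.base x = s → ∃ z : P, p.base z = x)
    {E F : X.Modules} (hFfl : ∀ x, f.base x = s → FlatMod.IsFlatOverAt f F x)
    (σ : T ⟶ P) (ξ : S ⟶ X) (hξ : ξ ≫ f = 𝟙 S) (hσ : σ ≫ p = g ≫ ξ)
    (hhom : ∀ χ : (Scheme.Modules.pullback p).obj E ⟶ (Scheme.Modules.pullback p).obj F,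
      (Scheme.Modules.pullback σ).map χ = 0 → χ = 0)
    (φ : E ⟶ F) (hφ : (Scheme.Modules.pullback ξ).map φ = 0)
    (hfree : Module.Free (X.presheaf.stalk (ξ.base s)) (F.presheaf.stalk (ξ.base s)))
    (J : Ideal A) (hJ : J.FG) (a : A) (h1 : rS c s a ∉ J.map (rS c s))
    (h2 : ∀ r ∈ IsLocalRing.maximalIdeal (S.presheaf.stalk s), r * rS c s a ∈ J.map (rS c s))
    (h3 : ∀ s', s' ≠ s → J.map (rS c s') = ⊤)
    (hP : ∀ (x : X) (e : E.presheaf.stalk x),
      stalkLin φ x e ∈ ((J ⊔ Ideal.span {a}).map (rX f c x)) • (⊤ : Submodule (X.presheaf.stalk x) _)) :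
    ∀ (x : X) (e : E.presheaf.stalk x),
      stalkLin φ x e ∈ (J.map (rX f c x)) • (⊤ : Submodule (X.presheaf.stalk x) _) := by
  obtain ⟨G, π, hπe, kπ0⟩ := exists_quot (J.map (f.appTop.hom.comp c)) (hJ.map _) F
  have kπ : ∀ (x : X) (m : F.presheaf.stalk x), stalkLin π x m = 0 ↔
      m ∈ (J.map (rX f c x)) • (⊤ : Submodule (X.presheaf.stalk x) _) := by
    intro x m
    rw [kπ0, Ideal.map_map]
    rfl
  let α : F ⟶ G := smulHom F (f.appTop (c a)) ≫ π
  have hα : ∀ (x : X) (m : F.presheaf.stalk x), stalkLin α x m = stalkLin π x (rX f c x a • m) := by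
    intro x m
    rw [stalkLin_comp, LinearMap.comp_apply, stalkLin_smulHom]
    rfl
  let N : X.Modules := Abelian.image α
  let ι : N ⟶ G := Abelian.image.ι α
  let pN : F ⟶ N := Abelian.factorThruImage α
  have hfac : pN ≫ ι = α := Abelian.image.fac α
  have hιinj : ∀ x, Function.Injective (stalkLin ι x) := fun x => stalkLin_injective ι x
  have hpNs : ∀ x, Function.Surjective (stalkLin pN x) := fun x => stalkLin_surjective pN x
  have hιp : ∀ (x : X) (m : F.presheaf.stalk x), stalkLin ι x (stalkLin pN x m) = stalkLin α x m := by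
    intro x m
    rw [← hfac, stalkLin_comp]
    rfl
  -- decomposition
  have hdec : ∀ (x : X) (e : E.presheaf.stalk x), ∃ f₁ : F.presheaf.stalk x,
      stalkLin φ x e - rX f c x a • f₁ ∈ (J.map (rX f c x)) • (⊤ : Submodule (X.presheaf.stalk x) _) := by
    intro x e
    have h := hP x e
    rw [Ideal.map_sup, Submodule.sup_smul, Submodule.mem_sup] at h
    obtain ⟨y, hy, z, hz, hyz⟩ := h
    obtain ⟨n, rfl⟩ := (mem_map_smul_top (rX f c x) a z).1 hz
    exact ⟨n, by rw [← hyz, add_sub_cancel_right]; exact hy⟩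
  obtain ⟨ψ, hψ⟩ : ∃ ψ : E ⟶ N, ψ ≫ ι = φ ≫ π := by
    refine exists_lift ι (φ ≫ π) fun x e => ?_
    obtain ⟨f₁, hf₁⟩ := hdec x e
    refine ⟨stalkLin pN x f₁, ?_⟩
    rw [hιp, hα, stalkLin_comp, LinearMap.comp_apply]
    have := (kπ x _).2 hf₁
    rw [_root_.map_sub, sub_eq_zero] at this
    exact this.symm
  have hψe : ∀ (x : X) (e : E.presheaf.stalk x), stalkLin ι x (stalkLin ψ x e) =
      stalkLin π x (stalkLin φ x e) := by
    intro x e
    have h5 := congrArg (fun k => stalkLin k x e) hψ
    simpa only [stalkLin_comp, LinearMap.comp_apply] using h5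
  have hψf : ∀ (x : X) (e : E.presheaf.stalk x) (f₁ : F.presheaf.stalk x),
      stalkLin φ x e - rX f c x a • f₁ ∈ (J.map (rX f c x)) • (⊤ : Submodule (X.presheaf.stalk x) _) →
      stalkLin ψ x e = stalkLin pN x f₁ := by
    intro x e f₁ hf₁
    apply hιinj x
    rw [hψe, hιp, hα]
    have := (kπ x _).2 hf₁
    rwa [_root_.map_sub, sub_eq_zero] at this
  -- the kernel of `pN`
  have hker : ∀ x : X, f.base x = s → ∀ m : F.presheaf.stalk x, stalkLin pN x m = 0 →
      m ∈ ((IsLocalRing.maximalIdeal (S.presheaf.stalk (f.base x))).map (f.stalkMap x).hom) •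
        (⊤ : Submodule (X.presheaf.stalk x) _) := by
    intro x hx m hm
    have h4 : stalkLin π x (rX f c x a • m) = 0 := by
      rw [← hα, ← hιp, hm, _root_.map_zero]
    rw [kπ] at h4
    have h1' : rS c (f.base x) a ∉ J.map (rS c (f.base x)) := by rw [hx]; exact h1
    letI := stalkAlg f x
    letI := FlatMod.moduleStalkOver f F x
    haveI : IsScalarTower (S.presheaf.stalk (f.base x)) (X.presheaf.stalk x) (F.presheaf.stalk x) :=
      ⟨fun a b m => by rw [Algebra.smul_def, mul_smul]; rfl⟩
    haveI : Module.Flat (S.presheaf.stalk (f.base x)) (F.presheaf.stalk x) := hFfl x hx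
    have h5 := mem_smul_top_restrict (R := S.presheaf.stalk (f.base x)) (rS c (f.base x)) (rX f c x)
      (fun a => stalkMap_rS f c x a) J h4
    have h6 : rS c (f.base x) a • m ∈ (J.map (rS c (f.base x))) •
        (⊤ : Submodule (S.presheaf.stalk (f.base x)) (F.presheaf.stalk x)) := by
      have h7 : rS c (f.base x) a • m = rX f c x a • m := by
        rw [← stalkMap_rS]
        rfl
      rw [h7]
      exact h5
    have h8 := flat_colon h1' h6
    exact mem_smul_top_extend (B := X.presheaf.stalk x) _ h8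
  -- `N` is killed by the maximal ideal
  have hkill : ∀ x : X, f.base x = s → ∀ r ∈ IsLocalRing.maximalIdeal (S.presheaf.stalk (f.base x)),
      ∀ n : N.presheaf.stalk x, (f.stalkMap x).hom r • n = 0 := by
    intro x hx r hr n
    have h2' : ∀ r ∈ IsLocalRing.maximalIdeal (S.presheaf.stalk (f.base x)),
        r * rS c (f.base x) a ∈ J.map (rS c (f.base x)) := by rw [hx]; exact h2
    obtain ⟨m, rfl⟩ := hpNs x n
    apply hιinj x
    rw [_root_.map_zero, ← _root_.map_smul, hιp, hα, kπ, smul_smul]
    refine Submodule.smul_mem_smul ?_ trivial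
    rw [← stalkMap_rS, ← _root_.map_mul, ← comp_rS, ← Ideal.map_map, mul_comm]
    exact Ideal.mem_map_of_mem _ (h2' r hr)
  -- the pullback of `pN` is an isomorphism
  have hfp : ∀ z : P, f.base (p.base z) = s := by
    intro z
    have := congrArg (fun k : P ⟶ S => k.base z) H.w
    simp only [Scheme.Hom.comp_base, TopCat.hom_comp, ContinuousMap.comp_apply] at this
    rw [← (hT (q.base z)).1]
    exact this
  have hmono : Mono ((Scheme.Modules.pullback p).map pN) := by
    apply mono_of_stalkLin_injective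
    intro z
    letI := stalkAlg p z
    have key := baseChange_injective_of_ker_le (U := P.presheaf.stalk z) (stalkLin pN (p.base z))
      (hpNs _) (I := (IsLocalRing.maximalIdeal (S.presheaf.stalk (f.base (p.base z)))).map
        (f.stalkMap (p.base z)).hom)
      (map_maximalIdeal_eq_zero H.w z (hT _).2) (hker _ (hfp z))
    have hc : ∀ x, stalkLin ((Scheme.Modules.pullback p).map pN) z (stalkPullbackEquiv p F z x) =
        stalkPullbackEquiv p N z ((stalkLin pN (p.base z)).baseChange (P.presheaf.stalk z) x) := by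
      intro x
      induction x with
      | zero => simp
      | add a b ha hb => simp only [map_add, ha, hb]
      | tmul t m =>
        rw [stalkPullbackEquiv_tmul, LinearMap.baseChange_tmul, stalkPullbackEquiv_tmul, map_smul,
          stalkLin_pullback_canAdd]
    intro x y hxy
    obtain ⟨x, rfl⟩ := (stalkPullbackEquiv p F z).surjective x
    obtain ⟨y, rfl⟩ := (stalkPullbackEquiv p F z).surjective y
    rw [hc, hc] at hxy
    rw [key ((stalkPullbackEquiv p N z).injective hxy)]
  have hepi : Epi ((Scheme.Modules.pullback p).map pN) := inferInstance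
  have hiso : IsIso ((Scheme.Modules.pullback p).map pN) := isIso_of_mono_of_epi _
  -- the pullback of `ψ` along the point is zero
  have hclaim : ∀ x₀ : X, x₀ = ξ.base s → ∀ e : E.presheaf.stalk x₀, stalkLin ψ x₀ e ∈
      IsLocalRing.maximalIdeal (X.presheaf.stalk x₀) • (⊤ : Submodule (X.presheaf.stalk x₀) _) := by
    rintro _ rfl e
    obtain ⟨f₁, hf₁⟩ := hdec _ e
    rw [hψf _ e f₁ hf₁]
    have hmem : f₁ ∈ IsLocalRing.maximalIdeal (X.presheaf.stalk (ξ.base s)) •
        (⊤ : Submodule (X.presheaf.stalk (ξ.base s)) _) := by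
      haveI : IsLocalHom (ξ.stalkMap s).hom := inferInstance
      let b := Module.Free.chooseBasis (X.presheaf.stalk (ξ.base s))
        (F.presheaf.stalk (ξ.base s))
      refine mem_of_coord_zero (rX f c (ξ.base s)) (ξ.stalkMap s).hom J (a := a) ?_
        b (y := stalkLin φ (ξ.base s) e) ?_ hf₁
      · rw [section_rX f ξ hξ]
        intro hmem
        apply h1
        have h9 := congrArg (fun k : A →+* S.presheaf.stalk s => k a) (section_rX f ξ hξ c s)
        rw [← h9]
        exact hmem
      · intro i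
        letI := stalkAlg ξ s
        have h10 := (pullback_map_eq_zero_iff ξ φ).1 hφ s e
        have h11 := congrArg (fun y => (b.baseChange (S.presheaf.stalk s)).repr y i) h10
        simp only [Module.Basis.baseChange_repr_tmul, map_zero, Finsupp.zero_apply,
          Algebra.smul_def, mul_one] at h11
        exact h11
    have h12 := Submodule.mem_map_of_mem (f := stalkLin pN (ξ.base s)) hmem
    have h14 : IsLocalRing.maximalIdeal (X.presheaf.stalk (ξ.base s)) •
        Submodule.map (stalkLin pN (ξ.base s)) ⊤ ≤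
        IsLocalRing.maximalIdeal (X.presheaf.stalk (ξ.base s)) •
          (⊤ : Submodule (X.presheaf.stalk (ξ.base s)) _) :=
      Submodule.smul_mono le_rfl le_top
    refine h14 ?_
    have h13 := Submodule.map_smul'' (IsLocalRing.maximalIdeal (X.presheaf.stalk (ξ.base s)))
      (⊤ : Submodule (X.presheaf.stalk (ξ.base s)) (F.presheaf.stalk (ξ.base s)))
      (stalkLin pN (ξ.base s))
    rw [← h13]
    exact h12
  have hψσ : (Scheme.Modules.pullback (g ≫ ξ)).map ψ = 0 := by
    rw [pullback_map_eq_zero_iff]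
    intro t e
    obtain ⟨ht, hfield⟩ := hT t
    letI := stalkAlg (g ≫ ξ) t
    refine one_tmul_eq_zero (B := X.presheaf.stalk ((g ≫ ξ).base t)) (U := T.presheaf.stalk t)
      (I := IsLocalRing.maximalIdeal _) ?_ (hclaim _ ?_ e) 1
    · intro b hb
      by_contra hne
      obtain ⟨b', hb'⟩ := hfield.mul_inv_cancel hne
      have hu : IsUnit (((g ≫ ξ).stalkMap t).hom b) := IsUnit.of_mul_eq_one b' hb'
      rw [isUnit_map_iff] at hu
      exact (IsLocalRing.mem_maximalIdeal _).1 hb hu
    · rw [← ht]
      rfl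
  rw [← hσ] at hψσ
  have hψσ' : (Scheme.Modules.pullback σ).map ((Scheme.Modules.pullback p).map ψ) = 0 := by
    have h13 := (Scheme.Modules.pullbackComp σ p).hom.naturality ψ
    rw [hψσ, comp_zero] at h13
    rw [← cancel_mono ((Scheme.Modules.pullbackComp σ p).hom.app N), zero_comp]
    exact h13
  have hχ := hhom ((Scheme.Modules.pullback p).map ψ ≫ inv ((Scheme.Modules.pullback p).map pN)) (by
    rw [Functor.map_comp, hψσ', zero_comp])
  have hψp : (Scheme.Modules.pullback p).map ψ = 0 := by
    rw [← cancel_mono (inv ((Scheme.Modules.pullback p).map pN)), hχ, zero_comp]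
  rw [pullback_map_eq_zero_iff] at hψp
  -- conclusion
  intro x e
  by_cases hx : f.base x = s
  · obtain ⟨z, rfl⟩ := hrange x hx
    rw [← kπ, ← hψe]
    have h14 : stalkLin ψ (p.base z) e = 0 := by
      letI := stalkAlg f (p.base z)
      letI : Algebra (S.presheaf.stalk (f.base (p.base z))) (T.presheaf.stalk (q.base z)) :=
        (crossMap H.w z).hom.toAlgebra
      letI := stalkAlg p z
      letI := stalkAlg q z
      letI : Algebra (S.presheaf.stalk (f.base (p.base z))) (P.presheaf.stalk z) :=
        (f.stalkMap (p.base z) ≫ p.stalkMap z).hom.toAlgebra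
      haveI : IsScalarTower (S.presheaf.stalk (f.base (p.base z))) (X.presheaf.stalk (p.base z))
        (P.presheaf.stalk z) := IsScalarTower.of_algebraMap_eq fun _ => rfl
      haveI : IsScalarTower (S.presheaf.stalk (f.base (p.base z))) (T.presheaf.stalk (q.base z))
        (P.presheaf.stalk z) := IsScalarTower.of_algebraMap_eq fun r =>
          (ConcreteCategory.congr_hom (crossMap_comp H.w z) r).symm
      haveI : IsLocalHom (algebraMap (S.presheaf.stalk (f.base (p.base z))) (X.presheaf.stalk (p.base z))) :=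
        inferInstanceAs (IsLocalHom (f.stalkMap (p.base z)).hom)
      haveI : IsLocalHom (algebraMap (X.presheaf.stalk (p.base z)) (P.presheaf.stalk z)) :=
        inferInstanceAs (IsLocalHom (p.stalkMap z).hom)
      have hinj := mk_injective_of_cube (flat_productMap_stalk H z)
        (crossMap_eq_zero H.w z (hT _).2) (N := N.presheaf.stalk (p.base z)) (hkill _ hx)
      apply hinj
      rw [_root_.map_zero]
      exact hψp z e
    rw [h14, _root_.map_zero]
  · have h15 : J.map (rX f c x) = ⊤ := by
      rw [← comp_rS, ← Ideal.map_map, h3 _ hx, Ideal.map_top]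
    rw [h15, Submodule.top_smul]
    trivial

end Step

end K53.HomStep
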