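import Groth.Agent.Coherent.K53.HomStep

/-!
# Homomorphisms of flat families over a Noetherian affine base, vanishing along a section

`stalk_eq_zero`: if homomorphisms on the fibre over a closed point which vanish at the point of the
section are zero, then a homomorphism of flat families which vanishes along the section is zero on the
stalks over the closed point.
-/

set_option autoImplicit false
set_option linter.style.haveILetI false
set_option linter.unusedVariables false
set_option linter.unusedSectionVars false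

universe u

open CategoryTheory CategoryTheory.Limits AlgebraicGeometry TensorProduct

namespace K53.HomZero

open Groth.Agent.CycB.StalkExact K53.HomStep K53.StalkMul

section Loc

variable {A B : Type u} [CommRing A] [CommRing B] [Algebra A B] (p : Ideal A) [p.IsMaximal]
  [IsLocalization.AtPrime B p]

include p

theorem notMem_map {J : Ideal A} {a : A} (ha : a ∉ J) (h : ∀ b ∈ p, b * a ∈ J) :
    algebraMap A B a ∉ J.map (algebraMap A B) := by
  rw [IsLocalization.algebraMap_mem_map_algebraMap_iff p.primeCompl]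
  rintro ⟨u, hu, hua⟩
  apply ha
  obtain ⟨c, b, hb, hcb⟩ := Ideal.IsMaximal.exists_inv (I := p) inferInstance hu
  have : a = c * (u * a) + b * a := by
    rw [← mul_assoc, ← add_mul, hcb, one_mul]
  rw [this]
  exact add_mem (Ideal.mul_mem_left _ _ hua) (h b hb)

theorem mul_mem_map [IsLocalRing B] {J : Ideal A} {a : A} (h : ∀ b ∈ p, b * a ∈ J) :
    ∀ r ∈ IsLocalRing.maximalIdeal B, r * algebraMap A B a ∈ J.map (algebraMap A B) := by
  intro r hr
  rw [← IsLocalization.AtPrime.map_eq_maximalIdeal p B] at hr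
  refine Submodule.span_induction (p := fun r _ => r * algebraMap A B a ∈ J.map (algebraMap A B))
    ?_ ?_ ?_ ?_ hr
  · rintro _ ⟨b, hb, rfl⟩
    rw [← map_mul]
    exact Ideal.mem_map_of_mem _ (h b hb)
  · rw [zero_mul]
    exact zero_mem _
  · intro x y _ _ hx hy
    rw [add_mul]
    exact add_mem hx hy
  · intro c x _ hx
    rw [smul_eq_mul, mul_assoc]
    exact Ideal.mul_mem_left _ _ hx

end Loc

section Spec

variable (A : CommRingCat.{u})

/-- The structure map `A → Γ(Spec A, ⊤)`. -/
noncomputable def cA : A →+* Γ(Spec A, ⊤) := (Scheme.ΓSpecIso A).inv.hom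

theorem rS_eq (s : Spec A) :
    letI : Algebra A ((Spec A).presheaf.stalk s) := StructureSheaf.stalkAlgebra A s
    rS (cA A) s = algebraMap A ((Spec A).presheaf.stalk s) := by
  letI : Algebra A ((Spec A).presheaf.stalk s) := StructureSheaf.stalkAlgebra A s
  ext a
  rfl

theorem isLocalization (s : Spec A) [hp : s.asIdeal.IsPrime] :
    letI : Algebra A ((Spec A).presheaf.stalk s) := StructureSheaf.stalkAlgebra A s
    IsLocalization.AtPrime ((Spec A).presheaf.stalk s) s.asIdeal :=
  StructureSheaf.IsLocalization.to_stalk A s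

theorem h1 {s : Spec A} (hs : s.asIdeal.IsMaximal) {J : Ideal A} {a : A} (ha : a ∉ J)
    (h : ∀ b ∈ s.asIdeal, b * a ∈ J) : rS (cA A) s a ∉ J.map (rS (cA A) s) := by
  letI : Algebra A ((Spec A).presheaf.stalk s) := StructureSheaf.stalkAlgebra A s
  have := hs.isPrime
  have := isLocalization A s
  have key := notMem_map (B := (Spec A).presheaf.stalk s) s.asIdeal ha h
  rw [← rS_eq] at key
  exact key

theorem h2 {s : Spec A} (hs : s.asIdeal.IsMaximal) {J : Ideal A} {a : A}
    (h : ∀ b ∈ s.asIdeal, b * a ∈ J) :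
    ∀ r ∈ IsLocalRing.maximalIdeal ((Spec A).presheaf.stalk s),
      r * rS (cA A) s a ∈ J.map (rS (cA A) s) := by
  letI : Algebra A ((Spec A).presheaf.stalk s) := StructureSheaf.stalkAlgebra A s
  have := hs.isPrime
  have := isLocalization A s
  rw [rS_eq]
  exact mul_mem_map s.asIdeal h

theorem h3 {s : Spec A} (hs : s.asIdeal.IsMaximal) {J : Ideal A} {n : ℕ} (hJ : s.asIdeal ^ n ≤ J) :
    ∀ s' : Spec A, s' ≠ s → J.map (rS (cA A) s') = ⊤ := by
  intro s' hne
  letI : Algebra A ((Spec A).presheaf.stalk s') := StructureSheaf.stalkAlgebra A s'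
  have hp' : s'.asIdeal.IsPrime := PrimeSpectrum.isPrime s'
  have := isLocalization A s'
  rw [rS_eq]
  have h4 : ¬ s.asIdeal ≤ s'.asIdeal := by
    intro h
    apply hne
    have := hs.eq_of_le s'.isPrime.ne_top h
    exact (PrimeSpectrum.ext this).symm
  obtain ⟨b, hb, hb'⟩ := SetLike.not_le_iff_exists.1 h4
  refine Ideal.eq_top_of_isUnit_mem _ (Ideal.mem_map_of_mem _ (hJ (Ideal.pow_mem_pow hb n))) ?_
  rw [map_pow]
  exact (IsLocalization.map_units ((Spec A).presheaf.stalk s')
    (⟨b, hb'⟩ : s'.asIdeal.primeCompl)).pow n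

end Spec

section Main

variable {A : CommRingCat.{u}} [IsNoetherianRing A]
variable {P X T : Scheme.{u}} {p : P ⟶ X} {q : P ⟶ T} {f : X ⟶ Spec A} {g : T ⟶ Spec A}

theorem mem_map_smul (H : IsPullback p q f g) (s : Spec A) (hs : s.asIdeal.IsMaximal)
    (hT : ∀ t : T, g.base t = s ∧ IsField (T.presheaf.stalk t))
    (hrange : ∀ x : X, f.base x = s → ∃ z : P, p.base z = x)
    {E F : X.Modules} (hFfl : ∀ x, f.base x = s → FlatMod.IsFlatOverAt f F x)
    (σ : T ⟶ P) (ξ : Spec A ⟶ X) (hξ : ξ ≫ f = 𝟙 (Spec A)) (hσ : σ ≫ p = g ≫ ξ)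
    (hhom : ∀ χ : (Scheme.Modules.pullback p).obj E ⟶ (Scheme.Modules.pullback p).obj F,
      (Scheme.Modules.pullback σ).map χ = 0 → χ = 0)
    (φ : E ⟶ F) (hφ : (Scheme.Modules.pullback ξ).map φ = 0)
    (hfree : Module.Free (X.presheaf.stalk (ξ.base s)) (F.presheaf.stalk (ξ.base s)))
    (n : ℕ) : ∀ J : Ideal A, s.asIdeal ^ n ≤ J → ∀ (x : X) (e : E.presheaf.stalk x),
      stalkLin φ x e ∈ (J.map (rX f (cA A) x)) • (⊤ : Submodule (X.presheaf.stalk x) _) := by
  intro J
  induction J using IsNoetherian.induction with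
  | hgt J ih =>
    intro hJ
    by_cases htop : J = ⊤
    · intro x e
      rw [htop, Ideal.map_top, Submodule.top_smul]
      trivial
    · classical
      have hex : ∃ i, s.asIdeal ^ i ≤ J := ⟨n, hJ⟩
      obtain ⟨i, hi⟩ : ∃ i, Nat.find hex = i + 1 := by
        refine Nat.exists_eq_succ_of_ne_zero fun h0 => htop ?_
        have := Nat.find_spec hex
        rw [h0, pow_zero, Ideal.one_eq_top] at this
        exact top_le_iff.1 this
      have hi1 : s.asIdeal ^ (i + 1) ≤ J := hi ▸ Nat.find_spec hex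
      have hi0 : ¬ s.asIdeal ^ i ≤ J := Nat.find_min hex (by omega)
      obtain ⟨a, ha, haJ⟩ := SetLike.not_le_iff_exists.1 hi0
      have hb : ∀ b ∈ s.asIdeal, b * a ∈ J := fun b hb => hi1 (by
        rw [pow_succ']
        exact Ideal.mul_mem_mul hb ha)
      have hlt : J < J ⊔ Ideal.span {a} := by
        refine lt_of_le_of_ne le_sup_left fun he => haJ ?_
        rw [he]
        exact Ideal.mem_sup_right (Ideal.mem_span_singleton_self a)
      exact step H (cA A) s hT hrange hFfl σ ξ hξ hσ hhom φ hφ hfree J (IsNoetherian.noetherian J) a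
        (h1 A hs haJ hb) (h2 A hs hb) (h3 A hs hJ) (ih _ hlt (hJ.trans le_sup_left))

/-- The main result over a Noetherian affine base. -/
theorem stalk_eq_zero (H : IsPullback p q f g) (s : Spec A) (hs : s.asIdeal.IsMaximal)
    (hT : ∀ t : T, g.base t = s ∧ IsField (T.presheaf.stalk t))
    (hrange : ∀ x : X, f.base x = s → ∃ z : P, p.base z = x) [IsLocallyNoetherian X]
    {E F : X.Modules} (hF : Coh.IsCoh F) (hFfl : ∀ x, f.base x = s → FlatMod.IsFlatOverAt f F x)
    (σ : T ⟶ P) (ξ : Spec A ⟶ X) (hξ : ξ ≫ f = 𝟙 (Spec A)) (hσ : σ ≫ p = g ≫ ξ)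
    (hhom : ∀ χ : (Scheme.Modules.pullback p).obj E ⟶ (Scheme.Modules.pullback p).obj F,
      (Scheme.Modules.pullback σ).map χ = 0 → χ = 0)
    (φ : E ⟶ F) (hφ : (Scheme.Modules.pullback ξ).map φ = 0)
    (hfree : Module.Free (X.presheaf.stalk (ξ.base s)) (F.presheaf.stalk (ξ.base s)))
    (x : X) (hx : f.base x = s) (e : E.presheaf.stalk x) : stalkLin φ x e = 0 := by
  have hmem := fun n => mem_map_smul H s hs hT hrange hFfl σ ξ hξ hσ hhom φ hφ hfree n
    (s.asIdeal ^ n) le_rfl x e
  have hle : s.asIdeal.map (rX f (cA A) x) ≤ IsLocalRing.maximalIdeal (X.presheaf.stalk x) := by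
    rw [Ideal.map_le_iff_le_comap]
    intro b hb
    rw [Ideal.mem_comap, ← stalkMap_rS, IsLocalRing.mem_maximalIdeal]
    intro hu
    have hu' : IsUnit (rS (cA A) (f.base x) b) := (isUnit_map_iff (f.stalkMap x).hom _).1 hu
    rw [hx] at hu'
    letI : Algebra A ((Spec A).presheaf.stalk s) := StructureSheaf.stalkAlgebra A s
    have := hs.isPrime
    have := isLocalization A s
    rw [rS_eq] at hu'
    exact (IsLocalization.AtPrime.isUnit_to_map_iff ((Spec A).presheaf.stalk s) s.asIdeal b).1 hu' hb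
  have hfin : Module.Finite (X.presheaf.stalk x) (F.presheaf.stalk x) :=
    Groth.Agent.CycB.StalkLoc.finite_stalk F hF x
  have hK := Ideal.iInf_pow_smul_eq_bot_of_isLocalRing (R := X.presheaf.stalk x)
    (M := F.presheaf.stalk x) (I := IsLocalRing.maximalIdeal (X.presheaf.stalk x))
    (Ideal.IsMaximal.ne_top inferInstance)
  have : stalkLin φ x e ∈ (⨅ i : ℕ, IsLocalRing.maximalIdeal (X.presheaf.stalk x) ^ i •
      (⊤ : Submodule (X.presheaf.stalk x) (F.presheaf.stalk x))) := by
    rw [Submodule.mem_iInf]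
    intro i
    refine Submodule.smul_mono ?_ le_rfl (hmem i)
    rw [Ideal.map_pow]
    exact Ideal.pow_right_mono hle i
  rw [hK] at this
  exact this

end Main

end K53.HomZero
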