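import Groth.Agent.ShStab.K846.Lat
import Groth.Prelude.Def_StabCat
import Mathlib.CategoryTheory.Abelian.DiagramLemmas.KernelCokernelComp

/-!
# Semistability with respect to an additive function (King), kernels, cokernels, filtrations

`C` abelian, `ok` a class of objects closed under kernels, cokernels, extensions, `ℓ` additive with
values in a linearly ordered group.
* `SS ok ℓ M`: `ok M`, `ℓ M = 0` and `0 ≤ ℓ T` for every `ok` subobject; `St`: stable.
* `SS.kernel`, `SS.image`, `SS.cokernel`, `SS.ext`.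
* `Filt Φ M`: iterated extension of objects of `Φ`.  `filt_of_series`, `exists_series`, `filt_sub_quot`.
-/

set_option autoImplicit false
set_option linter.unusedSectionVars false
set_option linter.unusedVariables false

universe v u w

open CategoryTheory CategoryTheory.Limits

namespace K53.King

variable {C : Type u} [Category.{v} C] [Abelian C] {V : Type w} [AddCommGroup V] [LinearOrder V]
  [IsOrderedAddMonoid V]
variable (ok : C → Prop) (ℓ : C → V)

/-- Semistability (zero allowed). -/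
def SS (M : C) : Prop := ok M ∧ ℓ M = 0 ∧ ∀ (T : C) (ι : T ⟶ M), Mono ι → ok T → 0 ≤ ℓ T

/-- Stability. -/
def St (M : C) : Prop :=
  SS ok ℓ M ∧ ¬ IsZero M ∧ ∀ (T : C) (ι : T ⟶ M), Mono ι → ok T → ¬ IsZero T → ¬ IsIso ι → 0 < ℓ T

variable {ok ℓ} (h : K846.Lat.Add ok ℓ)

include h

theorem SS.zero {M : C} (hM : IsZero M) : SS ok ℓ M :=
  ⟨h.ok_zero hM, h.v_zero hM, fun T ι hι _ => by
    have : IsZero T := IsZero.of_mono ι hM
    rw [h.v_zero this]⟩

theorem SS.of_iso {M N : C} (e : M ≅ N) (hM : SS ok ℓ M) : SS ok ℓ N :=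
  ⟨h.ok_iso e hM.1, by rw [← h.v_iso e hM.1, hM.2.1], fun T ι hι hT =>
    hM.2.2 T (ι ≫ e.inv) (mono_comp _ _) hT⟩

omit h in
theorem SS.of_mono {M T : C} (hM : SS ok ℓ M) (ι : T ⟶ M) [Mono ι] (hT : ok T) (h0 : ℓ T = 0) :
    SS ok ℓ T :=
  ⟨hT, h0, fun T' κ hκ hT' => hM.2.2 T' (κ ≫ ι) (mono_comp _ _) hT'⟩

/-- `ℓ (ker f) + ℓ (im f) = ℓ M`. -/
theorem add_image {M N : C} (f : M ⟶ N) (hM : ok M) (hN : ok N) :
    ℓ (Abelian.image f) = ℓ M - ℓ (kernel f) := by
  have hi := h.ok_image f hM hN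
  have h1 := h.v_kernel (Abelian.factorThruImage f) hM hi
  have e : kernel (Abelian.factorThruImage f) ≅ kernel f :=
    (kernelCompMono (Abelian.factorThruImage f) (Abelian.image.ι f)).symm ≪≫
      kernelIsoOfEq (Abelian.image.fac f)
  have h2 := h.v_iso e (h.ok_kernel _ hM hi)
  rw [h1] at h2
  rw [← h2]
  abel

theorem add_cokernel {M N : C} (f : M ⟶ N) (hM : ok M) (hN : ok N) :
    ℓ (cokernel f) = ℓ N - ℓ (Abelian.image f) := by
  have hc := h.ok_cokernel f hM hN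
  have h1 := h.v_kernel (cokernel.π f) hN hc
  change ℓ (Abelian.image f) = _ at h1
  rw [h1]
  abel

theorem both_zero {M N : C} (hM : SS ok ℓ M) (hN : SS ok ℓ N) (f : M ⟶ N) :
    ℓ (kernel f) = 0 ∧ ℓ (Abelian.image f) = 0 := by
  have h1 := add_image h f hM.1 hN.1
  have h2 := hM.2.2 _ (kernel.ι f) inferInstance (h.ok_kernel f hM.1 hN.1)
  have h3 := hN.2.2 _ (Abelian.image.ι f) inferInstance (h.ok_image f hM.1 hN.1)
  rw [h1, hM.2.1, zero_sub] at h3
  have h4 : ℓ (kernel f) = 0 := le_antisymm (neg_nonneg.1 h3) h2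
  exact ⟨h4, by rw [h1, hM.2.1, h4, sub_zero]⟩

theorem SS.kernel {M N : C} (hM : SS ok ℓ M) (hN : SS ok ℓ N) (f : M ⟶ N) : SS ok ℓ (kernel f) :=
  hM.of_mono (Limits.kernel.ι f) (h.ok_kernel f hM.1 hN.1) (both_zero h hM hN f).1

theorem SS.image {M N : C} (hM : SS ok ℓ M) (hN : SS ok ℓ N) (f : M ⟶ N) :
    SS ok ℓ (Abelian.image f) :=
  hN.of_mono (Abelian.image.ι f) (h.ok_image f hM.1 hN.1) (both_zero h hM hN f).2

theorem SS.of_epi {M Q : C} (hM : SS ok ℓ M) (p : M ⟶ Q) [Epi p] (hQ : ok Q) (h0 : ℓ Q = 0) :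
    SS ok ℓ Q := by
  refine ⟨hQ, h0, fun T κ hκ hT => ?_⟩
  have hc := h.ok_cokernel κ hT hQ
  have e : Epi (p ≫ cokernel.π κ) := epi_comp _ _
  have h1 := hM.2.2 _ (kernel.ι (p ≫ cokernel.π κ)) inferInstance (h.ok_kernel _ hM.1 hc)
  rw [h.v_kernel _ hM.1 hc, hM.2.1, h.v_cokernel κ hT hQ, h0] at h1
  simpa using h1

theorem SS.cokernel {M N : C} (hM : SS ok ℓ M) (hN : SS ok ℓ N) (f : M ⟶ N) :
    SS ok ℓ (cokernel f) := by
  refine hN.of_epi h (cokernel.π f) (h.ok_cokernel f hM.1 hN.1) ?_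
  rw [add_cokernel h f hM.1 hN.1, hN.2.1, (both_zero h hM hN f).2, sub_zero]

/-- Extensions. -/
theorem SS.ext (S : ShortComplex C) (hS : S.ShortExact) (h₁ : SS ok ℓ S.X₁) (h₃ : SS ok ℓ S.X₃) :
    SS ok ℓ S.X₂ := by
  have := hS.mono_f
  have := hS.epi_g
  have h₂ := h.ok_ext S hS h₁.1 h₃.1
  refine ⟨h₂, by rw [h.add S hS h₁.1 h₂ h₃.1, h₁.2.1, h₃.2.1, add_zero], fun T ι hι hT => ?_⟩
  have hk := h.ok_kernel (ι ≫ S.g) hT h₃.1
  let k : Limits.kernel (ι ≫ S.g) ⟶ S.X₁ := hS.exact.lift (kernel.ι (ι ≫ S.g) ≫ ι) (by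
    rw [Category.assoc, kernel.condition])
  have hk' : k ≫ S.f = kernel.ι (ι ≫ S.g) ≫ ι := hS.exact.lift_f _ _
  have hm : Mono k := by
    have : Mono (k ≫ S.f) := by
      rw [hk']
      infer_instance
    exact mono_of_mono k S.f
  have a1 := h₁.2.2 _ k hm hk
  have a2 := h₃.2.2 _ (Abelian.image.ι (ι ≫ S.g)) inferInstance (h.ok_image _ hT h₃.1)
  rw [add_image h _ hT h₃.1] at a2
  exact a1.trans (sub_nonneg.1 a2)

/-- A map from a semistable object to a stable one whose kernel/image have `ℓ = 0` is zero or epi. -/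
theorem St.eq_zero_or_epi {G B : C} (hB : St ok ℓ B) (hG : ok G) (g : G ⟶ B)
    (h0 : ℓ (Abelian.image g) = 0) : g = 0 ∨ Epi g := by
  by_cases hz : IsZero (Abelian.image g)
  · left
    rw [← Abelian.image.fac g, hz.eq_of_tgt (Abelian.factorThruImage g) 0, zero_comp]
  · right
    by_cases hi : IsIso (Abelian.image.ι g)
    · rw [← Abelian.image.fac g]
      infer_instance
    · have := hB.2.2 _ (Abelian.image.ι g) inferInstance (h.ok_image g hG hB.1.1) hz hi
      rw [h0] at this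
      exact absurd this (lt_irrefl _)

end K53.King
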