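import Groth.Agent.Coherent.K53.King
import Groth.Agent.ShStab.K846.JH
import Groth.Agent.ShStab.K846.HomAbs

/-!
# Reduced-polynomial stability as King stability with respect to a fixed reduced invariant
-/

set_option autoImplicit false
set_option linter.unusedSectionVars false
set_option linter.unusedVariables false

universe v u w

open CategoryTheory CategoryTheory.Limits

namespace K53.KingJH

open K53.King

variable {C : Type u} [Category.{v} C] [Abelian C]
variable {V : Type w} [AddCommGroup V] [LinearOrder V] [IsOrderedAddMonoid V] [Module ℚ V]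
  [PosSMulStrictMono ℚ V]

/-- The linear invariant attached to the reference invariant `p`. -/
def el (P : C → V) (α : V →ₗ[ℚ] ℚ) (p : V) (M : C) : V := α (P M) • p - α p • P M

variable {ok : C → Prop} {P : C → V} {α : V →ₗ[ℚ] ℚ}

theorem add_el (h : K846.Lat.Add ok P) (p : V) : K846.Lat.Add ok (el P α p) where
  ok_iso := h.ok_iso
  ok_zero := h.ok_zero
  ok_kernel := h.ok_kernel
  ok_cokernel := h.ok_cokernel
  ok_ext := h.ok_ext
  add S hS h₁ h₂ h₃ := by
    unfold el
    rw [h.add S hS h₁ h₂ h₃, map_add, add_smul, smul_add]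
    abel

theorem el_nonneg_iff {p : V} {T : C} : 0 ≤ el P α p T ↔ α p • P T ≤ α (P T) • p := sub_nonneg

theorem el_pos_iff {p : V} {T : C} : 0 < el P α p T ↔ α p • P T < α (P T) • p := sub_pos

theorem el_eq_zero_iff {p : V} {T : C} : el P α p T = 0 ↔ α p • P T = α (P T) • p := by
  unfold el
  rw [sub_eq_zero, eq_comm]

variable {p : V}

theorem alpha_pos_of (hp : 0 < p) (hap : 0 < α p) {T : C} (hT : 0 < P T)
    (h : α p • P T ≤ α (P T) • p) : 0 < α (P T) := by
  by_contra hn
  have h1 : 0 < α p • P T := smul_pos hap hT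
  exact absurd (h1.trans_le h) (smul_nonpos_of_nonpos_of_nonneg (not_lt.1 hn) hp.le).not_gt

/-- The semistable dictionary. -/
theorem ss_iff (hpos : ∀ M : C, ok M → ¬ IsZero M → 0 < P M) (h : K846.Lat.Add ok P)
    (hp : 0 < p) (hap : 0 < α p) {M : C} (hM : ok M) (h0 : ¬ IsZero M) :
    (K846.HomAbs.PosMult ok P α M ∧ K846.JH.SS ok P α M ∧ α p • P M = α (P M) • p) ↔
      SS ok (el P α p) M := by
  constructor
  · rintro ⟨h1, h2, h3⟩
    have hαM : 0 < α (P M) := alpha_pos_of hp hap (hpos M hM h0) h3.le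
    refine ⟨hM, el_eq_zero_iff.2 h3, fun T ι hι hT => el_nonneg_iff.2 ?_⟩
    have h4 := h2 T ι hι hT
    have h5 : α (P M) • (α p • P T) ≤ α (P M) • (α (P T) • p) := by
      rw [smul_comm, smul_comm (α (P M)) (α (P T)), ← h3, smul_comm (α (P T))]
      exact smul_le_smul_of_nonneg_left h4 hap.le
    exact le_of_smul_le_smul_left h5 hαM
  · rintro ⟨_, h3, h4⟩
    have h3 := el_eq_zero_iff.1 h3
    have hαM : 0 < α (P M) := alpha_pos_of hp hap (hpos M hM h0) h3.le
    refine ⟨fun T ι hι hT hz => ?_, fun T ι hι hT => ?_, h3⟩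
    · exact alpha_pos_of hp hap (hpos T hT hz) (el_nonneg_iff.1 (h4 T ι hι hT))
    · have h5 := el_nonneg_iff.1 (h4 T ι hι hT)
      have h6 : α p • (α (P M) • P T) ≤ α p • (α (P T) • P M) := by
        rw [smul_comm, smul_comm (α p) (α (P T)), h3, smul_comm (α (P T))]
        exact smul_le_smul_of_nonneg_left h5 hαM.le
      exact le_of_smul_le_smul_left h6 hap

/-- The stable dictionary. -/
theorem st_iff (hpos : ∀ M : C, ok M → ¬ IsZero M → 0 < P M) (h : K846.Lat.Add ok P)
    (hp : 0 < p) (hap : 0 < α p) {M : C} (hM : ok M) (h0 : ¬ IsZero M) :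
    (K846.HomAbs.PosMult ok P α M ∧ K846.JH.St ok P α M ∧ α p • P M = α (P M) • p) ↔
      St ok (el P α p) M := by
  constructor
  · rintro ⟨h1, h2, h3⟩
    have hαM : 0 < α (P M) := alpha_pos_of hp hap (hpos M hM h0) h3.le
    have key : ∀ (T : C) (ι : T ⟶ M), Mono ι → ok T → ¬ IsZero T → ¬ IsIso ι → 0 < el P α p T := by
      intro T ι hι hT hz hi
      have h4 := h2 T ι hι hT hz hi
      refine el_pos_iff.2 ?_
      have h5 : α (P M) • (α p • P T) < α (P M) • (α (P T) • p) := by
        rw [smul_comm, smul_comm (α (P M)) (α (P T)), ← h3, smul_comm (α (P T))]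
        exact smul_lt_smul_of_pos_left h4 hap
      exact lt_of_smul_lt_smul_left h5 hαM.le
    refine ⟨⟨hM, el_eq_zero_iff.2 h3, fun T ι hι hT => ?_⟩, h0, key⟩
    by_cases hz : IsZero T
    · rw [(add_el h p).v_zero hz]
    by_cases hi : IsIso ι
    · rw [(add_el h p).v_iso (asIso ι) hT, el_eq_zero_iff.2 h3]
    · exact (key T ι hι hT hz hi).le
  · rintro ⟨hs, _, h4⟩
    obtain ⟨a1, a2, a3⟩ := (ss_iff hpos h hp hap hM h0).2 hs
    have hαM : 0 < α (P M) := alpha_pos_of hp hap (hpos M hM h0) a3.le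
    refine ⟨a1, fun T ι hι hT hz hi => ?_, a3⟩
    have h5 := el_pos_iff.1 (h4 T ι hι hT hz hi)
    have h6 : α p • (α (P M) • P T) < α p • (α (P T) • P M) := by
      rw [smul_comm, smul_comm (α p) (α (P T)), a3, smul_comm (α (P T))]
      exact smul_lt_smul_of_pos_left h5 hαM
    exact lt_of_smul_lt_smul_left h6 hap.le

end K53.KingJH
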