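import Groth.Agent.Coherent.K53.GiesLF
import Groth.Agent.ShStab.K846.Rows2

/-!
# The graded object is locally free at a point iff all quotients with the same reduced Hilbert
polynomial are flat there
-/

set_option autoImplicit false
set_option linter.unusedSectionVars false
set_option linter.unusedVariables false

universe v u

open CategoryTheory CategoryTheory.Limits

namespace K53.LFCrit

section Abs

variable {C : Type u} [Category.{v} C] [Abelian C]

theorem pushout_shortExact (S : ShortComplex C) (hS : S.ShortExact) {Q : C} (π : S.X₁ ⟶ Q) :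
    (ShortComplex.mk (pushout.inr S.f π) (pushout.desc S.g (0 : Q ⟶ S.X₃) (by simp))
      (pushout.inr_desc _ _ _)).ShortExact := by
  have hm := hS.mono_f
  have he := hS.epi_g
  have hm' : Mono (pushout.inr S.f π) := inferInstance
  have he' : Epi (pushout.desc S.g (0 : Q ⟶ S.X₃) (by simp) : pushout S.f π ⟶ S.X₃) := by
    have : pushout.inl S.f π ≫ pushout.desc S.g (0 : Q ⟶ S.X₃) (by simp) = S.g := pushout.inl_desc _ _ _
    exact epi_of_epi_fac this
  refine { exact := ShortComplex.exact_of_g_is_cokernel _ (CokernelCofork.IsColimit.ofπ' _ _ fun {A} φ hφ => ?_), mono_f := hm', epi_g := he' }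
  have h1 : S.f ≫ pushout.inl S.f π ≫ φ = 0 := by
    rw [pushout.condition_assoc]
    dsimp at hφ
    rw [hφ, comp_zero]
  refine ⟨hS.exact.desc (pushout.inl S.f π ≫ φ) h1, ?_⟩
  dsimp
  apply pushout.hom_ext
  · rw [pushout.inl_desc_assoc, hS.exact.g_desc]
  · rw [pushout.inr_desc_assoc, zero_comp]
    exact hφ.symm

open K53.King K53.FiltExt


variable {ok : C → Prop} {V : Type*} [AddCommGroup V] [LinearOrder V] [IsOrderedAddMonoid V] {ℓ : C → V}

theorem filt_mono {Φ Ψ : C → Prop} (h : ∀ M, Φ M → Ψ M) {M : C} (hM : Filt Φ M) : Filt Ψ M := by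
  induction hM with
  | zero M hM => exact Filt.zero M hM
  | ext S hS h1 h3 ih => exact Filt.ext S hS ih (h _ h3)

/-- If `Ψ` holds for all semistable quotients and passes to kernels of epimorphisms, then all factors of a
stable filtration have it. -/
theorem filt_of_quot (h : K846.Lat.Add ok ℓ) {Φ : C → Prop} (hst : ∀ M, Φ M → St ok ℓ M) {Ψ : C → Prop}
    (hΨ : ∀ T : ShortComplex C, T.ShortExact → Ψ T.X₂ → Ψ T.X₃ → Ψ T.X₁)
    {E : C} (hE : Filt Φ E)
    (hQ : ∀ (Q : C) (π : E ⟶ Q), Epi π → SS ok ℓ Q → Ψ Q) : Filt (fun M => Φ M ∧ Ψ M) E := by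
  induction hE with
  | zero M hM => exact Filt.zero M hM
  | ext S hS h1 h3 ih =>
    have he := hS.epi_g
    have h3' : Ψ S.X₃ := hQ S.X₃ S.g he (hst _ h3).1
    refine Filt.ext S hS (ih fun Q π hπ hQs => ?_) ⟨h3, h3'⟩
    have hP := pushout_shortExact S hS π
    have hSS : SS ok ℓ (pushout S.f π) := SS.ext h _ hP hQs (hst _ h3).1
    exact hΨ _ hP (hQ _ (pushout.inl S.f π) inferInstance hSS) h3'

end Abs

end K53.LFCrit

namespace K53.LFCrit

open AlgebraicGeometry Polynomial
open K53.King K53.KingJH K53.FiltExt K53.GiesKing K53.GiesLF K849.PolyOrd K846.Gies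

universe w

variable {k : Type w} [Field k] {X : Scheme.{w}} [X.Over (Spec (CommRingCat.of k))]
variable {L : X.Modules}
variable [IsNoetherian X] (H : HilbFacts k X L)

include H

/-- The graded object of `E` is locally free on `T` as soon as all quotients with the reduced Hilbert
polynomial of `E` are flat on `T`. -/
theorem lfjh_of_quot {d : ℕ} {T : Set X} {E : X.Modules} (hE : ShStab.IsSemistable k X L E d)
    (h : ∀ (Q : X.Modules) (π : E ⟶ Q), Epi π → Coh.IsCoh Q → ¬ IsZero Q →
      (∀ pQ pE : ℚ[X], ShStab.IsHilbPoly k X L Q pQ → ShStab.IsHilbPoly k X L E pE →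
        StabCat.RedEq d pQ pE) → FlatOn T Q) : LFJH k L d T E := by
  obtain ⟨s, hs⟩ := K846.Rows2.exists_jh H hE
  have h1 := filt_of_jh H hE (fun _ => True) hs (fun _ => trivial)
  refine lfjh_of_filt H hE ?_
  have h2 := filt_of_quot (addE H d E) (Φ := fun M => St (okd k L d) (elE k L d E) M ∧ True)
    (fun M hM => hM.1) (Ψ := FlatOn T)
    (fun S hS a b x hx => FlatPt.isFlatAt_of_shortExact_left S hS x (a x hx) (b x hx)) h1 ?_
  · exact filt_mono (fun M hM => ⟨hM.1.1, hM.2⟩) h2
  · intro Q π hπ hQ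
    by_cases hz : IsZero Q
    · exact fun x _ => FlatPt.isFlatAt_of_isZero hz x
    · obtain ⟨a, b⟩ := (semistable_iff H hE hz).2 hQ
      exact h Q π hπ a.1 hz b

/-- Conversely, quotients with the same reduced Hilbert polynomial are flat on `T`. -/
theorem flatOn_of_lfjh {d : ℕ} {T : Set X} {E : X.Modules} (hE : ShStab.IsSemistable k X L E d)
    (hJ : LFJH k L d T E) {Q : X.Modules} (π : E ⟶ Q) [Epi π] (hQ : Coh.IsCoh Q)
    (hred : ∀ pQ pE : ℚ[X], ShStab.IsHilbPoly k X L Q pQ → ShStab.IsHilbPoly k X L E pE →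
        StabCat.RedEq d pQ pE) : FlatOn T Q := by
  have hadd := addE H d E
  have hEss := ss_self H hE
  have hQok : okd k L d Q := okd_of_epi H π hQ hEss.1
  have hQss : SS (okd k L d) (elE k L d E) Q :=
    hEss.of_epi hadd π hQok (el_eq_zero_iff.2 ((redEq_all_iff H hQ hE.1).1 hred))
  have hK : SS (okd k L d) (elE k L d E) (kernel π) := hEss.kernel hadd hQss π
  have hF := filt_of_lfjh H hE hE (fun p q hp hq => by rw [unique hp hq]; rfl) hJ
  obtain ⟨-, h2⟩ := filt_sub_quot' H hE (FlatOn T) FlatOn.of_iso hF (kernel.ι π) hK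
  have h3 : FlatOn T (cokernel (kernel.ι π)) := fun x hx =>
    FlatPt.isFlatAt_of_filt (fun M hM => hM.2 x hx) h2
  exact h3.of_iso ((Abelian.epiIsCokernelOfKernel (KernelFork.ofι (kernel.ι π) (kernel.condition π)) (kernelIsKernel π)).coconePointUniqueUpToIso (cokernelIsCokernel (kernel.ι π))).symm


end K53.LFCrit
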