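import Groth.Agent.Coherent.K53.LFCrit
import Groth.Agent.Coherent.K53.BadQuot
import Groth.Agent.ShStab.K849.HilbFacts

/-!
# The graded object is locally free at a point iff there is no bad quotient
-/

set_option autoImplicit false
set_option linter.unusedSectionVars false
set_option linter.unusedVariables false

universe u

open CategoryTheory CategoryTheory.Limits AlgebraicGeometry Polynomial

namespace K53.LFNum

open K53.GiesLF K53.LFCrit K53.BadQuot K849.PolyOrd K846.Gies

/-- The possible Hilbert polynomials of quotients. -/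
noncomputable def Phi (d : ℕ) (P : ℚ[X]) (r : ℕ) : ℚ[X] := ((r : ℚ) / StabCat.alpha d P) • P

variable {k : Type u} [Field k] {X : Scheme.{u}} [X.Over (Spec (CommRingCat.of k))]
  [IsProper (X ↘ Spec (CommRingCat.of k))] {L : X.Modules} (hL : CohB1.IsAmple L)

include hL

theorem lfjh_iff {d : ℕ} {E : X.Modules} (hE : ShStab.IsSemistable k X L E d) {P : ℚ[X]}
    (hP : ShStab.IsHilbPoly k X L E P) (y : X) :
    LFJH k L d {y} E ↔ ∀ r < ⌊StabCat.alpha d P⌋₊ + 1, ¬ Bad k X L E y (Phi d P r) := by
  have hX : IsNoetherian X := by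
    have h1 : IsLocallyNoetherian X := LocallyOfFiniteType.isLocallyNoetherian (X ↘ Spec (CommRingCat.of k))
    have h2 : CompactSpace X := QuasiCompact.compactSpace_of_compactSpace (X ↘ Spec (CommRingCat.of k))
    exact {}
  have H := K849.HilbFacts.gies k X hL
  have hap : 0 < StabCat.alpha d P := by
    have := alpha_pos H hE.1 hE.2.1 hE.2.2.1
    rwa [← hp_eq hP]
  have hEok : okd k L d E := (isSemistable_iff H |>.1 hE).1
  constructor
  · rintro hJ r - ⟨Q, π, hπ, hQ, hQH, hfl⟩
    refine hfl (flatOn_of_lfjh H hE hJ π hQ (fun pQ pE h1 h2 => ?_) y rfl)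
    rw [unique h1 hQH, unique h2 hP]
    change StabCat.alpha d P • Phi d P r = StabCat.alpha d (Phi d P r) • P
    have h3 : StabCat.alpha d (Phi d P r) = r := by
      rw [Phi, StabCat.alpha, coeff_smul, smul_eq_mul]
      rw [StabCat.alpha] at hap ⊢
      have hc : P.coeff d ≠ 0 := by
        intro h0
        rw [h0, mul_zero] at hap
        exact lt_irrefl _ hap
      field_simp
    rw [h3, Phi, smul_smul]
    congr 1
    field_simp
  · intro h
    refine lfjh_of_quot H hE fun Q π hπ hQ hQ0 hred => ?_
    rintro x rfl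
    by_contra hfl
    have hQok : okd k L d Q := okd_of_epi H π hQ hEok
    have hQH := isHilbPoly_hp H hQ
    have h1 := hred _ _ hQH hP
    obtain ⟨r, hr⟩ := nat_okd H d Q hQok
    have hr' : StabCat.alpha d (hp k L Q) = r := hr
    -- the bound
    have hker : okd k L d (kernel π) := okd_of_mono H (kernel.ι π) ((add_okd H d).ok_kernel π hEok hQok).1 hEok
    have h2 : hv k L E = hv k L (kernel π) + hv k L Q := by
      refine (add_okd H d).add (ShortComplex.mk (kernel.ι π) π (kernel.condition π))
        { exact := ShortComplex.exact_kernel π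
          mono_f := inferInstanceAs (Mono (kernel.ι π))
          epi_g := hπ } hker hEok hQok
    have h3 : alphaL d (hv k L E) = alphaL d (hv k L (kernel π)) + alphaL d (hv k L Q) := by
      rw [h2, map_add]
    have h4 := alpha_nonneg H d _ hker
    have h5 : alphaL d (hv k L E) = StabCat.alpha d P := by
      rw [← hp_eq hP]
      rfl
    have h6 : (r : ℚ) ≤ StabCat.alpha d P := by
      rw [← h5, h3, hr]
      linarith
    refine h r (Nat.lt_succ_of_le (Nat.le_floor h6)) ⟨Q, π, hπ, hQ, ?_, hfl⟩
    have h7 : hp k L Q = Phi d P r := by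
      change StabCat.alpha d P • hp k L Q = StabCat.alpha d (hp k L Q) • P at h1
      rw [hr'] at h1
      rw [Phi, div_eq_inv_mul, ← smul_smul, ← h1, smul_smul, inv_mul_cancel₀ hap.ne', one_smul]
    rw [← h7]
    exact hQH

end K53.LFNum
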