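import Groth.Agent.Coherent.K53.QuotLoc
import Groth.Agent.Coherent.K53.EpiTw
import Groth.Agent.S11734

/-!
# Openness from closedness on affine opens
-/

set_option autoImplicit false
set_option linter.unusedSectionVars false
set_option linter.unusedVariables false

universe u

open CategoryTheory CategoryTheory.Limits AlgebraicGeometry Polynomial

namespace K53.LFOpen

open Groth.Agent K53.BadQuot K53.FibPoly K53.QuotLoc

/-- The Quot scheme over an affine Noetherian base. -/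
theorem hasQuot {X S : Scheme.{u}} {n : ℕ} (i : X ⟶ CohB1.ProjSpaceOver n S) [IsClosedImmersion i]
    [IsAffine S] [IsNoetherian S] {E : X.Modules} (hE : Coh.IsCoh E) (Φ : ℚ[X]) : HasQuot i E Φ := by
  obtain ⟨p, ν, q, hq⟩ := EpiTw.exists_epi n i hE
  obtain ⟨Q, K, h1, h2, h3, r, c, hc, hcQ⟩ := S11734.result S n X i E hE p ν q Φ
  refine ⟨Q, K, h1, fun t m => h2 t m, fun T hT K' hK' => h3 T K' fun t m => hK' t m, ?_⟩
  have hpr : IsProper (CohB1.ProjSpaceOver.toBase r S) := Ega3B.ProjProper.isProper_toBase r S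
  rw [← hcQ]
  infer_instance

section Local

variable {k : Type u} [Field k] {X S : Scheme.{u}} {n : ℕ} (i : X ⟶ CohB1.ProjSpaceOver n S) [IsClosedImmersion i]
  {E : X.Modules} (ξ : S ⟶ X) (hξ : ξ ≫ i ≫ CohB1.ProjSpaceOver.toBase n S = 𝟙 S)

/-- Bad points and base change. -/
theorem badAt_iff {S' X' : Scheme.{u}} (h : S' ⟶ S) {p : X' ⟶ X} {q : X' ⟶ S'}
    (H : IsPullback p q (i ≫ CohB1.ProjSpaceOver.toBase n S) h) (i' : X' ⟶ CohB1.ProjSpaceOver n S')
    [IsClosedImmersion i'] (hi' : i' ≫ CohB1.ProjSpaceOver.toBase n S' = q)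
    (e : (Scheme.Modules.pullback p).obj ((Scheme.Modules.pullback i).obj (Twist.twistOver n S 1)) ≅
      (Scheme.Modules.pullback i').obj (Twist.twistOver n S' 1))
    (ξ' : S' ⟶ X') (hξ' : ξ' ≫ i' ≫ CohB1.ProjSpaceOver.toBase n S' = 𝟙 S') (hξp : ξ' ≫ p = h ≫ ξ)
    (Φ : ℚ[X]) (t' : Spec (CommRingCat.of k) ⟶ S') (t : Spec (CommRingCat.of k) ⟶ S) (ht : t' ≫ h = t) :
    BadAt (i := i') ((Scheme.Modules.pullback p).obj E) ξ' hξ' Φ t' ↔ BadAt (i := i) E ξ hξ Φ t := by
  have hpr : IsProper (CohB1.ProjSpaceOver.toBase n S) := Ega3B.ProjProper.isProper_toBase n S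
  have hpr' : IsProper (CohB1.ProjSpaceOver.toBase n S') := Ega3B.ProjProper.isProper_toBase n S'
  have H1 : IsPullback (pullback.fst (i' ≫ CohB1.ProjSpaceOver.toBase n S') t')
    (pullback.snd (i' ≫ CohB1.ProjSpaceOver.toBase n S') t') q t' := by
    have := IsPullback.of_hasPullback (i' ≫ CohB1.ProjSpaceOver.toBase n S') t'
    rwa [hi'] at this ⊢
  have H2 := H1.paste_horiz H
  rw [ht] at H2
  have H3 : IsPullback (pullback.fst (i ≫ CohB1.ProjSpaceOver.toBase n S) t)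
    (pullback.snd (i ≫ CohB1.ProjSpaceOver.toBase n S) t) (i ≫ CohB1.ProjSpaceOver.toBase n S) t :=
    IsPullback.of_hasPullback _ _
  let a := (H2.isoIsPullback _ _ H3).hom
  have ha1 : a ≫ pullback.fst (i ≫ CohB1.ProjSpaceOver.toBase n S) t =
      pullback.fst (i' ≫ CohB1.ProjSpaceOver.toBase n S') t' ≫ p := IsPullback.isoIsPullback_hom_fst _ _ _ _
  have ha2 : a ≫ pullback.snd (i ≫ CohB1.ProjSpaceOver.toBase n S) t =
      pullback.snd (i' ≫ CohB1.ProjSpaceOver.toBase n S') t' := IsPullback.isoIsPullback_hom_snd _ _ _ _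
  letI : (pullback (i ≫ CohB1.ProjSpaceOver.toBase n S) t).Over (Spec (CommRingCat.of k)) :=
    ⟨pullback.snd (i ≫ CohB1.ProjSpaceOver.toBase n S) t⟩
  letI : (pullback (i' ≫ CohB1.ProjSpaceOver.toBase n S') t').Over (Spec (CommRingCat.of k)) :=
    ⟨pullback.snd (i' ≫ CohB1.ProjSpaceOver.toBase n S') t'⟩
  have hp1 : IsProper (pullback (i ≫ CohB1.ProjSpaceOver.toBase n S) t ↘ Spec (CommRingCat.of k)) :=
    inferInstanceAs (IsProper (pullback.snd (i ≫ CohB1.ProjSpaceOver.toBase n S) t))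
  have hp2 : IsProper (pullback (i' ≫ CohB1.ProjSpaceOver.toBase n S') t' ↘ Spec (CommRingCat.of k)) :=
    inferInstanceAs (IsProper (pullback.snd (i' ≫ CohB1.ProjSpaceOver.toBase n S') t'))
  refine bad_iff (k := k) (Y := pullback (i ≫ CohB1.ProjSpaceOver.toBase n S) t)
    (Y' := pullback (i' ≫ CohB1.ProjSpaceOver.toBase n S') t') a ha2 (Fdesc.LocGen.isInvertible_pullback _ (Fdesc.LocGen.isInvertible_pullback i
      (Ega3B.ProjFrame.isInvertible_twistOver n (Y := S) 1)))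
    ((Scheme.Modules.pullbackComp a _).app _ ≪≫ (Scheme.Modules.pullbackCongr ha1).app _ ≪≫
      ((Scheme.Modules.pullbackComp (pullback.fst (i' ≫ CohB1.ProjSpaceOver.toBase n S') t') p).app _).symm ≪≫
      (Scheme.Modules.pullback (pullback.fst (i' ≫ CohB1.ProjSpaceOver.toBase n S') t')).mapIso e)
    ((Scheme.Modules.pullbackComp a _).app _ ≪≫ (Scheme.Modules.pullbackCongr ha1).app _ ≪≫
      ((Scheme.Modules.pullbackComp (pullback.fst (i' ≫ CohB1.ProjSpaceOver.toBase n S') t') p).app _).symm) ?_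
  have h5 : (pullback.lift (t' ≫ ξ') (𝟙 _) (by rw [Category.assoc, hξ', Category.comp_id, Category.id_comp]) :
      Spec (CommRingCat.of k) ⟶ pullback (i' ≫ CohB1.ProjSpaceOver.toBase n S') t') ≫ a =
      pullback.lift (t ≫ ξ) (𝟙 _) (by rw [Category.assoc, hξ, Category.comp_id, Category.id_comp]) := by
    apply pullback.hom_ext
    · rw [Category.assoc, ha1, pullback.lift_fst_assoc, pullback.lift_fst, Category.assoc, hξp, ← ht,
        Category.assoc]
    · rw [Category.assoc, ha2, pullback.lift_snd, pullback.lift_snd]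
  rw [← h5]
  rfl

end Local

/-- **Openness.** -/
theorem exists_open {k : Type u} [Field k] [IsAlgClosed k] {X S : Scheme.{u}} {n : ℕ}
    (i : X ⟶ CohB1.ProjSpaceOver n S) [IsClosedImmersion i]
    {E : X.Modules} (hE : Coh.IsCoh E) (ξ : S ⟶ X) (hξ : ξ ≫ i ≫ CohB1.ProjSpaceOver.toBase n S = 𝟙 S)
    (sS : S ⟶ Spec (CommRingCat.of k)) [LocallyOfFiniteType sS] (N : ℕ) (Φ : ℕ → ℚ[X]) :
    ∃ U : S.Opens, ∀ t : Spec (CommRingCat.of k) ⟶ S, t ≫ sS = 𝟙 _ →
      ((∀ r < N, ¬ BadAt E ξ hξ (Φ r) t) ↔ Set.range t.base ⊆ (U : Set S)) := by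
  have hS : IsLocallyNoetherian S := LocallyOfFiniteType.isLocallyNoetherian sS
  -- affine opens
  have key : ∀ (V : S.affineOpens) (r : ℕ), ∃ Z : Set V.1, IsClosed Z ∧
      ∀ t' : Spec (CommRingCat.of k) ⟶ V.1, t' ≫ V.1.ι ≫ sS = 𝟙 _ →
        (t'.base (IsLocalRing.closedPoint k) ∈ Z ↔ BadAt E ξ hξ (Φ r) (t' ≫ V.1.ι)) := by
    intro V r
    have hVa : IsAffine V.1 := V.2
    have hVn : IsNoetherian V.1 := {}
    have H : IsPullback (pullback.fst (i ≫ CohB1.ProjSpaceOver.toBase n S) V.1.ι)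
      (pullback.snd (i ≫ CohB1.ProjSpaceOver.toBase n S) V.1.ι) (i ≫ CohB1.ProjSpaceOver.toBase n S) V.1.ι :=
      IsPullback.of_hasPullback _ _
    obtain ⟨i', hi', hi'q, -, he⟩ := Ega3B.SerreTwist.exists_immersion_baseChange n i V.1.ι H
    obtain ⟨e⟩ := he 1
    let ξ' : V.1.toScheme ⟶ pullback (i ≫ CohB1.ProjSpaceOver.toBase n S) V.1.ι :=
      pullback.lift (V.1.ι ≫ ξ) (𝟙 _) (by rw [Category.assoc, hξ, Category.comp_id, Category.id_comp])
    have hξ' : ξ' ≫ i' ≫ CohB1.ProjSpaceOver.toBase n V.1 = 𝟙 _ := by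
      rw [hi'q]
      exact pullback.lift_snd _ _ _
    have hE' : Coh.IsCoh ((Scheme.Modules.pullback (pullback.fst (i ≫ CohB1.ProjSpaceOver.toBase n S) V.1.ι)).obj E) := by
      have hpr : IsProper (CohB1.ProjSpaceOver.toBase n S) := Ega3B.ProjProper.isProper_toBase n S
      have h1 : IsLocallyNoetherian X :=
        LocallyOfFiniteType.isLocallyNoetherian (i ≫ CohB1.ProjSpaceOver.toBase n S)
      have h2 : IsLocallyNoetherian (pullback (i ≫ CohB1.ProjSpaceOver.toBase n S) V.1.ι) :=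
        LocallyOfFiniteType.isLocallyNoetherian (pullback.snd (i ≫ CohB1.ProjSpaceOver.toBase n S) V.1.ι)
      exact FormalA.PullbackQC.isCoh_pullback _ _ hE
    obtain ⟨Z, hZ, hZ'⟩ := exists_closed (i := i') hE' ξ' hξ' (hasQuot i' hE' (Φ r)) (V.1.ι ≫ sS)
    refine ⟨Z, hZ, fun t' ht' => (hZ' t' ht').trans ?_⟩
    exact badAt_iff i ξ hξ V.1.ι H i' hi'q e ξ' hξ' (pullback.lift_fst _ _ _) (Φ r) t' _ rfl
  choose Z hZc hZ using key
  let W : ∀ V : S.affineOpens, V.1.toScheme.Opens := fun V =>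
    ⟨(⋃ r ∈ Finset.range N, Z V r)ᶜ, ((Finset.range N).finite_toSet.isClosed_biUnion
      (fun r _ => hZc V r)).isOpen_compl⟩
  refine ⟨⨆ V : S.affineOpens, V.1.ι ''ᵁ (W V), fun t ht => ?_⟩
  have hrange : Set.range t.base = {t.base (IsLocalRing.closedPoint k)} := by
    ext x
    constructor
    · rintro ⟨y, rfl⟩
      rw [Subsingleton.elim y (IsLocalRing.closedPoint k)]
      rfl
    · rintro rfl
      exact ⟨_, rfl⟩
  rw [hrange, Set.singleton_subset_iff]
  -- lifting to an affine open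
  have hlift : ∀ V : S.affineOpens, t.base (IsLocalRing.closedPoint k) ∈ V.1 →
      ∃ t' : Spec (CommRingCat.of k) ⟶ V.1, t' ≫ V.1.ι = t := by
    intro V hV
    have h1 : Set.range t.base ⊆ Set.range V.1.ι.base := by
      rw [hrange, Set.singleton_subset_iff, Scheme.Opens.range_ι]
      exact hV
    exact ⟨IsOpenImmersion.lift V.1.ι t h1, IsOpenImmersion.lift_fac _ _ _⟩
  have hmem : ∀ (V : S.affineOpens) (t' : Spec (CommRingCat.of k) ⟶ V.1), t' ≫ V.1.ι = t →
      (t'.base (IsLocalRing.closedPoint k) ∈ W V ↔ ∀ r < N, ¬ BadAt E ξ hξ (Φ r) t) := by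
    intro V t' ht'
    have h1 : t'.base (IsLocalRing.closedPoint k) ∈ W V ↔
      ¬ ∃ r ∈ Finset.range N, t'.base (IsLocalRing.closedPoint k) ∈ Z V r := by
      change t'.base (IsLocalRing.closedPoint k) ∈ (⋃ r ∈ Finset.range N, Z V r)ᶜ ↔ _
      simp
    rw [h1]
    push Not
    refine forall_congr' fun r => ?_
    rw [Finset.mem_range]
    refine imp_congr_right fun _ => not_congr ?_
    rw [hZ V r t' (by rw [← Category.assoc, ht', ht]), ht']
  constructor
  · intro h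
    obtain ⟨V, hV, hVx, -⟩ := exists_isAffineOpen_mem_and_subset
      (x := t.base (IsLocalRing.closedPoint k)) (U := ⊤) trivial
    obtain ⟨t', ht'⟩ := hlift ⟨V, hV⟩ hVx
    refine TopologicalSpace.Opens.mem_iSup.2 ⟨⟨V, hV⟩, ?_⟩
    refine ⟨t'.base (IsLocalRing.closedPoint k), (hmem ⟨V, hV⟩ t' ht').2 h, ?_⟩
    change (t' ≫ V.ι).base _ = _
    rw [ht']
  · intro h
    obtain ⟨V, hV⟩ := TopologicalSpace.Opens.mem_iSup.1 h
    obtain ⟨w, hw, hwx⟩ := hV
    have hxV : t.base (IsLocalRing.closedPoint k) ∈ V.1 := by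
      rw [← hwx]
      exact w.2
    obtain ⟨t', ht'⟩ := hlift V hxV
    refine (hmem V t' ht').1 ?_
    have h2 : t'.base (IsLocalRing.closedPoint k) = w := by
      apply V.1.ι.injective
      refine Eq.trans ?_ hwx.symm
      change (t' ≫ V.1.ι).base _ = _
      rw [ht']
    rw [h2]
    exact hw

end K53.LFOpen
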