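import Groth.Agent.Sga4h.FunLES
import Mathlib.CategoryTheory.Adjunction.Mates
import Mathlib.CategoryTheory.Adjunction.Additive
import Mathlib.CategoryTheory.Abelian.Refinements

/-!
# Internal Hom out of an acyclic resolution computes the derived functors

Abstract setting: a bifunctor `T : A ⥤ A ⥤ A` (a tensor product) such that every `- ⊗ M` has a right
adjoint `Ho T M`, with the contravariant functoriality `Hm T g` in `M`.

* `mono_Hm`, `exact_Hm`: left exactness in the first variable;
* `epi_Hm`: exactness on injectives, given flat covers;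
* `main`: for a resolution `E_• ⟶ F` with `R^{i+1} Ho(E_j) G = 0`, the homology of `Ho(E_•, G)` in degree
  `j + 1` is `R^{j+1} Ho(F) G`.
-/

set_option autoImplicit false
universe v u

open CategoryTheory CategoryTheory.Limits

namespace K53.LfRes

variable {A : Type u} [Category.{v} A] [Abelian A] (T : A ⥤ A ⥤ A) [∀ M, (T.flip.obj M).IsLeftAdjoint]

/-- The internal Hom. -/
noncomputable abbrev Ho (M : A) : A ⥤ A := (T.flip.obj M).rightAdjoint

/-- The adjunction. -/
noncomputable abbrev adj (M : A) : T.flip.obj M ⊣ Ho T M := Adjunction.ofIsLeftAdjoint _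

/-- Contravariant functoriality. -/
noncomputable abbrev Hm {M' M : A} (g : M' ⟶ M) : Ho T M ⟶ Ho T M' :=
  conjugateEquiv (adj T M) (adj T M') (T.flip.map g)

theorem Hm_comp {M'' M' M : A} (f : M'' ⟶ M') (g : M' ⟶ M) : Hm T (f ≫ g) = Hm T g ≫ Hm T f := by
  unfold Hm
  rw [Functor.map_comp, conjugateEquiv_comp]

theorem homEquiv_map {M' M : A} (g : M' ⟶ M) (N G : A) (φ : (T.flip.obj M).obj N ⟶ G) :
    (adj T M').homEquiv N G ((T.obj N).map g ≫ φ) = (adj T M).homEquiv N G φ ≫ (Hm T g).app G := by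
  rw [Adjunction.homEquiv_unit, Adjunction.homEquiv_unit, Functor.map_comp, Category.assoc,
    (Hm T g).naturality, ← Category.assoc, ← Category.assoc]
  congr 1
  exact (unit_conjugateEquiv (adj T M) (adj T M') (T.flip.map g) N).symm

theorem homEquiv_symm_map {M' M : A} (g : M' ⟶ M) (N G : A) (x : N ⟶ (Ho T M).obj G) :
    ((adj T M').homEquiv N G).symm (x ≫ (Hm T g).app G) = (T.obj N).map g ≫ ((adj T M).homEquiv N G).symm x := by
  rw [Equiv.symm_apply_eq, homEquiv_map, Equiv.apply_symm_apply]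

theorem mono_Hm [∀ N, (T.obj N).PreservesEpimorphisms] {M' M : A} (g : M' ⟶ M) [Epi g] (G : A) :
    Mono ((Hm T g).app G) := by
  constructor
  intro N x y h
  have h1 := congrArg ((adj T M').homEquiv N G).symm h
  rw [homEquiv_symm_map, homEquiv_symm_map] at h1
  have : Epi ((T.obj N).map g) := inferInstance
  exact ((adj T M).homEquiv N G).symm.injective ((cancel_epi _).1 h1)

section Exact

variable [∀ N, PreservesFiniteColimits (T.obj N)]

theorem Hm_zero (M' M : A) (G : A) : (Hm T (0 : M' ⟶ M)).app G = 0 := by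
  have hz : ∀ N, (T.obj N).map (0 : M' ⟶ M) = 0 := fun N => Functor.map_zero _ _ _
  have h := homEquiv_map T (0 : M' ⟶ M) ((Ho T M).obj G) G (((adj T M).homEquiv _ _).symm (𝟙 _))
  rw [Equiv.apply_symm_apply, Category.id_comp, hz, zero_comp] at h
  rw [← h, Adjunction.homEquiv_unit]
  have : (Ho T M').PreservesZeroMorphisms := by
    have : PreservesLimitsOfSize.{0, 0} (Ho T M') := (adj T M').rightAdjoint_preservesLimits
    have : PreservesFiniteLimits (Ho T M') := PreservesLimitsOfSize.preservesFiniteLimits _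
    infer_instance
  rw [Functor.map_zero, comp_zero]

theorem Hm_comp_zero {M'' M' M : A} (f : M'' ⟶ M') (g : M' ⟶ M) (w : f ≫ g = 0) (G : A) :
    (Hm T g).app G ≫ (Hm T f).app G = 0 := by
  have h := congrArg (fun t => t.app G) (Hm_comp T f g)
  refine h.symm.trans ?_
  rw [w]
  exact Hm_zero T _ _ G

theorem exact_Hm {S : ShortComplex A} (hS : S.Exact) [Epi S.g] (G : A) :
    (ShortComplex.mk ((Hm T S.g).app G) ((Hm T S.f).app G) (Hm_comp_zero T _ _ S.zero G)).Exact := by
  rw [ShortComplex.exact_iff_exact_up_to_refinements]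
  intro N x hx
  refine ⟨N, 𝟙 _, inferInstance, ?_⟩
  have h1 := congrArg ((adj T S.X₁).homEquiv N G).symm hx
  change ((adj T S.X₁).homEquiv N G).symm (x ≫ (Hm T S.f).app G) = _ at h1
  rw [homEquiv_symm_map] at h1
  have hz : ((adj T S.X₁).homEquiv N G).symm 0 = 0 := by
    rw [Adjunction.homEquiv_counit]
    have : (T.flip.obj S.X₁).PreservesZeroMorphisms := by
      have : PreservesColimitsOfSize.{0, 0} (T.flip.obj S.X₁) := (adj T S.X₁).leftAdjoint_preservesColimits
      have : PreservesFiniteColimits (T.flip.obj S.X₁) := PreservesColimitsOfSize.preservesFiniteColimits _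
      infer_instance
    rw [Functor.map_zero, zero_comp]
  rw [hz] at h1
  have h2 : ((S.map (T.obj N))).Exact := hS.map_of_epi_of_preservesCokernel (T.obj N) inferInstance inferInstance
  have : Epi (S.map (T.obj N)).g := by
    change Epi ((T.obj N).map S.g)
    infer_instance
  let y : (T.flip.obj S.X₃).obj N ⟶ G := h2.desc (((adj T S.X₂).homEquiv N G).symm x) h1
  have h3 : (T.obj N).map S.g ≫ y = ((adj T S.X₂).homEquiv N G).symm x := h2.g_desc _ _
  refine ⟨(adj T S.X₃).homEquiv N G y, ?_⟩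
  refine (Category.id_comp _).trans (Eq.trans ?_ (homEquiv_map T S.g N G y))
  rw [h3, Equiv.apply_symm_apply]

end Exact

section Main

theorem epi_Hm (hfl : ∀ N : A, ∃ (P : A) (π : P ⟶ N), Epi π ∧ (T.obj P).PreservesMonomorphisms)
    {M' M : A} (f : M' ⟶ M) [Mono f] (I : A) [Injective I] : Epi ((Hm T f).app I) := by
  rw [epi_iff_surjective_up_to_refinements]
  intro N y
  obtain ⟨P, π, hπ, hP⟩ := hfl N
  have : Mono ((T.obj P).map f) := inferInstance
  let z : (T.obj P).obj M' ⟶ I := ((adj T M').homEquiv P I).symm (π ≫ y)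
  let z' : (T.obj P).obj M ⟶ I := Injective.factorThru z ((T.obj P).map f)
  refine ⟨P, π, hπ, (adj T M).homEquiv P I z', ?_⟩
  rw [← homEquiv_map]
  have : (T.obj P).map f ≫ z' = z := Injective.comp_factorThru _ _
  rw [this, Equiv.apply_symm_apply]

variable [∀ N, PreservesFiniteColimits (T.obj N)] [HasInjectiveResolutions A]
  (hfl : ∀ N : A, ∃ (P : A) (π : P ⟶ N), Epi π ∧ (T.obj P).PreservesMonomorphisms)

instance addHo (M : A) [(T.flip.obj M).Additive] : (Ho T M).Additive := (adj T M).right_adjoint_additive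

instance pflHo (M : A) : PreservesFiniteLimits (Ho T M) := by
  have : PreservesLimitsOfSize.{0, 0} (Ho T M) := (adj T M).rightAdjoint_preservesLimits
  exact PreservesLimitsOfSize.preservesFiniteLimits _

include hfl in
theorem shortExact_Hm {S : ShortComplex A} (hS : S.ShortExact) (I : A) (hI : Injective I) :
    (ShortComplex.mk ((Hm T S.g).app I) ((Hm T S.f).app I) (Hm_comp_zero T _ _ S.zero I)).ShortExact := by
  have := hS.epi_g
  have := hS.mono_f
  exact
    { exact := exact_Hm T hS.exact I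
      mono_f := mono_Hm T S.g I
      epi_g := epi_Hm T hfl S.f I }

variable [∀ M, (T.flip.obj M).Additive]

include hfl in
theorem main (G : A) (j : ℕ) : ∀ (E : ℕ → A) (d : ∀ j, E (j + 1) ⟶ E j) (F : A) (π : E 0 ⟶ F) (_ : Epi π)
    (w0 : d 0 ≫ π = 0) (w : ∀ j, d (j + 1) ≫ d j = 0) (_ : (ShortComplex.mk (d 0) π w0).Exact)
    (_ : ∀ j, (ShortComplex.mk (d (j + 1)) (d j) (w j)).Exact)
    (_ : ∀ j i, IsZero (((Ho T (E j)).rightDerived (i + 1)).obj G)),
    Nonempty ((ShortComplex.mk ((Hm T (d j)).app G) ((Hm T (d (j + 1))).app G)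
      (Hm_comp_zero T _ _ (w j) G)).homology ≅ ((Ho T F).rightDerived (j + 1)).obj G) := by
  induction j with
  | zero =>
    intro E d F π _ w0 w h0 h hz
    let S : ShortComplex A := ShortComplex.mk (kernel.ι π) π (kernel.condition π)
    have hS : S.ShortExact := { exact := ShortComplex.exact_kernel π }
    let ψ : E 1 ⟶ kernel π := kernel.lift π (d 0) w0
    have hψι : ψ ≫ kernel.ι π = d 0 := kernel.lift_ι _ _ _
    have hψ : Epi ψ := h0.epi_kernelLift
    have wψ : d 1 ≫ ψ = 0 := by
      rw [← cancel_mono (kernel.ι π), Category.assoc, hψι, w 0, zero_comp]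
    have hex : (ShortComplex.mk (d 1) ψ wψ).Exact := by
      have := (ShortComplex.exact_iff_of_epi_of_isIso_of_mono
        (S₁ := ShortComplex.mk (d 1) ψ wψ) (S₂ := ShortComplex.mk (d 1) (d 0) (w 0))
        { τ₁ := 𝟙 _, τ₂ := 𝟙 _, τ₃ := kernel.ι π, comm₁₂ := by simp, comm₂₃ := by simp [hψι] })
      exact this.2 (h 0)
    have hz' := Hm_comp_zero T _ _ S.zero
    let α := Hm T π
    let β := Hm T (kernel.ι π)
    have hse := fun I (hI : Injective I) => shortExact_Hm T hfl hS I hI
    have e1 := Groth.Agent.Sga4h.FunLES.exact₀ α β hz' hse G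
    have e2 : Epi (Groth.Agent.Sga4h.FunLES.δ₀ α β hz' hse G) :=
      Groth.Agent.Sga4h.FunLES.epi_δ₀ α β hz' hse G (hz 0 0)
    have m1 : Mono ((Hm T ψ).app G) := mono_Hm T ψ G
    have e3 := exact_Hm T hex G
    have hf : (Hm T (d 0)).app G = β.app G ≫ (Hm T ψ).app G := by
      rw [← NatTrans.comp_app, ← Hm_comp, hψι]
    let hK : IsLimit (KernelFork.ofι ((Hm T ψ).app G) (Hm_comp_zero T _ _ wψ G) :
      KernelFork ((Hm T (d 1)).app G)) := e3.fIsKernel
    let data : (ShortComplex.mk ((Hm T (d 0)).app G) ((Hm T (d 1)).app G)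
      (Hm_comp_zero T _ _ (w 0) G)).LeftHomologyData :=
      { K := (Ho T (kernel π)).obj G
        H := ((Ho T F).rightDerived 1).obj G
        i := (Hm T ψ).app G
        π := Groth.Agent.Sga4h.FunLES.δ₀ α β hz' hse G
        wi := Hm_comp_zero T _ _ wψ G
        hi := hK
        wπ := by
          have : hK.lift (KernelFork.ofι ((Hm T (d 0)).app G) (Hm_comp_zero T _ _ (w 0) G)) = β.app G := by
            rw [← cancel_mono ((Hm T ψ).app G), ← hf]
            exact hK.fac _ WalkingParallelPair.zero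
          exact (congrArg (· ≫ _) this).trans (Groth.Agent.Sga4h.FunLES.comp_δ₀ α β hz' hse G)
        hπ := by
          have : hK.lift (KernelFork.ofι ((Hm T (d 0)).app G) (Hm_comp_zero T _ _ (w 0) G)) = β.app G := by
            rw [← cancel_mono ((Hm T ψ).app G), ← hf]
            exact hK.fac _ WalkingParallelPair.zero
          exact (CokernelCofork.isColimitOfIsColimitOfIff' e1.gIsCokernel _ (fun _ φ => by
            change _ ↔ hK.lift _ ≫ φ = 0
            rw [this])) }
    exact ⟨data.homologyIso⟩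
  | succ j ih =>
    intro E d F π _ w0 w h0 h hz
    let S : ShortComplex A := ShortComplex.mk (kernel.ι π) π (kernel.condition π)
    have hS : S.ShortExact := { exact := ShortComplex.exact_kernel π }
    let ψ : E 1 ⟶ kernel π := kernel.lift π (d 0) w0
    have hψι : ψ ≫ kernel.ι π = d 0 := kernel.lift_ι _ _ _
    have hψ : Epi ψ := h0.epi_kernelLift
    have wψ : d 1 ≫ ψ = 0 := by
      rw [← cancel_mono (kernel.ι π), Category.assoc, hψι, w 0, zero_comp]
    have hex : (ShortComplex.mk (d 1) ψ wψ).Exact := by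
      have := (ShortComplex.exact_iff_of_epi_of_isIso_of_mono
        (S₁ := ShortComplex.mk (d 1) ψ wψ) (S₂ := ShortComplex.mk (d 1) (d 0) (w 0))
        { τ₁ := 𝟙 _, τ₂ := 𝟙 _, τ₃ := kernel.ι π, comm₁₂ := by simp, comm₂₃ := by simp [hψι] })
      exact this.2 (h 0)
    obtain ⟨e⟩ := ih (fun k => E (k + 1)) (fun k => d (k + 1)) (kernel π) ψ hψ wψ (fun k => w (k + 1)) hex
      (fun k => h (k + 1)) (fun k i => hz (k + 1) i)
    have hse := fun I (hI : Injective I) => shortExact_Hm T hfl hS I hI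
    have := Groth.Agent.Sga4h.FunLES.isIso_δ (Hm T π) (Hm T (kernel.ι π)) (Hm_comp_zero T _ _ S.zero) hse G (j + 1)
      (hz 0 j) (hz 0 (j + 1))
    exact ⟨e ≪≫ asIso (Groth.Agent.Sga4h.FunLES.δ (Hm T π) (Hm T (kernel.ι π)) (Hm_comp_zero T _ _ S.zero) hse G
      (j + 1))⟩

include hfl in
/-- The complex form. -/
theorem complexIso (G : A) (E : ChainComplex A ℕ) (F : A) (π : E.X 0 ⟶ F) [Epi π] (w0 : E.d 1 0 ≫ π = 0)
    (h0 : (ShortComplex.mk (E.d 1 0) π w0).Exact) (h : ∀ j, E.ExactAt (j + 1))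
    (hz : ∀ j i, IsZero (((Ho T (E.X j)).rightDerived (i + 1)).obj G))
    (C : CochainComplex A ℕ) (e : ∀ j, C.X j ≅ (Ho T (E.X j)).obj G)
    (hC : ∀ j, C.d j (j + 1) ≫ (e (j + 1)).hom = (e j).hom ≫ (Hm T (E.d (j + 1) j)).app G) (i : ℕ) :
    Nonempty (C.homology i ≅ ((Ho T F).rightDerived i).obj G) := by
  rcases i with _ | i
  · have e0 : (Ho T F).obj G ≅ ((Ho T F).rightDerived 0).obj G := asIso ((Ho T F).toRightDerivedZero.app G)
    have e1 := exact_Hm T h0 G
    have m1 : Mono ((Hm T π).app G) := mono_Hm T π G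
    have hk := e1.fIsKernel
    -- the kernel of `C.d 0 1`
    have hd : C.d 0 1 = (e 0).hom ≫ (Hm T (E.d 1 0)).app G ≫ (e 1).inv := by
      rw [← Category.assoc, ← hC 0, Category.assoc, Iso.hom_inv_id, Category.comp_id]
    have a1 : C.homology 0 ≅ C.cycles 0 := (CochainComplex.isoHomologyπ₀ C).symm
    let k : (Ho T F).obj G ⟶ C.X 0 := (Hm T π).app G ≫ (e 0).inv
    have hkd : k ≫ C.d 0 1 = 0 := by
      change ((Hm T π).app G ≫ (e 0).inv) ≫ C.d 0 1 = 0
      rw [hd, Category.assoc, Iso.inv_hom_id_assoc, ← Category.assoc, Hm_comp_zero T _ _ w0, zero_comp]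
    let l : (Ho T F).obj G ⟶ C.cycles 0 := C.liftCycles k 1 (by simp) hkd
    have hl : l ≫ C.iCycles 0 = k := C.liftCycles_i _ _ _ _
    have hlm : Mono l := by
      have : Mono (l ≫ C.iCycles 0) := by
        rw [hl]
        infer_instance
      exact mono_of_mono l (C.iCycles 0)
    have hle : Epi l := by
      let r : C.cycles 0 ⟶ (Ho T F).obj G := e1.lift (C.iCycles 0 ≫ (e 0).hom) (by
        change (C.iCycles 0 ≫ (e 0).hom) ≫ (Hm T (E.d 1 0)).app G = 0
        rw [Category.assoc, ← hC 0, HomologicalComplex.iCycles_d_assoc, zero_comp])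
      have hr : r ≫ (Hm T π).app G = C.iCycles 0 ≫ (e 0).hom := e1.lift_f _ _
      have : r ≫ l = 𝟙 _ := by
        rw [← cancel_mono (C.iCycles 0), Category.assoc, hl, Category.id_comp]
        change r ≫ (Hm T π).app G ≫ (e 0).inv = _
        rw [← Category.assoc, hr, Category.assoc, Iso.hom_inv_id, Category.comp_id]
      exact (SplitEpi.mk r this).epi
    have hli : IsIso l := isIso_of_mono_of_epi l
    exact ⟨a1 ≪≫ (asIso l).symm ≪≫ e0⟩
  · have w : ∀ j, E.d (j + 1 + 1) (j + 1) ≫ E.d (j + 1) j = 0 := fun j => E.d_comp_d _ _ _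
    have hex : ∀ j, (ShortComplex.mk (E.d (j + 1 + 1) (j + 1)) (E.d (j + 1) j) (w j)).Exact := fun j => by
      have := h j
      rw [HomologicalComplex.exactAt_iff' E (j + 1 + 1) (j + 1) j (by simp) (by simp)] at this
      exact this
    obtain ⟨a⟩ := main T hfl G i (fun j => E.X j) (fun j => E.d (j + 1) j) F π inferInstance w0 w h0 hex hz
    have b : C.homology (i + 1) ≅ (C.sc' i (i + 1) (i + 1 + 1)).homology :=
      ShortComplex.homologyMapIso (C.isoSc' i (i + 1) (i + 1 + 1) (by simp) (by simp))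
    have c : C.sc' i (i + 1) (i + 1 + 1) ≅ ShortComplex.mk ((Hm T (E.d (i + 1) i)).app G)
      ((Hm T (E.d (i + 1 + 1) (i + 1))).app G) (Hm_comp_zero T _ _ (w i) G) :=
      ShortComplex.isoMk (e i) (e (i + 1)) (e (i + 1 + 1)) (hC i).symm (hC (i + 1)).symm
    exact ⟨b ≪≫ ShortComplex.homologyMapIso c ≪≫ a⟩

end Main

end K53.LfRes
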