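import Groth.Agent.Coherent.K53.FlfAdj
import Groth.Agent.Coherent.K53.LfRes
import Groth.Agent.Htor.H255.ExtRD
import Groth.Agent.Dcoh.FlatSES
import Groth.Prelude.Def_ExtSupp

/-!
# Finite locally free resolutions compute the Ext sheaves
-/

set_option autoImplicit false
universe u

open CategoryTheory CategoryTheory.Limits AlgebraicGeometry MonoidalCategory

namespace K53.LfResMod

open scoped Groth.Agent.Dcoh.MonCat

variable {X : Scheme.{u}}

theorem hasSheafHom (M : X.Modules) : ModSite.HasSheafHom (O := X.sheaf) M :=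
  (Groth.Agent.Htor.H255.ExtRD.flipAdj M).isLeftAdjoint

theorem pfc (N : X.Modules) : PreservesFiniteColimits ((DCoh.tensorBi (X := X)).obj N) := by
  have : PreservesColimitsOfSize.{0, 0} ((DCoh.tensorBi (X := X)).obj N) :=
    (Groth.Agent.Dcoh.MonClosed.tensorBiHomAdj N).leftAdjoint_preservesColimits
  exact PreservesColimitsOfSize.preservesFiniteColimits _

theorem flipAdd (M : X.Modules) : ((DCoh.tensorBi (X := X)).flip.obj M).Additive :=
  (Groth.Agent.Htor.H255.ExtRD.flipAdj M).left_adjoint_additive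

theorem flatCover (N : X.Modules) :
    ∃ (P : X.Modules) (π : P ⟶ N), Epi π ∧ ((DCoh.tensorBi (X := X)).obj P).PreservesMonomorphisms := by
  obtain ⟨P, π, hP, hπ⟩ := Groth.Agent.Dcoh.FlatRes.exists_flat_epi N
  have := (Groth.Agent.Dcoh.FlatTor.isFlat_iff_preservesFiniteLimits P).1 hP
  exact ⟨P, π, hπ, inferInstance⟩

/-- The higher Ext sheaves out of a finite locally free module vanish. -/
theorem isZero_ext [HasInjectiveResolutions X.Modules] {E : X.Modules} (hE : FlatMod.IsFinLocFree E)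
    [ModSite.HasSheafHom (O := X.sheaf) E] (G : X.Modules) (i : ℕ)
    [(show X.Modules ⥤ X.Modules from ModSite.sheafHom (O := X.sheaf) E).Additive] :
    IsZero (((show X.Modules ⥤ X.Modules from ModSite.sheafHom (O := X.sheaf) E).rightDerived (i + 1)).obj G) := by
  obtain ⟨E', -, ⟨h1⟩, ⟨h2⟩⟩ := K53.FlfAdj.exists_pairing_symm hE
  have e := K53.FlfAdj.homIso E E'
  have a1 := K53.FlfAdj.pfl E E'
  have a2 := K53.FlfAdj.pfc E' E
  have b1 : PreservesFiniteLimits (show X.Modules ⥤ X.Modules from ModSite.sheafHom (O := X.sheaf) E) :=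
    preservesFiniteLimits_of_natIso e.symm
  have b2 : PreservesFiniteColimits (show X.Modules ⥤ X.Modules from ModSite.sheafHom (O := X.sheaf) E) :=
    preservesFiniteColimits_of_natIso e.symm
  exact Groth.Agent.Sga4h.FunLES.isZero_rightDerived_of_exact _ G i

theorem main (F G : X.Modules)
    (E : ChainComplex X.Modules ℕ) (π : E.X 0 ⟶ F) [Epi π] (hπ : E.d 1 0 ≫ π = 0)
    (hex0 : (ShortComplex.mk (E.d 1 0) π hπ).Exact) (hex : ∀ j : ℕ, E.ExactAt (j + 1))
    (hE : ∀ j : ℕ, FlatMod.IsFinLocFree (E.X j))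
    [∀ j : ℕ, ModSite.HasSheafHom (O := X.sheaf) (E.X j)] [ModSite.HasSheafHom (O := X.sheaf) F]
    [HasInjectiveResolutions (ModSite.Mod X.sheaf)]
    (C : CochainComplex X.Modules ℕ) (e : ∀ j : ℕ, C.X j ≅ (ModSite.sheafHom (O := X.sheaf) (E.X j)).obj G)
    (hC : ∀ j : ℕ, C.d j (j + 1) ≫ (e (j + 1)).hom =
      (e j).hom ≫ (ExtSupp.sheafHomMap (O := X.sheaf) (E.d (j + 1) j)).app G)
    (i : ℕ) :
    Nonempty (C.homology i ≅ (ModSite.extSh (O := X.sheaf) F i).obj G) := by
  have i0 : ∀ M : X.Modules, ((DCoh.tensorBi (X := X)).flip.obj M).IsLeftAdjoint := hasSheafHom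
  have i1 : ∀ N : X.Modules, PreservesFiniteColimits ((DCoh.tensorBi (X := X)).obj N) := pfc
  have i2 : ∀ M : X.Modules, ((DCoh.tensorBi (X := X)).flip.obj M).Additive := flipAdd
  have i3 : HasInjectiveResolutions X.Modules := ‹HasInjectiveResolutions (ModSite.Mod X.sheaf)›
  have i4 : ∀ j, (show X.Modules ⥤ X.Modules from ModSite.sheafHom (O := X.sheaf) (E.X j)).Additive :=
    fun j => K53.LfRes.addHo (DCoh.tensorBi (X := X)) (E.X j)
  exact K53.LfRes.complexIso (DCoh.tensorBi (X := X)) flatCover G E F π hπ hex0 hex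
    (fun j i => isZero_ext (hE j) G i) C e hC i

end K53.LfResMod
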