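import Groth.Agent.Coherent.K53.AdmPull
import Groth.Agent.Coherent.K53.Degen

/-!
# Degenerations over the affine line and moduli

`app_eq`: a natural transformation from the moduli problem of semistable sheaves to a separated scheme takes the same
value on the middle term of a short exact sequence and on the direct sum of its ends.
-/

set_option autoImplicit false
set_option linter.unusedSectionVars false
set_option linter.unusedVariables false

universe u

open CategoryTheory CategoryTheory.Limits AlgebraicGeometry Polynomial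

namespace K53.OneParam

open Groth.Agent Fga.QTDefs Fga.QT4b Fga.QT6a Fga.QT6c K585.Defs K53.AdmPull K53.Degen

section Line

variable (k : Type u) [Field k]

/-- The affine line. -/
noncomputable abbrev A1 : Scheme.{u} := Spec (CommRingCat.of k[X])

/-- The structure morphism of the line. -/
noncomputable def qq : A1 k ⟶ Spec (CommRingCat.of k) := Spec.map (CommRingCat.ofHom (algebraMap k k[X]))

/-- The coordinate. -/
noncomputable def cc : Γ(A1 k, ⊤) := (Scheme.ΓSpecIso (CommRingCat.of k[X])).inv.hom Polynomial.X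

/-- The origin. -/
noncomputable def zz : Spec (CommRingCat.of k) ⟶ A1 k := Spec.map (CommRingCat.ofHom (Polynomial.evalRingHom 0))

/-- The multiplicative group. -/
noncomputable abbrev Gm : Scheme.{u} := Spec (CommRingCat.of (Localization.Away (Polynomial.X : k[X])))

/-- The open immersion of the multiplicative group. -/
noncomputable def uu : Gm k ⟶ A1 k :=
  Spec.map (CommRingCat.ofHom (algebraMap k[X] (Localization.Away (Polynomial.X : k[X]))))

theorem zz_qq : zz k ≫ qq k = 𝟙 _ := by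
  rw [zz, qq, ← Spec.map_comp, ← CommRingCat.ofHom_comp]
  have : (Polynomial.evalRingHom (0 : k)).comp (algebraMap k k[X]) = RingHom.id k := by
    ext x
    simp
  rw [this]
  exact Spec.map_id _

instance flat_qq : Flat (qq k) := by
  rw [qq, Flat.SpecMap_iff]
  exact RingHom.flat_algebraMap_iff.2 inferInstance

instance lft_qq : LocallyOfFiniteType (qq k) := by
  rw [qq, HasRingHomProperty.Spec_iff (P := @LocallyOfFiniteType)]
  exact RingHom.finiteType_algebraMap.2 inferInstance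

instance isOpenImmersion_uu : IsOpenImmersion (uu k) :=
  inferInstanceAs (IsOpenImmersion (Spec.map (CommRingCat.ofHom (algebraMap k[X] (Localization.Away (Polynomial.X : k[X]))))))

instance isDominant_uu : IsDominant (uu k) := by
  refine ⟨?_⟩
  have h : DenseRange (PrimeSpectrum.comap (algebraMap k[X] (Localization.Away (Polynomial.X : k[X])))) := by
    rw [PrimeSpectrum.denseRange_comap_iff_ker_le_nilRadical]
    rw [(RingHom.injective_iff_ker_eq_bot _).1 (IsLocalization.injective _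
      (powers_le_nonZeroDivisors_of_noZeroDivisors Polynomial.X_ne_zero))]
    exact bot_le
  exact h

theorem zz_cc : (zz k).appTop (cc k) = 0 := by
  have h := Scheme.ΓSpecIso_inv_naturality (CommRingCat.ofHom (Polynomial.evalRingHom (0 : k)))
  have h1 := congrArg (fun φ => φ.hom (Polynomial.X : k[X])) h
  change _ = (zz k).appTop (cc k) at h1
  rw [← h1]
  change (Scheme.ΓSpecIso (CommRingCat.of k)).inv.hom ((Polynomial.evalRingHom (0 : k)) Polynomial.X) = 0
  rw [Polynomial.coe_evalRingHom, Polynomial.eval_X, map_zero]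

theorem uu_cc : IsUnit ((uu k).appTop (cc k)) := by
  have h := Scheme.ΓSpecIso_inv_naturality
    (CommRingCat.ofHom (algebraMap k[X] (Localization.Away (Polynomial.X : k[X]))))
  have h1 := congrArg (fun φ => φ.hom (Polynomial.X : k[X])) h
  change _ = (uu k).appTop (cc k) at h1
  rw [← h1]
  exact (IsLocalization.Away.algebraMap_isUnit (S := Localization.Away (Polynomial.X : k[X]))
    (Polynomial.X : k[X])).map
      (Scheme.ΓSpecIso (CommRingCat.of (Localization.Away (Polynomial.X : k[X])))).inv.hom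

end Line

variable {n : ℕ} {X S : Scheme.{u}} (f : X ⟶ S) {k : Type u} [Field k] (g₀ : X ⟶ PZ n)
  (sS : S ⟶ Spec (CommRingCat.of k)) (s : Spec (CommRingCat.of k) ⟶ S) (hs : s ≫ sS = 𝟙 _)

/-- The line over the point `s`. -/
noncomputable abbrev T1 : Over S := Over.mk (qq k ≫ s)

/-- The multiplicative group over the point `s`. -/
noncomputable abbrev T2 : Over S := Over.mk (uu k ≫ qq k ≫ s)

noncomputable def hq : T1 s ⟶ Over.mk s := Over.homMk (qq k) rfl

noncomputable def hu : T2 s ⟶ T1 s := Over.homMk (uu k) rfl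

noncomputable def hz : Over.mk s ⟶ T1 s := Over.homMk (zz k) (by
  change zz k ≫ qq k ≫ s = s
  rw [← Category.assoc, zz_qq, Category.id_comp])

theorem hz_hq : hz s ≫ hq s = 𝟙 _ := Over.OverMorphism.ext (zz_qq k)

instance flat_XTmap : Flat (PicF.XTmap f (hq s)) :=
  MorphismProperty.of_isPullback (Picfga.HilbPull.isPullback_XTmap f (hq s)).flip (flat_qq k)

/-- The degenerating family. -/
noncomputable abbrev fm (E : ShortComplex (PicF.XT f (Over.mk s)).Modules) : (PicF.XT f (T1 s)).Modules :=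
  fam (PicF.XTmap f (hq s)) (PicF.XTproj f (T1 s)) E (cc k)

variable [LocallyOfFiniteType f]

theorem isLocallyNoetherian_XT (T : Over S) [IsLocallyNoetherian T.left] : IsLocallyNoetherian (PicF.XT f T) :=
  LocallyOfFiniteType.isLocallyNoetherian (PicF.XTproj f T)

variable {f s}

theorem flat_pull (M : (PicF.XT f (Over.mk s)).Modules) :
    FlatMod.IsFlatOver (PicF.XTproj f (T1 s)) ((Scheme.Modules.pullback (PicF.XTmap f (hq s))).obj M) :=
  FormalB.BC.isFlatOver_pullback (Picfga.HilbPull.isPullback_XTmap f (hq s)) M (isFlatOver_field _ M)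

/-- At the origin. -/
theorem nonempty_zero {E : ShortComplex (PicF.XT f (Over.mk s)).Modules} (hE : E.ShortExact) :
    Nonempty ((Scheme.Modules.pullback (PicF.XTmap f (hz s))).obj (fm f s E) ≅ E.X₁ ⊞ E.X₃) := by
  obtain ⟨e⟩ := nonempty_fibre_zero (PicF.XTmap f (hq s)) (PicF.XTproj f (T1 s)) (cc k)
    (Picfga.HilbPull.isPullback_XTmap f (hz s)) hE (flat_pull E.X₃) (zz_cc k)
  exact ⟨e ≪≫ biprod.mapIso (pullIso₂ f (hz_hq s) E.X₁ ≪≫ pullIso₁ f rfl E.X₁)
    (pullIso₂ f (hz_hq s) E.X₃ ≪≫ pullIso₁ f rfl E.X₃)⟩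

/-- Over the multiplicative group. -/
theorem nonempty_unit {E : ShortComplex (PicF.XT f (Over.mk s)).Modules} (hE : E.ShortExact) :
    Nonempty ((Scheme.Modules.pullback (PicF.XTmap f (hu s))).obj (fm f s E) ≅
      (Scheme.Modules.pullback (PicF.XTmap f (hu s ≫ hq s))).obj E.X₂) := by
  obtain ⟨e⟩ := nonempty_fibre_unit (PicF.XTmap f (hq s)) (PicF.XTproj f (T1 s)) (cc k)
    (Picfga.HilbPull.isPullback_XTmap f (hu s)) hE (flat_pull E.X₃) (uu_cc k)
  exact ⟨e ≪≫ pullIso₂ f rfl E.X₂⟩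

theorem isUnit_or_zero {A : Type u} [Field A] {T : Scheme.{u}} (t : Spec (CommRingCat.of A) ⟶ T) (c : Γ(T, ⊤)) :
    t.appTop c = 0 ∨ IsUnit (t.appTop c) := by
  let e := (Scheme.ΓSpecIso (CommRingCat.of A)).commRingCatIsoToRingEquiv
  by_cases h : e (t.appTop c) = 0
  · exact Or.inl (e.map_eq_zero_iff.1 h)
  · refine Or.inr ?_
    have h1 : IsUnit (e (t.appTop c)) := isUnit_iff_ne_zero.2 h
    exact (isUnit_map_iff e _).1 h1

include hs

/-- The family is admissible. -/
theorem adm_fm {P : ℚ[X]} {E : ShortComplex (PicF.XT f (Over.mk s)).Modules} (hE : E.ShortExact)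
    (h1 : Coh.IsCoh E.X₁) (h3 : Coh.IsCoh E.X₃)
    (h2 : @SSh k _ n _ (ovr f s) (gT f g₀ (Over.mk s)) P E.X₂)
    (h13 : @SSh k _ n _ (ovr f s) (gT f g₀ (Over.mk s)) P (E.X₁ ⊞ E.X₃)) :
    Adm f sS g₀ P (T1 s) (fm f s E) where
  coh := by
    have : IsLocallyNoetherian (T1 s).left := inferInstanceAs (IsLocallyNoetherian (Spec (CommRingCat.of k[X])))
    have := isLocallyNoetherian_XT f (T1 s)
    exact isCoh_fam _ _ _ hE h1 h3
  flat := isFlatOver_fam _ _ _ hE (flat_pull E.X₁) (flat_pull E.X₃)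
  ssh t ht := by
    have ht' : t ≫ qq k = 𝟙 _ := by
      change t ≫ (qq k ≫ s) ≫ sS = 𝟙 _ at ht
      rwa [Category.assoc, hs, Category.comp_id] at ht
    let θ : Over.mk (t ≫ (T1 s).hom) ⟶ Over.mk s := Over.homMk (𝟙 _) (by
      change 𝟙 _ ≫ s = t ≫ qq k ≫ s
      rw [← Category.assoc, ht'])
    let τ : Over.mk (t ≫ (T1 s).hom) ⟶ T1 s := Over.homMk t rfl
    have hθ : τ ≫ hq s = θ := Over.OverMorphism.ext ht'
    let _ := ovr f (t ≫ (T1 s).hom)
    rcases isUnit_or_zero t (cc k) with h | h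
    · obtain ⟨e⟩ := nonempty_fibre_zero (PicF.XTmap f (hq s)) (PicF.XTproj f (T1 s)) (cc k)
        (Picfga.HilbPull.isPullback_XTmap f τ) hE (flat_pull E.X₃) h
      refine ssh_of_iso k _ ?_ (ssh_pull f g₀ θ rfl h13)
      refine ?_ ≪≫ e.symm
      have := preservesBinaryBiproducts_of_preservesBiproducts (Scheme.Modules.pullback (PicF.XTmap f θ))
      refine (Functor.mapBiprod _ _ _) ≪≫ biprod.mapIso (pullIso₂ f hθ E.X₁).symm (pullIso₂ f hθ E.X₃).symm
    · obtain ⟨e⟩ := nonempty_fibre_unit (PicF.XTmap f (hq s)) (PicF.XTproj f (T1 s)) (cc k)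
        (Picfga.HilbPull.isPullback_XTmap f τ) hE (flat_pull E.X₃) h
      exact ssh_of_iso k _ ((pullIso₂ f hθ E.X₂).symm ≪≫ e.symm) (ssh_pull f g₀ θ rfl h2)

omit hs in
theorem ft_of_comp [LocallyOfFiniteType sS] [QuasiCompact sS] [IsSeparated sS] (T : Over S)
    [LocallyOfFiniteType T.hom] [QuasiCompact T.hom] [IsSeparated T.hom] : W4c2simpsonmod1.ftOver sS T :=
  ⟨inferInstance, inferInstance, inferInstance⟩

theorem ft_T1 : W4c2simpsonmod1.ftOver sS (T1 s) := by
  have h : (T1 s).hom ≫ sS = qq k := by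
    change (qq k ≫ s) ≫ sS = qq k
    rw [Category.assoc, hs, Category.comp_id]
  refine ⟨?_, ?_, ?_⟩
  · rw [h]; exact lft_qq k
  · rw [h]; exact inferInstanceAs (QuasiCompact (Spec.map (CommRingCat.ofHom (algebraMap k k[X]))))
  · rw [h]; exact inferInstanceAs (IsSeparated (Spec.map (CommRingCat.ofHom (algebraMap k k[X]))))

theorem ft_T2 : W4c2simpsonmod1.ftOver sS (T2 s) := by
  have h : (T2 s).hom ≫ sS = uu k ≫ qq k := by
    change (uu k ≫ qq k ≫ s) ≫ sS = uu k ≫ qq k
    rw [Category.assoc, Category.assoc, hs, Category.comp_id]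
  have hq : QuasiCompact (qq k) := inferInstanceAs (QuasiCompact (Spec.map (CommRingCat.ofHom (algebraMap k k[X]))))
  have hq' : IsSeparated (qq k) := inferInstanceAs (IsSeparated (Spec.map (CommRingCat.ofHom (algebraMap k k[X]))))
  have hu : QuasiCompact (uu k) := inferInstanceAs (QuasiCompact
    (Spec.map (CommRingCat.ofHom (algebraMap k[X] (Localization.Away (Polynomial.X : k[X]))))))
  refine ⟨?_, ?_, ?_⟩
  · rw [h]; infer_instance
  · rw [h]; infer_instance
  · rw [h]; infer_instance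

theorem ft_T0 : W4c2simpsonmod1.ftOver sS (Over.mk s) := by
  have h : (Over.mk s).hom ≫ sS = 𝟙 _ := hs
  refine ⟨?_, ?_, ?_⟩
  · rw [h]; infer_instance
  · rw [h]; infer_instance
  · rw [h]; infer_instance

/-- **Degeneration.** -/
theorem app_eq_of_shortExact {P : ℚ[X]} {Q : ∀ T : Over S, (PicF.XT f T).Modules → Prop}
    (hQ : ∀ (T : Over S) (E : (PicF.XT f T).Modules), (W4c2simpsonmod1.shProb f Q).ok T E ↔ Adm f sS g₀ P T E)
    {M : Over S} [IsSeparated M.hom] (φ : ModFun.Problem.Hom (W4c2simpsonmod1.shProb f Q) (W4c2simpsonmod1.ftOver sS) M)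
    {E : ShortComplex (PicF.XT f (Over.mk s)).Modules} (hE : E.ShortExact)
    (h1 : Coh.IsCoh E.X₁) (h3 : Coh.IsCoh E.X₃) {F F' : (PicF.XT f (Over.mk s)).Modules} (e : F ≅ E.X₂)
    (e' : F' ≅ E.X₁ ⊞ E.X₃)
    (hP : (W4c2simpsonmod1.ftOver sS) (Over.mk s))
    (h2 : (W4c2simpsonmod1.shProb f Q).ok (Over.mk s) F)
    (h13 : (W4c2simpsonmod1.shProb f Q).ok (Over.mk s) F') :
    φ.app (Over.mk s) F hP h2 = φ.app (Over.mk s) F' hP h13 := by
  have a2 := (hQ _ _).1 h2
  have a13 := (hQ _ _).1 h13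
  have hadm : Adm f sS g₀ P (T1 s) (fm f s E) := by
    refine adm_fm g₀ sS hs hE h1 h3 ?_ ?_
    · let _ := ovr f s
      exact ssh_of_iso k _ e (ssh_of_adm f g₀ hs a2)
    · let _ := ovr f s
      exact ssh_of_iso k _ e' (ssh_of_adm f g₀ hs a13)
  have k1 := (hQ _ _).2 hadm
  have kq : (W4c2simpsonmod1.shProb f Q).ok (T1 s) ((W4c2simpsonmod1.shProb f Q).pull (hq s) F) :=
    (hQ _ _).2 (adm_pull f g₀ (hq s) a2)
  have ku : (W4c2simpsonmod1.shProb f Q).ok (T2 s) ((W4c2simpsonmod1.shProb f Q).pull (hu s) (fm f s E)) :=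
    (hQ _ _).2 (adm_pull f g₀ (hu s) hadm)
  have kuq : (W4c2simpsonmod1.shProb f Q).ok (T2 s) ((W4c2simpsonmod1.shProb f Q).pull (hu s ≫ hq s) F) :=
    (hQ _ _).2 (adm_pull f g₀ (hu s ≫ hq s) a2)
  have kz : (W4c2simpsonmod1.shProb f Q).ok (Over.mk s) ((W4c2simpsonmod1.shProb f Q).pull (hz s) (fm f s E)) :=
    (hQ _ _).2 (adm_pull f g₀ (hz s) hadm)
  have p1 := ft_T1 sS hs
  have p2 := ft_T2 sS hs
  have main : φ.app (T1 s) (fm f s E) p1 k1 = hq s ≫ φ.app (Over.mk s) F hP h2 := by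
    apply Over.OverMorphism.ext
    have hw : (φ.app (T1 s) (fm f s E) p1 k1).left ≫ M.hom = (hq s ≫ φ.app (Over.mk s) F hP h2).left ≫ M.hom := by
      rw [Over.w, Over.w]
    have hred : IsReduced (T1 s).left := inferInstanceAs (IsReduced (Spec (CommRingCat.of k[X])))
    have hdom : IsDominant (uu k) := isDominant_uu k
    refine ext_of_isDominant_of_isSeparated M.hom hw (uu k) ?_
    have h5 : hu s ≫ φ.app (T1 s) (fm f s E) p1 k1 = hu s ≫ hq s ≫ φ.app (Over.mk s) F hP h2 := by
      rw [← φ.natural (hu s) (fm f s E) p1 p2 k1 ku, ← Category.assoc,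
        ← φ.natural (hu s ≫ hq s) F hP p2 h2 kuq]
      apply φ.resp
      obtain ⟨e5⟩ := nonempty_unit (f := f) hE
      exact ⟨e5 ≪≫ (Scheme.Modules.pullback _).mapIso e.symm⟩
    exact congrArg (fun m => m.left) h5
  have h6 : φ.app (Over.mk s) F' hP h13 = hz s ≫ φ.app (T1 s) (fm f s E) p1 k1 := by
    rw [← φ.natural (hz s) (fm f s E) p1 hP k1 kz]
    apply φ.resp
    obtain ⟨e6⟩ := nonempty_zero (f := f) hE
    exact ⟨e' ≪≫ e6.symm⟩
  rw [h6, main, ← Category.assoc, hz_hq, Category.id_comp]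

end K53.OneParam
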