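import Groth.Agent.Coherent.K53.King
import Mathlib.CategoryTheory.Linear.Basic
import Mathlib.LinearAlgebra.Dimension.Constructions
import Mathlib.LinearAlgebra.FiniteDimensional.Lemmas

/-!
# Polystable objects are determined by dimensions of Hom spaces

`exists_mono`: `F` semistable, `T` a retract-closed sum of stable objects `G` with
`dim Hom(G, T) ≤ dim Hom(G, F)`; then `T` embeds in `F`.
-/

set_option autoImplicit false
set_option linter.unusedSectionVars false
set_option linter.unusedVariables false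

universe v u w

open CategoryTheory CategoryTheory.Limits

namespace K53.Poly

open K53.King

variable {C : Type u} [Category.{v} C] [Abelian C] {V : Type w} [AddCommGroup V] [LinearOrder V]
  [IsOrderedAddMonoid V]
variable {ok : C → Prop} {ℓ : C → V} (h : K846.Lat.Add ok ℓ)

open scoped ZeroObject

/-- Direct sum of a list. -/
noncomputable def sum : List C → C
  | [] => 0
  | G :: l => G ⊞ sum l

section Hom

variable {k : Type*} [Field k] [Linear k C]

theorem finrank_hom_le {A M N : C} (i : M ⟶ N) (r : N ⟶ M) (hir : i ≫ r = 𝟙 M)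
    [Module.Finite k (A ⟶ N)] : Module.finrank k (A ⟶ M) ≤ Module.finrank k (A ⟶ N) := by
  refine LinearMap.finrank_le_finrank_of_injective (f := Linear.rightComp k A i) ?_
  intro f g hfg
  have h1 : f ≫ i = g ≫ i := hfg
  rw [← Category.comp_id f, ← Category.comp_id g, ← hir, ← Category.assoc, ← Category.assoc, h1]

theorem finite_hom {A M N : C} (i : M ⟶ N) (r : N ⟶ M) (hir : i ≫ r = 𝟙 M)
    [Module.Finite k (A ⟶ N)] : Module.Finite k (A ⟶ M) := by
  refine Module.Finite.of_injective (Linear.rightComp k A i) ?_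
  intro f g hfg
  have h1 : f ≫ i = g ≫ i := hfg
  rw [← Category.comp_id f, ← Category.comp_id g, ← hir, ← Category.assoc, ← Category.assoc, h1]

/-- `Hom(G, M)` is smaller than `Hom(G, G ⊞ M)`. -/
theorem finrank_lt {G M T : C} (hG : ¬ IsZero G) (i : G ⊞ M ⟶ T) (r : T ⟶ G ⊞ M) (hir : i ≫ r = 𝟙 _)
    [Module.Finite k (G ⟶ T)] : Module.finrank k (G ⟶ M) < Module.finrank k (G ⟶ T) := by
  have hf : Module.Finite k (G ⟶ G ⊞ M) := finite_hom i r hir
  refine lt_of_lt_of_le ?_ (finrank_hom_le (k := k) (A := G) i r hir)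
  let φ : (G ⟶ M) →ₗ[k] (G ⟶ G ⊞ M) := Linear.rightComp k G biprod.inr
  have hφ : Function.Injective φ := by
    intro f g hfg
    have h1 : f ≫ biprod.inr = g ≫ (biprod.inr : M ⟶ G ⊞ M) := hfg
    exact (cancel_mono _).1 h1
  have h2 : LinearMap.range φ ≠ ⊤ := by
    intro htop
    have h3 : (biprod.inl : G ⟶ G ⊞ M) ∈ LinearMap.range φ := by rw [htop]; trivial
    obtain ⟨f, hf⟩ := h3
    have h4 : f ≫ (biprod.inr : M ⟶ G ⊞ M) = biprod.inl := hf
    apply hG
    rw [IsZero.iff_id_eq_zero]
    have h5 := congrArg (· ≫ (biprod.fst : G ⊞ M ⟶ G)) h4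
    simpa using h5.symm
  rw [← LinearMap.finrank_range_of_inj hφ]
  exact Submodule.finrank_lt h2

end Hom

include h

/-- Kernels of maps from a stable object to a semistable one. -/
theorem mono_of_ne_zero {G Q : C} (hG : St ok ℓ G) (hQ : SS ok ℓ Q) {g : G ⟶ Q} (hg : g ≠ 0) : Mono g := by
  have h1 := (both_zero h hG.1 hQ g).1
  have hk := h.ok_kernel g hG.1.1 hQ.1
  by_cases hz : IsZero (kernel g)
  · exact Preadditive.mono_of_kernel_zero (hz.eq_of_src _ _)
  · by_cases hi : IsIso (kernel.ι g)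
    · exact absurd (by rw [← cancel_epi (kernel.ι g), kernel.condition, comp_zero]) hg
    · have := hG.2.2 _ (kernel.ι g) inferInstance hk hz hi
      rw [h1] at this
      exact absurd this (lt_irrefl _)

variable {k : Type*} [Field k] [Linear k C]

/-- The embedding. -/
theorem exists_mono {F T : C} (hF : SS ok ℓ F) (hfin : ∀ G : C, ok G → Module.Finite k (G ⟶ T)) :
    ∀ (l : List C), (∀ G ∈ l, St ok ℓ G ∧ Module.finrank k (G ⟶ T) ≤ Module.finrank k (G ⟶ F)) →
      (∃ (i : sum l ⟶ T) (r : T ⟶ sum l), i ≫ r = 𝟙 _) → SS ok ℓ (sum l) ∧ ∃ m : sum l ⟶ F, Mono m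
  | [], _, _ => ⟨SS.zero h (isZero_zero C), 0, ⟨fun _ _ _ => (isZero_zero C).eq_of_tgt _ _⟩⟩
  | G :: l, hl, hir' => by
    obtain ⟨i, r, hir⟩ : ∃ (i : G ⊞ sum l ⟶ T) (r : T ⟶ G ⊞ sum l), i ≫ r = 𝟙 _ := hir'
    change SS ok ℓ (G ⊞ sum l) ∧ ∃ m : G ⊞ sum l ⟶ F, Mono m
    obtain ⟨hs, m, hm⟩ := exists_mono hF hfin l (fun G' h' => hl G' (List.mem_cons_of_mem _ h'))
      ⟨(biprod.inr : sum l ⟶ G ⊞ sum l) ≫ i, r ≫ biprod.snd, by
        rw [Category.assoc, reassoc_of% hir, biprod.inr_snd]⟩
    obtain ⟨hG, hle⟩ := hl G List.mem_cons_self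
    have hfG := hfin G hG.1.1
    have hlt : Module.finrank k (G ⟶ sum l) < Module.finrank k (G ⟶ F) :=
      (finrank_lt (k := k) hG.2.1 i r hir).trans_le hle
    -- a map which does not factor through `m`
    obtain ⟨ψ, hψ⟩ : ∃ ψ : G ⟶ F, ψ ∉ LinearMap.range (Linear.rightComp k G m) := by
      by_contra hcon
      push Not at hcon
      have h1 : LinearMap.range (Linear.rightComp k G m) = ⊤ := by
        rw [eq_top_iff]
        exact fun x _ => hcon x
      have hfin' : Module.Finite k (G ⟶ sum l) := by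
        have : Module.Finite k (G ⟶ G ⊞ sum l) := finite_hom i r hir
        exact finite_hom (biprod.inr : sum l ⟶ G ⊞ sum l) biprod.snd biprod.inr_snd
      have h2 := LinearMap.finrank_range_le (Linear.rightComp k G m)
      rw [h1, finrank_top] at h2
      omega
    have hg : ψ ≫ cokernel.π m ≠ 0 := by
      intro h0
      apply hψ
      exact ⟨(Abelian.monoIsKernelOfCokernel (CokernelCofork.ofπ (cokernel.π m) (cokernel.condition m))
        (cokernelIsCokernel m)).lift (KernelFork.ofι ψ h0),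
        (Abelian.monoIsKernelOfCokernel (CokernelCofork.ofπ (cokernel.π m) (cokernel.condition m))
        (cokernelIsCokernel m)).fac (KernelFork.ofι ψ h0) WalkingParallelPair.zero⟩
    have hmono := mono_of_ne_zero h hG (hs.cokernel h hF m) hg
    have hS : SS ok ℓ (G ⊞ sum l) := by
      refine SS.ext h (ShortComplex.mk (biprod.inl : G ⟶ G ⊞ sum l) biprod.snd biprod.inl_snd) ?_ hG.1 hs
      exact (ShortComplex.Splitting.ofHasBinaryBiproduct G (sum l)).shortExact
    refine ⟨hS, biprod.desc ψ m, ?_⟩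
    refine Preadditive.mono_of_cancel_zero _ fun {Z} f hf => ?_
    have e1 : f = f ≫ biprod.fst ≫ biprod.inl + f ≫ biprod.snd ≫ biprod.inr := by
      rw [← Preadditive.comp_add, biprod.total, Category.comp_id]
    have h2 : (f ≫ biprod.fst) ≫ ψ + (f ≫ biprod.snd) ≫ m = 0 := by
      rw [← hf]
      conv_rhs => rw [e1]
      simp
    have h3 : (f ≫ biprod.fst) ≫ ψ ≫ cokernel.π m = 0 := by
      have := congrArg (· ≫ cokernel.π m) h2
      simpa using this
    have h4 : f ≫ biprod.fst = 0 := by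
      rw [← cancel_mono (ψ ≫ cokernel.π m), h3, zero_comp]
    have h5 : f ≫ biprod.snd = 0 := by
      rw [h4, zero_comp, zero_add] at h2
      rw [← cancel_mono m, h2, zero_comp]
    rw [e1, ← Category.assoc, ← Category.assoc, h4, h5, zero_comp, zero_comp, add_zero]

end K53.Poly
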