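import Groth.Agent.Coherent.K53.Poly
import Groth.Agent.Coherent.K53.GiesKing
import Groth.Agent.VBCurve.K703.HomFin
import Groth.Agent.ShStab.K849.HilbFacts

/-!
# Polystable sheaves are determined by dimensions of Hom spaces
-/

set_option autoImplicit false
set_option linter.unusedSectionVars false
set_option linter.unusedVariables false

universe v w u

open CategoryTheory CategoryTheory.Limits AlgebraicGeometry Polynomial

namespace K53.PolySh

open K53.King K53.KingJH K53.FiltExt K53.GiesKing K53.Poly K849.PolyOrd K846.Gies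

section Abstract

variable {C : Type w} [Category.{v} C] [Abelian C]

open scoped ZeroObject

theorem nonempty_iso_succ {n : ℕ} (f : Fin (n + 1) → C) :
    Nonempty ((∐ f) ≅ f 0 ⊞ ∐ (fun i : Fin n => f i.succ)) := by
  refine ⟨⟨Sigma.desc (Fin.cases biprod.inl (fun i => Sigma.ι (fun i : Fin n => f i.succ) i ≫ biprod.inr)),
    biprod.desc (Sigma.ι f 0) (Sigma.desc fun i => Sigma.ι f i.succ), ?_, ?_⟩⟩
  · apply Sigma.hom_ext
    refine Fin.cases ?_ ?_
    · simp
    · intro i
      simp
  · apply biprod.hom_ext'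
    · simp
    · apply Sigma.hom_ext
      intro i
      simp

theorem nonempty_iso_sum : ∀ {n : ℕ} (f : Fin n → C), Nonempty ((∐ f) ≅ sum (List.ofFn f))
  | 0, f => by
    rw [List.ofFn_zero]
    refine ⟨IsZero.iso ?_ (isZero_zero C)⟩
    rw [IsZero.iff_id_eq_zero]
    apply Sigma.hom_ext
    intro i
    exact i.elim0
  | n + 1, f => by
    rw [List.ofFn_succ]
    obtain ⟨e⟩ := nonempty_iso_succ f
    obtain ⟨e'⟩ := nonempty_iso_sum fun i : Fin n => f i.succ
    exact ⟨e ≪≫ biprod.mapIso (Iso.refl _) e'⟩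

theorem nonempty_iso_last {n : ℕ} (f : Fin (n + 1) → C) :
    Nonempty ((∐ f) ≅ f (Fin.last n) ⊞ ∐ (fun i : Fin n => f i.castSucc)) := by
  refine ⟨⟨Sigma.desc (Fin.lastCases biprod.inl
      (fun i => Sigma.ι (fun i : Fin n => f i.castSucc) i ≫ biprod.inr)),
    biprod.desc (Sigma.ι f (Fin.last n)) (Sigma.desc fun i => Sigma.ι f i.castSucc), ?_, ?_⟩⟩
  · apply Sigma.hom_ext
    refine Fin.lastCases ?_ ?_
    · simp
    · intro i
      simp
  · apply biprod.hom_ext'
    · simp
    · apply Sigma.hom_ext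
      intro i
      simp

/-- `M` has a filtration with the given list of factors (the head is the quotient). -/
inductive FL : List C → C → Prop
  | zero (M : C) : IsZero M → FL [] M
  | ext (S : ShortComplex C) (l : List C) : S.ShortExact → FL l S.X₁ → FL (S.X₃ :: l) S.X₂

theorem FL.of_iso {l : List C} {M N : C} (e : M ≅ N) (hM : FL l M) : FL l N := by
  cases hM with
  | zero _ h => exact FL.zero _ (h.of_iso e.symm)
  | ext S l hS h₁ =>
    let S' : ShortComplex C := ShortComplex.mk (S.f ≫ e.hom) (e.inv ≫ S.g) (by simp)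
    have i : S ≅ S' := ShortComplex.isoMk (Iso.refl _) e (Iso.refl _) (by simp [S']) (by simp [S'])
    exact FL.ext S' l (ShortComplex.shortExact_of_iso i hS) h₁

/-- From a series. -/
theorem exists_list {E : C} (s : LTSeries (Subobject E)) (h0 : s.head = ⊥) (h1 : s.last = ⊤) :
    ∃ l : List C, FL l E ∧ (∀ G ∈ l, ∃ i, G = StabCat.factor s i) ∧
      Nonempty (sum l ≅ StabCat.grObj s) := by
  have key : ∀ (i : ℕ) (hi : i ≤ s.length), ∃ l : List C, FL l (s ⟨i, Nat.lt_succ_of_le hi⟩ : C) ∧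
      (∀ G ∈ l, ∃ i, G = StabCat.factor s i) ∧
      Nonempty (sum l ≅ ∐ fun j : Fin i => StabCat.factor s ⟨j.val, j.2.trans_le hi⟩) := by
    intro i
    induction i with
    | zero =>
      intro hi
      refine ⟨[], ?_, by simp, ?_⟩
      · have : s ⟨0, Nat.lt_succ_of_le hi⟩ = ⊥ := h0
        rw [this]
        exact FL.zero _ (IsZero.of_mono_eq_zero _ Subobject.bot_arrow)
      · refine ⟨IsZero.iso (isZero_zero C) ?_⟩
        rw [IsZero.iff_id_eq_zero]
        apply Sigma.hom_ext
        intro i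
        exact i.elim0
    | succ i ih =>
      intro hi
      obtain ⟨l, hl, hm, ⟨e⟩⟩ := ih (by omega)
      let j : Fin s.length := ⟨i, hi⟩
      refine ⟨StabCat.factor s j :: l, ?_, ?_, ?_⟩
      · exact FL.ext (ShortComplex.mk (Subobject.ofLE (s j.castSucc) (s j.succ) (le_of_lt (s.step j)))
          (cokernel.π _) (cokernel.condition _)) l (K846.Lat.shortExact_cokernel _) hl
      · intro G hG
        rcases List.mem_cons.1 hG with rfl | hG
        · exact ⟨j, rfl⟩
        · exact hm G hG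
      · obtain ⟨e'⟩ := nonempty_iso_last fun j : Fin (i + 1) => StabCat.factor s ⟨j.val, j.2.trans_le hi⟩
        exact ⟨biprod.mapIso (Iso.refl _) e ≪≫ e'.symm⟩
  obtain ⟨l, hl, hm, he⟩ := key s.length le_rfl
  refine ⟨l, ?_, hm, he⟩
  have h3 : s ⟨s.length, Nat.lt_succ_of_le le_rfl⟩ = ⊤ := h1
  rw [h3] at hl
  exact hl.of_iso (asIso (⊤ : Subobject E).arrow)

theorem ss_sum {V : Type*} [AddCommGroup V] [LinearOrder V] [IsOrderedAddMonoid V] {ok : C → Prop}
    {ℓ : C → V} (h : K846.Lat.Add ok ℓ) : ∀ {l : List C}, (∀ G ∈ l, SS ok ℓ G) → SS ok ℓ (sum l)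
  | [], _ => SS.zero h (isZero_zero C)
  | G :: l, hl => by
    change SS ok ℓ (G ⊞ sum l)
    refine SS.ext h (ShortComplex.mk (biprod.inl : G ⟶ G ⊞ sum l) biprod.snd biprod.inl_snd) ?_
      (hl G List.mem_cons_self) (ss_sum h fun G' h' => hl G' (List.mem_cons_of_mem _ h'))
    exact (ShortComplex.Splitting.ofHasBinaryBiproduct G (sum l)).shortExact

variable {V : Type*} [AddCommGroup V] {ok : C → Prop} {P : C → V} (h : K846.Lat.Add ok P)

include h

theorem ok_of_FL {l : List C} {M : C} (hM : FL l M) (hl : ∀ G ∈ l, ok G) :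
    ok M ∧ ok (sum l) ∧ P M = P (sum l) := by
  induction hM with
  | zero M hz =>
    refine ⟨h.ok_zero hz, h.ok_zero (isZero_zero C), ?_⟩
    rw [h.v_zero hz]
    exact (h.v_zero (isZero_zero C)).symm
  | ext S l hS h₁ ih =>
    obtain ⟨a, b, c⟩ := ih fun G hG => hl G (List.mem_cons_of_mem _ hG)
    have h3 : ok S.X₃ := hl _ List.mem_cons_self
    have h2 := h.ok_ext S hS a h3
    have hT : (ShortComplex.mk (biprod.inl : S.X₃ ⟶ S.X₃ ⊞ sum l) biprod.snd biprod.inl_snd).ShortExact :=
      (ShortComplex.Splitting.ofHasBinaryBiproduct S.X₃ (sum l)).shortExact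
    have h4 := h.ok_ext _ hT h3 b
    refine ⟨h2, h4, ?_⟩
    rw [h.add S hS a h2 h3, c]
    have h5 := h.add _ hT h3 h4 b
    change P (S.X₃ ⊞ sum l) = _ at h5
    change _ = P (S.X₃ ⊞ sum l)
    rw [h5, add_comm]

end Abstract


variable {k : Type u} [Field k] {X : Scheme.{u}} [X.Over (Spec (CommRingCat.of k))]
variable {L : X.Modules} [IsLocallyNoetherian X] (H : HilbFacts k X L)

include H

/-- Semistability of an object with the same invariant. -/
theorem semistable_of_ss {d : ℕ} {E M : X.Modules} (hE : ShStab.IsSemistable k X L E d)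
    (hM : SS (okd k L d) (elE k L d E) M) (hv' : hv k L M = hv k L E) :
    ShStab.IsSemistable k X L M d ∧
      ∀ p : ℚ[X], ShStab.IsHilbPoly k X L E p → ShStab.IsHilbPoly k X L M p := by
  have h0 : ¬ IsZero M := by
    intro hz
    have h1 := hv_pos H hE.1 hE.2.1
    rw [← hv', (add_okd H d).v_zero hz] at h1
    exact lt_irrefl _ h1
  refine ⟨((semistable_iff H hE h0).2 hM).1, fun p hp' => ?_⟩
  have h2 : hp k L M = hp k L E := toPV_injective hv'
  rw [isHilbPoly_iff H hM.1.1, h2]
  exact (isHilbPoly_iff H hE.1).1 hp'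

/-- The graded object of a Jordan-Hölder filtration is semistable with the same Hilbert polynomial. -/
theorem gr_facts {d : ℕ} {E : X.Modules}
    (hE : ShStab.IsSemistable k X L E d) {s : LTSeries (Subobject E)} (hs : ShStab.IsJHFiltration k X L E d s) :
    ShStab.IsSemistable k X L (StabCat.grObj s) d ∧
      ∀ p : ℚ[X], ShStab.IsHilbPoly k X L E p → ShStab.IsHilbPoly k X L (StabCat.grObj s) p := by
  obtain ⟨l, hl, hm, ⟨e⟩⟩ := exists_list s hs.1 hs.2.1
  have hst : ∀ G ∈ l, St (okd k L d) (elE k L d E) G := fun G hG => by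
    obtain ⟨i, rfl⟩ := hm G hG
    exact (stable_iff H hE).1 (hs.2.2 i)
  obtain ⟨a, b, c⟩ := ok_of_FL (add_okd H d) hl fun G hG => (hst G hG).1.1
  have h1 : SS (okd k L d) (elE k L d E) (sum l) := ss_sum (addE H d E) fun G hG => (hst G hG).1
  refine semistable_of_ss H hE (h1.of_iso (addE H d E) e) ?_
  rw [c, (add_okd H d).v_iso e b]

/-- **Polystable sheaves are determined by dimensions of spaces of homomorphisms.** -/
theorem nonempty_iso_gr [IsProper (X ↘ Spec (CommRingCat.of k))] {d : ℕ} {E F : X.Modules}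
    (hE : ShStab.IsSemistable k X L E d) (hF : ShStab.IsSemistable k X L F d) {p : ℚ[X]}
    (hpE : ShStab.IsHilbPoly k X L E p) (hpF : ShStab.IsHilbPoly k X L F p)
    {s : LTSeries (Subobject E)} (hs : ShStab.IsJHFiltration k X L E d s)
    (hhom : ∀ i, Module.finrank k (StabCat.factor s i ⟶ StabCat.grObj s) ≤
      Module.finrank k (StabCat.factor s i ⟶ F)) : Nonempty (F ≅ StabCat.grObj s) := by
  obtain ⟨l, hl, hm, ⟨e⟩⟩ := exists_list s hs.1 hs.2.1
  have hst : ∀ G ∈ l, St (okd k L d) (elE k L d E) G := fun G hG => by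
    obtain ⟨i, rfl⟩ := hm G hG
    exact (stable_iff H hE).1 (hs.2.2 i)
  obtain ⟨a, b, c⟩ := ok_of_FL (add_okd H d) hl fun G hG => (hst G hG).1.1
  have hFs : SS (okd k L d) (elE k L d E) F := ss_of H hE hF hpE hpF rfl
  have hle : ∀ G ∈ l, Module.finrank k (G ⟶ sum l) ≤ Module.finrank k (G ⟶ F) := by
    intro G hG
    obtain ⟨i, rfl⟩ := hm G hG
    refine le_trans ?_ (hhom i)
    have h8 : Module.Finite k (StabCat.factor s i ⟶ StabCat.grObj s) :=
      K703.HomFin.finite_hom k _ _ (hst _ hG).1.1.1 (gr_facts H hE hs).1.1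
    exact finrank_hom_le (k := k) e.hom e.inv e.hom_inv_id
  obtain ⟨h1, m, hmm⟩ := exists_mono (k := k) (addE H d E) hFs
    (T := sum l) (fun G hG => K703.HomFin.finite_hom k G (sum l) hG.1 b.1) l (fun G hG => ⟨hst G hG, hle G hG⟩)
    ⟨𝟙 _, 𝟙 _, Category.comp_id _⟩
  have h2 : hv k L (cokernel m) = 0 := by
    rw [(add_okd H d).v_cokernel m b hFs.1, ← c]
    have h3 : hp k L F = hp k L E := by rw [hp_eq hpF, hp_eq hpE]
    rw [hv, hv, h3, sub_self]
  have h4 : IsZero (cokernel m) := by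
    by_contra hz
    have h5 := pos_okd H d _ ((add_okd H d).ok_cokernel m b hFs.1) hz
    rw [h2] at h5
    exact lt_irrefl _ h5
  have h6 : Epi m := Preadditive.epi_of_cokernel_zero (h4.eq_of_tgt _ _)
  have h7 : IsIso m := isIso_of_mono_of_epi m
  exact ⟨(asIso m).symm ≪≫ e⟩

end K53.PolySh
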