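import Groth.Agent.Coherent.K53.PushSub
import Groth.Agent.Coherent.K53.FibPoly
import Groth.Agent.Pic13.H496.Mum
import Groth.Agent.ShStab.K849.HilbFacts
import Groth.Agent.ShStab.K847.HilbBasic
import Groth.Prelude.Def_W4c2simpsonmod1HP

/-!
# Semistable sheaves on a closed subscheme of projective space, as sheaves on projective space
-/

set_option autoImplicit false
set_option linter.unusedSectionVars false
set_option linter.unusedVariables false

universe u

open CategoryTheory CategoryTheory.Limits AlgebraicGeometry Polynomial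

namespace K53.PushSS

open Groth.Agent K53.PushSub K53.FibPoly Pic13.H496.Mum

variable {k : Type u} [Field k] {n : ℕ} {X : Scheme.{u}} [X.Over (Spec (CommRingCat.of k))]
  (j : X ⟶ CohB1.ProjSpace n k) [IsClosedImmersion j]
  (hj : j ≫ CohB1.ProjSpace.toSpec n k = X ↘ Spec (CommRingCat.of k))

theorem isInvertible_twistOn (m : ℤ) :
    PicF.IsInvertible ((Scheme.Modules.pullback j).obj (Twist.twistProjSpace n k m)) :=
  Fdesc.LocGen.isInvertible_pullback j (Ega3B.ProjFrame.isInvertible_twistProjSpace (r := n) k m)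

theorem isCoh_twistOn {E : X.Modules} (hE : Coh.IsCoh E) (m : ℤ) : Coh.IsCoh (Pic13.twistOn k j E m) :=
  Fga.TwistCoh.isCoh_tensor hE (isInvertible_twistOn j m)

/-- Twists by powers of `j^* O(1)`. -/
theorem nonempty_twist (E : X.Modules) (m : ℕ) :
    Nonempty (ShStab.twist X ((Scheme.Modules.pullback j).obj (Twist.twistProjSpace n k 1)) E m ≅
      Pic13.twistOn k j E (m : ℤ)) := by
  obtain ⟨e⟩ := Ega3B.ProjFrame.nonempty_twistProjSpace_iso (r := n) k m
  obtain ⟨e'⟩ := Ega3B.PullTensor.nonempty_pullPowIso j (Ega3B.ProjFrame.isInvertible_twistProjSpace (r := n) k 1) m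
  exact ⟨Ega2.Tens.mapTIso (Iso.refl E) (((Scheme.Modules.pullback j).mapIso e ≪≫ e').symm)⟩

include hj

theorem euler_push {E : X.Modules} (hE : Coh.IsCoh E) (m : ℤ) :
    Curv2.euler k (CohB1.ProjSpace n k) (CohB1.tensorMod ((Scheme.Modules.pushforward j).obj E)
      (Twist.twistProjSpace n k m)) = Curv2.euler k X (Pic13.twistOn k j E m) := by
  rw [VarietyA.EulerAdd.euler_congr k (pushTwist j E m)]
  exact VarietyB.HHPush.euler_push j k hj _ (isCoh_twistOn j hE m).1

theorem hilb_iff_int {E : X.Modules} (hE : Coh.IsCoh E) {P : ℚ[X]} :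
    ShStab.IsHilbPoly k X ((Scheme.Modules.pullback j).obj (Twist.twistProjSpace n k 1)) E P ↔
      ∀ m : ℤ, (Curv2.euler k (CohB1.ProjSpace n k) (CohB1.tensorMod ((Scheme.Modules.pushforward j).obj E)
        (Twist.twistProjSpace n k m)) : ℚ) = P.eval (m : ℚ) := by
  obtain ⟨φ, hφ⟩ := exists_poly k n j hj hE
  have h1 : ∀ m : ℤ, (Curv2.euler k (CohB1.ProjSpace n k) (CohB1.tensorMod ((Scheme.Modules.pushforward j).obj E)
        (Twist.twistProjSpace n k m)) : ℚ) = φ.eval (m : ℚ) := fun m => by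
    rw [euler_push j hj hE m, ← hφ m]
    exact congrArg (fun z : ℤ => (z : ℚ)) (eulerLE_eq k n j hj (isCoh_twistOn j hE m)).symm
  have h2 : ∀ m : ℕ, Curv2.euler k X (ShStab.twist X ((Scheme.Modules.pullback j).obj
      (Twist.twistProjSpace n k 1)) E m) = Curv2.euler k (CohB1.ProjSpace n k)
      (CohB1.tensorMod ((Scheme.Modules.pushforward j).obj E) (Twist.twistProjSpace n k (m : ℤ))) := fun m => by
    obtain ⟨e⟩ := nonempty_twist j E m
    rw [euler_push j hj hE m, VarietyA.EulerAdd.euler_congr k e]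
  constructor
  · intro hH
    have hφP : φ = P := by
      refine Polynomial.eq_of_infinite_eval_eq _ _ ?_
      refine Set.Infinite.mono (s := Set.range (fun t : ℕ => (t : ℚ))) ?_
        (Set.infinite_range_of_injective Nat.cast_injective)
      rintro _ ⟨t, rfl⟩
      have h3 := h1 (t : ℤ)
      rw [← h2, hH t] at h3
      simpa using h3.symm
    intro m
    rw [h1, hφP]
  · intro hH m
    rw [h2, hH]
    simp

theorem finrank_push {E : X.Modules} (hE : Coh.IsCoh E) (m : ℕ) :
    Module.finrank k (Coh.HH (CohB1.ProjSpace n k) (CohB1.tensorMod ((Scheme.Modules.pushforward j).obj E)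
      (Twist.twistProjSpace n k (m : ℤ))) 0) =
    Module.finrank k (Coh.HH X (ShStab.twist X ((Scheme.Modules.pullback j).obj
      (Twist.twistProjSpace n k 1)) E m) 0) := by
  obtain ⟨e⟩ := nonempty_twist j E m
  obtain ⟨e1⟩ := VarietyB.HHPush.exists_linearEquiv j k hj (Pic13.twistOn k j E m)
    (isCoh_twistOn j hE m).1 0
  rw [(VarietyA.EulerLES.equivA k e 0).finrank_eq,
    (VarietyA.EulerLES.equivA k (pushTwist j E m) 0).finrank_eq]
  exact e1.finrank_eq

omit hj in
/-- The two forms of the comparison of reduced polynomials. -/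
theorem redLE_of {d : ℕ} {ψ P : ℚ[X]} (hψ : 0 < StabCat.alpha d ψ) (hP : 0 < StabCat.alpha d P)
    (h : StabCat.RedLE d ψ P) : W4c2simpsonmod1.RedLE d ψ P := by
  obtain ⟨N, hN⟩ := h
  refine ⟨(N : ℤ), fun m hm => ?_⟩
  obtain ⟨m', rfl⟩ := Int.eq_ofNat_of_zero_le (le_trans (Int.natCast_nonneg N) hm)
  have h1 := hN m' (by exact_mod_cast hm)
  rw [eval_smul, eval_smul, smul_eq_mul, smul_eq_mul] at h1
  change ψ.eval ((m' : ℤ) : ℚ) / StabCat.alpha d ψ ≤ P.eval ((m' : ℤ) : ℚ) / StabCat.alpha d P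
  rw [div_le_div_iff₀ hψ hP]
  push_cast
  linarith

omit hj in
theorem redEq_of {d : ℕ} {ψ P : ℚ[X]} (hψ : 0 < StabCat.alpha d ψ) (hP : 0 < StabCat.alpha d P)
    (h : ∀ m : ℤ, ψ.eval (m : ℚ) / W4c2simpsonmod1.rankOf d ψ = P.eval (m : ℚ) / W4c2simpsonmod1.rankOf d P) :
    StabCat.RedEq d ψ P := by
  refine Polynomial.eq_of_infinite_eval_eq _ _ ?_
  refine Set.Infinite.mono (s := Set.range (fun t : ℤ => (t : ℚ))) ?_
    (Set.infinite_range_of_injective Int.cast_injective)
  rintro _ ⟨t, rfl⟩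
  have h1 : ψ.eval (t : ℚ) / StabCat.alpha d ψ = P.eval (t : ℚ) / StabCat.alpha d P := h t
  rw [div_eq_div_iff hψ.ne' hP.ne'] at h1
  simp only [Set.mem_ofPred_eq, eval_smul, smul_eq_mul]
  linarith

variable [IsProper (X ↘ Spec (CommRingCat.of k))] {L : X.Modules} (hL : CohB1.IsAmple L)
  (eL : L ≅ (Scheme.Modules.pullback j).obj (Twist.twistProjSpace n k 1))

include hL eL

/-- Direct images of semistable sheaves, in the explicit form on projective space. -/
theorem semistable_push {d : ℕ} {E : X.Modules} (hE : ShStab.IsSemistable k X L E d) {P : ℚ[X]}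
    (hP : ShStab.IsHilbPoly k X L E P) :
    P.natDegree = d ∧ Coh.IsCoh ((Scheme.Modules.pushforward j).obj E) ∧
    (∀ m : ℤ, (Curv2.euler k (CohB1.ProjSpace n k) (CohB1.tensorMod ((Scheme.Modules.pushforward j).obj E)
        (Twist.twistProjSpace n k m)) : ℚ) = P.eval (m : ℚ)) ∧
    topologicalKrullDim ↥(CohB1.support ((Scheme.Modules.pushforward j).obj E)) = (d : WithBot ℕ∞) ∧
    ∀ (G : (CohB1.ProjSpace n k).Modules) (ι : G ⟶ (Scheme.Modules.pushforward j).obj E), Mono ι →
      Coh.IsCoh G → ¬ IsZero G →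
        topologicalKrullDim ↥(CohB1.support G) = (d : WithBot ℕ∞) ∧
        ∀ ψ : ℚ[X], (∀ m : ℤ, (Curv2.euler k (CohB1.ProjSpace n k)
          (CohB1.tensorMod G (Twist.twistProjSpace n k m)) : ℚ) = ψ.eval (m : ℚ)) →
          W4c2simpsonmod1.RedLE d ψ P := by
  have hXn : IsLocallyNoetherian X := LocallyOfFiniteType.isLocallyNoetherian (X ↘ Spec (CommRingCat.of k))
  have hPp : IsProper (CohB1.ProjSpace n k ↘ Spec (CommRingCat.of k)) := VarietyB.EulerBinom.isProper_over k n
  have hPn : IsLocallyNoetherian (CohB1.ProjSpace n k) :=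
    LocallyOfFiniteType.isLocallyNoetherian (CohB1.ProjSpace n k ↘ Spec (CommRingCat.of k))
  have hdim : topologicalKrullDim ↥(CohB1.support E) = (d : WithBot ℕ∞) :=
    hE.2.2.1 E (𝟙 E) inferInstance hE.1 hE.2.1
  have hP' : ShStab.IsHilbPoly k X ((Scheme.Modules.pullback j).obj (Twist.twistProjSpace n k 1)) E P :=
    K846.Twist.isHilbPoly_iso eL (Iso.refl E) hP
  have hαP : 0 < StabCat.alpha d P := K847.HilbBasic.alpha_pos k hL hE.1 hdim hP
  refine ⟨K847.HilbBasic.natDegree_eq k hL hE.1 hdim hP, S0019.result j E hE.1,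
    (hilb_iff_int j hj hE.1).1 hP', (dim_support_push j E).trans hdim, fun G ι hι hG hG0 => ?_⟩
  obtain ⟨G', ι', hι', hG', e, he⟩ := exists_sub j ι hG
  have hG0' : ¬ IsZero G' := fun h => hG0 (((isZero_push_iff j).2 h).of_iso e)
  have hdG : topologicalKrullDim ↥(CohB1.support G') = (d : WithBot ℕ∞) := hE.2.2.1 G' ι' hι' hG' hG0'
  refine ⟨?_, fun ψ hψ => ?_⟩
  · rw [CohqB.DevSupport.support_congr e, dim_support_push j G']
    exact hdG
  · have hψ' : ShStab.IsHilbPoly k X L G' ψ := by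
      refine K846.Twist.isHilbPoly_iso eL.symm (Iso.refl G') ((hilb_iff_int j hj hG').2 fun m => ?_)
      rw [← hψ m, VarietyA.EulerAdd.euler_congr k (Ega2.Tens.mapTIso e (Iso.refl _))]
    have hαψ : 0 < StabCat.alpha d ψ := K847.HilbBasic.alpha_pos k hL hG' hdG hψ'
    refine redLE_of hαψ hαP ?_
    by_cases hi : IsIso ι'
    · have h1 : ψ = P := K847.HilbBasic.hilbPoly_unique k hψ'
        (K847.HilbBasic.isHilbPoly_iso k (asIso ι').symm hP)
      rw [h1]
      exact ⟨0, fun m _ => le_rfl⟩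
    · exact hE.2.2.2 G' ι' hι' hG' hG0' hi ψ P hψ' hP

end K53.PushSS
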