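import Groth.Agent.Ega1.ClosedKill
import Groth.Agent.FormalB.TrKQuot
import Groth.Agent.FormalB.KQuot
import Groth.Agent.FormalA.PullbackQC
import Groth.Agent.Sga67.ClosedPush
import Groth.Agent.S0019
import Groth.Prelude.Def_Pic13

/-!
# Subsheaves of the direct image under a closed immersion
-/

set_option autoImplicit false
set_option linter.unusedSectionVars false
set_option linter.unusedVariables false

universe u

open CategoryTheory CategoryTheory.Limits AlgebraicGeometry

namespace K53.PushSub

open Groth.Agent

variable {X P : Scheme.{u}} (j : X ⟶ P) [IsClosedImmersion j]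

/-- A submodule of `j_* E` is `j_*` of a submodule of `E`. -/
theorem exists_sub [IsLocallyNoetherian X] [IsLocallyNoetherian P] {E : X.Modules} {G : P.Modules}
    (ι : G ⟶ (Scheme.Modules.pushforward j).obj E) [Mono ι] (hG : Coh.IsCoh G) :
    ∃ (G' : X.Modules) (ι' : G' ⟶ E), Mono ι' ∧ Coh.IsCoh G' ∧
      ∃ e : G ≅ (Scheme.Modules.pushforward j).obj G', e.hom ≫ (Scheme.Modules.pushforward j).map ι' = ι := by
  have hk : Ega1.ClosedKill.Kills j.ker G := by
    intro U a ha s
    apply FormalB.KQuot.injective_app_of_mono ι U.1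
    rw [Scheme.Modules.Hom.app_smul, map_zero]
    exact Ega1.ClosedKill.kills_pushforward j E U a ha _
  have hu : IsIso ((Scheme.Modules.pullbackPushforwardAdjunction j).unit.app G) := hk.isIso_unit j
  let ι' : (Scheme.Modules.pullback j).obj G ⟶ E :=
    ((Scheme.Modules.pullbackPushforwardAdjunction j).homEquiv G E).symm ι
  have hι' : (Scheme.Modules.pullbackPushforwardAdjunction j).unit.app G ≫
      (Scheme.Modules.pushforward j).map ι' = ι := by
    have h1 := ((Scheme.Modules.pullbackPushforwardAdjunction j).homEquiv G E).apply_symm_apply ι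
    rw [Adjunction.homEquiv_unit] at h1
    exact h1
  refine ⟨_, ι', ?_, FormalA.PullbackQC.isCoh_pullback _ _ hG, asIso _, hι'⟩
  have hf : (Scheme.Modules.pushforward j).Faithful := FormalB.TrKQuot.faithful_pushforward j
  have hm : Mono ((Scheme.Modules.pushforward j).map ι') := by
    have h2 : (Scheme.Modules.pushforward j).map ι' =
        inv ((Scheme.Modules.pullbackPushforwardAdjunction j).unit.app G) ≫ ι := by
      rw [← hι', IsIso.inv_hom_id_assoc]
    rw [h2]
    infer_instance
  exact (Scheme.Modules.pushforward j).mono_of_mono_map hm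

theorem isIso_counit (E : X.Modules) :
    IsIso ((Scheme.Modules.pullbackPushforwardAdjunction j).counit.app E) := by
  have hf : (Scheme.Modules.pushforward j).Faithful := FormalB.TrKQuot.faithful_pushforward j
  have hu : IsIso ((Scheme.Modules.pullbackPushforwardAdjunction j).unit.app
      ((Scheme.Modules.pushforward j).obj E)) := (Ega1.ClosedKill.kills_pushforward j E).isIso_unit j
  have h1 := (Scheme.Modules.pullbackPushforwardAdjunction j).right_triangle_components E
  have h2 : IsIso ((Scheme.Modules.pushforward j).map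
      ((Scheme.Modules.pullbackPushforwardAdjunction j).counit.app E)) := by
    rw [← IsIso.inv_eq_of_hom_inv_id h1]
    infer_instance
  have h3 : Mono ((Scheme.Modules.pullbackPushforwardAdjunction j).counit.app E) :=
    (Scheme.Modules.pushforward j).mono_of_mono_map inferInstance
  have h4 : Epi ((Scheme.Modules.pullbackPushforwardAdjunction j).counit.app E) :=
    (Scheme.Modules.pushforward j).epi_of_epi_map inferInstance
  exact isIso_of_mono_of_epi _

/-- `j^* j_* E ≅ E`. -/
noncomputable def pullPush (E : X.Modules) :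
    (Scheme.Modules.pullback j).obj ((Scheme.Modules.pushforward j).obj E) ≅ E :=
  haveI := isIso_counit j E
  asIso ((Scheme.Modules.pullbackPushforwardAdjunction j).counit.app E)

theorem isZero_push_iff {E : X.Modules} :
    IsZero ((Scheme.Modules.pushforward j).obj E) ↔ IsZero E := by
  have hf : (Scheme.Modules.pushforward j).Faithful := FormalB.TrKQuot.faithful_pushforward j
  constructor
  · intro h
    rw [IsZero.iff_id_eq_zero] at h ⊢
    apply (Scheme.Modules.pushforward j).map_injective
    rw [CategoryTheory.Functor.map_id, CategoryTheory.Functor.map_zero, h]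
  · intro h
    exact (Scheme.Modules.pushforward j).map_isZero h

/-- Dimensions of supports. -/
theorem dim_support_push (E : X.Modules) :
    topologicalKrullDim ↥(CohB1.support ((Scheme.Modules.pushforward j).obj E)) =
      topologicalKrullDim ↥(CohB1.support E) := by
  rw [Sga67.ClosedPush.support_pushforward j E]
  exact (IsHomeomorph.topologicalKrullDim_eq _
    (j.isClosedEmbedding.isEmbedding.homeomorphImage (CohB1.support E)).isHomeomorph).symm

section Bounded

variable {k : Type u} [Field k] [X.Over (Spec (CommRingCat.of k))] [P.Over (Spec (CommRingCat.of k))]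

/-- Bounded families: from the direct images to the sheaves. -/
theorem isBounded_of_push [LocallyOfFiniteType (P ↘ Spec (CommRingCat.of k))]
    (hj : j ≫ (P ↘ Spec (CommRingCat.of k)) = X ↘ Spec (CommRingCat.of k))
    {A : X.Modules → Prop} {B : P.Modules → Prop} (hB : Pic13.IsBounded k P B)
    (hAB : ∀ E, A E → B ((Scheme.Modules.pushforward j).obj E)) : Pic13.IsBounded k X A := by
  obtain ⟨T, q, hq, hqc, F, hF, h⟩ := hB
  let jT : Pic13.prodK k X q ⟶ Pic13.prodK k P q :=
    pullback.map _ _ _ _ j (𝟙 T) (𝟙 _) (by rw [Category.comp_id, hj]) (by simp)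
  have hXT : LocallyOfFiniteType (X ↘ Spec (CommRingCat.of k)) := by
    rw [← hj]
    infer_instance
  have hXl : IsLocallyNoetherian X := LocallyOfFiniteType.isLocallyNoetherian (X ↘ Spec (CommRingCat.of k))
  have hPl : IsLocallyNoetherian P := LocallyOfFiniteType.isLocallyNoetherian (P ↘ Spec (CommRingCat.of k))
  have h1 : IsLocallyNoetherian (Pic13.prodK k X q) :=
    LocallyOfFiniteType.isLocallyNoetherian (pullback.fst (X ↘ Spec (CommRingCat.of k)) q)
  have h2 : IsLocallyNoetherian (Pic13.prodK k P q) :=
    LocallyOfFiniteType.isLocallyNoetherian (pullback.fst (P ↘ Spec (CommRingCat.of k)) q)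
  refine ⟨T, q, hq, hqc, (Scheme.Modules.pullback jT).obj F, FormalA.PullbackQC.isCoh_pullback _ _ hF,
    fun E hE => ?_⟩
  obtain ⟨t, ht, ⟨e⟩⟩ := h _ (hAB E hE)
  refine ⟨t, ht, ⟨?_⟩⟩
  have hc : Pic13.sliceAt k X q t ht ≫ jT = j ≫ Pic13.sliceAt k P q t ht := by
    have a1 : jT ≫ pullback.fst (P ↘ Spec (CommRingCat.of k)) q = pullback.fst (X ↘ Spec (CommRingCat.of k)) q ≫ j :=
      pullback.lift_fst _ _ _
    have a2 : jT ≫ pullback.snd (P ↘ Spec (CommRingCat.of k)) q =
        pullback.snd (X ↘ Spec (CommRingCat.of k)) q ≫ 𝟙 T := pullback.lift_snd _ _ _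
    have b1 : Pic13.sliceAt k X q t ht ≫ pullback.fst (X ↘ Spec (CommRingCat.of k)) q = 𝟙 X :=
      pullback.lift_fst _ _ _
    have b2 : Pic13.sliceAt k X q t ht ≫ pullback.snd (X ↘ Spec (CommRingCat.of k)) q =
        (X ↘ Spec (CommRingCat.of k)) ≫ t := pullback.lift_snd _ _ _
    have c1 : Pic13.sliceAt k P q t ht ≫ pullback.fst (P ↘ Spec (CommRingCat.of k)) q = 𝟙 P :=
      pullback.lift_fst _ _ _
    have c2 : Pic13.sliceAt k P q t ht ≫ pullback.snd (P ↘ Spec (CommRingCat.of k)) q =
        (P ↘ Spec (CommRingCat.of k)) ≫ t := pullback.lift_snd _ _ _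
    apply pullback.hom_ext
    · rw [Category.assoc, Category.assoc, a1, c1, reassoc_of% b1, Category.comp_id]
    · rw [Category.assoc, Category.assoc, a2, c2, Category.comp_id, b2, ← hj, Category.assoc]
  exact (Scheme.Modules.pullbackComp (Pic13.sliceAt k X q t ht) jT).app F ≪≫
    (Scheme.Modules.pullbackCongr hc).app F ≪≫
    ((Scheme.Modules.pullbackComp j (Pic13.sliceAt k P q t ht)).app F).symm ≪≫
    (Scheme.Modules.pullback j).mapIso e ≪≫ pullPush j E

end Bounded

end K53.PushSub
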