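import Groth.Agent.Coherent.K53.BadQuot
import Groth.Agent.Coherent.K53.FibPoly
import Groth.Agent.Coherent.K53.FibFlat
import Groth.Agent.Fga.QuotPull
import Groth.Agent.Fga.FSFinal
import Groth.Agent.Picfga.HilbPull
import Groth.Agent.Ega3B.ProjProper
import Groth.Agent.Fga.RigGrp
import Mathlib.AlgebraicGeometry.AlgClosed.Basic

/-!
# The locus where a family has a quotient with given Hilbert polynomial, not flat along a section
-/

set_option autoImplicit false
set_option linter.unusedSectionVars false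
set_option linter.unusedVariables false

universe u

open CategoryTheory CategoryTheory.Limits AlgebraicGeometry Polynomial

namespace K53.QuotLoc

open Groth.Agent K53.BadQuot K53.FibPoly

variable {X S : Scheme.{u}} {n : ℕ} (i : X ⟶ CohB1.ProjSpaceOver n S) [IsClosedImmersion i]

omit [IsClosedImmersion i] in
theorem lft_snd (f : X ⟶ S) [LocallyOfFiniteType f] (T : Over S) (t : T.left) :
    LocallyOfFiniteType (pullback.snd (PicF.XTproj f T) (T.left.fromSpecResidueField t)) := inferInstance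

/-- The condition on Euler characteristics at a point. -/
def CondAt (T : Over S) (G : (PicF.XT (i ≫ CohB1.ProjSpaceOver.toBase n S) T).Modules) (Φ : ℚ[X])
    (t : T.left) : Prop :=
  ∀ m : ℤ, (FGA.eulerCharLE (T.left.residueField t)
    (FGA.fibreAt (i ≫ CohB1.ProjSpaceOver.toBase n S) T t).left
    (CohB1.tensorMod (FGA.restrFibre (i ≫ CohB1.ProjSpaceOver.toBase n S) T t G)
      (FGA.restrFibre (i ≫ CohB1.ProjSpaceOver.toBase n S) T t
        (FGA.ET (i ≫ CohB1.ProjSpaceOver.toBase n S) ((Scheme.Modules.pullback i).obj (Twist.twistOver n S m)) T))) n : ℚ) =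
    Φ.eval (m : ℚ)

/-- The condition on Euler characteristics in terms of Hilbert polynomials at field valued points. -/
theorem condAt_iff (T : Over S) [IsLocallyNoetherian T.left]
    {G : (PicF.XT (i ≫ CohB1.ProjSpaceOver.toBase n S) T).Modules} (hG : Coh.IsCoh G) {Φ : ℚ[X]}
    {K : Type u} [Field K] (σ : Spec (CommRingCat.of K) ⟶ T.left) (pt : Spec (CommRingCat.of K))
    {Y : Scheme.{u}} [Y.Over (Spec (CommRingCat.of K))]
    (p : Y ⟶ PicF.XT (i ≫ CohB1.ProjSpaceOver.toBase n S) T)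
    (H : IsPullback p (Y ↘ Spec (CommRingCat.of K)) (PicF.XTproj (i ≫ CohB1.ProjSpaceOver.toBase n S) T) σ) :
    CondAt i T G Φ (σ pt) ↔
      ShStab.IsHilbPoly K Y ((Scheme.Modules.pullback p).obj
        (FGA.ET (i ≫ CohB1.ProjSpaceOver.toBase n S) ((Scheme.Modules.pullback i).obj (Twist.twistOver n S 1)) T))
        ((Scheme.Modules.pullback p).obj G) Φ := by
  have hpr : IsProper (CohB1.ProjSpaceOver.toBase n S) := Ega3B.ProjProper.isProper_toBase n S
  have hln : IsLocallyNoetherian (PicF.XT (i ≫ CohB1.ProjSpaceOver.toBase n S) T) :=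
    LocallyOfFiniteType.isLocallyNoetherian (PicF.XTproj (i ≫ CohB1.ProjSpaceOver.toBase n S) T)
  have hlft : LocallyOfFiniteType (PicF.XTproj (i ≫ CohB1.ProjSpaceOver.toBase n S) T) := inferInstance
  have hinv : ∀ m : ℤ, PicF.IsInvertible (FGA.ET (i ≫ CohB1.ProjSpaceOver.toBase n S)
      ((Scheme.Modules.pullback i).obj (Twist.twistOver n S m)) T) := fun m =>
    Fdesc.LocGen.isInvertible_pullback _ (Fdesc.LocGen.isInvertible_pullback i
      (Ega3B.ProjFrame.isInvertible_twistOver n (Y := S) m))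
  rw [K846.Twist.isHilbPoly_pt (PicF.XTproj (i ≫ CohB1.ProjSpaceOver.toBase n S) T) σ pt p H (hinv 1) hG]
  -- the fibre
  generalize σ pt = t
  let _ : (FGA.fibreAt (i ≫ CohB1.ProjSpaceOver.toBase n S) T t).left.Over
      (Spec (CommRingCat.of (T.left.residueField t))) :=
    ⟨(FGA.fibreAt (i ≫ CohB1.ProjSpaceOver.toBase n S) T t).hom⟩
  let a : (FGA.fibreAt (i ≫ CohB1.ProjSpaceOver.toBase n S) T t).left ⟶
      PicF.XT (i ≫ CohB1.ProjSpaceOver.toBase n S) T :=
    pullback.fst (PicF.XTproj (i ≫ CohB1.ProjSpaceOver.toBase n S) T) (T.left.fromSpecResidueField t)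
  have H1 : IsPullback a ((FGA.fibreAt (i ≫ CohB1.ProjSpaceOver.toBase n S) T t).left ↘
      Spec (CommRingCat.of (T.left.residueField t))) (PicF.XTproj (i ≫ CohB1.ProjSpaceOver.toBase n S) T)
      (T.left.fromSpecResidueField t) := IsPullback.of_hasPullback _ _
  have H2 : IsPullback (pullback.fst (i ≫ CohB1.ProjSpaceOver.toBase n S) T.hom)
    (PicF.XTproj (i ≫ CohB1.ProjSpaceOver.toBase n S) T) (i ≫ CohB1.ProjSpaceOver.toBase n S) T.hom :=
    IsPullback.of_hasPullback _ _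
  have H3 := H1.paste_horiz H2
  have hGa : Coh.IsCoh ((Scheme.Modules.pullback a).obj G) := by
    have h0 : LocallyOfFiniteType (pullback.snd (PicF.XTproj (i ≫ CohB1.ProjSpaceOver.toBase n S) T)
        (T.left.fromSpecResidueField t)) := lft_snd _ T t
    have : IsLocallyNoetherian (FGA.fibreAt (i ≫ CohB1.ProjSpaceOver.toBase n S) T t).left :=
      @LocallyOfFiniteType.isLocallyNoetherian _ _ (pullback.snd
        (PicF.XTproj (i ≫ CohB1.ProjSpaceOver.toBase n S) T) (T.left.fromSpecResidueField t)) h0 inferInstance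
    exact FormalA.PullbackQC.isCoh_pullback _ _ hG
  have h4 := hilb_iff (n := n) (i := i) H3 hGa (Φ := Φ)
  have h5 := K846.Twist.isHilbPoly_pt (K := T.left.residueField t) (PicF.XTproj (i ≫ CohB1.ProjSpaceOver.toBase n S) T)
    (T.left.fromSpecResidueField t) (IsLocalRing.closedPoint (T.left.residueField t)) a H1 (hinv 1) hG (P := Φ)
  have h6 : T.left.fromSpecResidueField t (IsLocalRing.closedPoint (T.left.residueField t)) = t :=
    T.left.fromSpecResidueField_apply _ _
  rw [h6] at h5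
  rw [← h5]
  refine Iff.trans ?_ (h4.symm.trans (K846.Twist.isHilbPoly_iso_iff
    ((Scheme.Modules.pullbackComp a (pullback.fst (i ≫ CohB1.ProjSpaceOver.toBase n S) T.hom)).symm.app _)
    (Iso.refl _)))
  refine forall_congr' fun m => ?_
  refine iff_of_eq (congrArg (fun z : ℤ => (z : ℚ) = Φ.eval (m : ℚ)) ?_)
  exact Fga.EulerIso.eulerCharLE_congr (T.left.residueField t) (Ega2.Tens.mapTIso (Iso.refl _)
    ((Scheme.Modules.pullbackComp a (pullback.fst (i ≫ CohB1.ProjSpaceOver.toBase n S) T.hom)).app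
      ((Scheme.Modules.pullback i).obj (Twist.twistOver n S m)))) n

/-- What S11734 provides. -/
def HasQuot (E : X.Modules) (Φ : ℚ[X]) : Prop :=
  ∃ (Q : Over S) (K : FGA.QuotSet (i ≫ CohB1.ProjSpaceOver.toBase n S) E Q),
    IsLocallyNoetherian Q.left ∧
    (∀ t : Q.left, CondAt i Q (cokernel K.1.arrow) Φ t) ∧
    (∀ (T : Over S) [IsLocallyNoetherian T.left] (K' : FGA.QuotSet (i ≫ CohB1.ProjSpaceOver.toBase n S) E T),
      (∀ t : T.left, CondAt i T (cokernel K'.1.arrow) Φ t) →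
        ∃! g : T ⟶ Q, FGA.quotPull (i ≫ CohB1.ProjSpaceOver.toBase n S) E g K.1 = K'.1) ∧
    IsProper Q.hom

section Locus

variable {k : Type u} [Field k] [IsAlgClosed k] {i}

/-- `Bad` for the fibre over a `k`-point. -/
def BadAt (E : X.Modules) (ξ : S ⟶ X) (hξ : ξ ≫ i ≫ CohB1.ProjSpaceOver.toBase n S = 𝟙 S) (Φ : ℚ[X])
    (t : Spec (CommRingCat.of k) ⟶ S) : Prop :=
  @Bad k _ (pullback (i ≫ CohB1.ProjSpaceOver.toBase n S) t)
    ⟨pullback.snd (i ≫ CohB1.ProjSpaceOver.toBase n S) t⟩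
    ((Scheme.Modules.pullback (pullback.fst (i ≫ CohB1.ProjSpaceOver.toBase n S) t)).obj
      ((Scheme.Modules.pullback i).obj (Twist.twistOver n S 1)))
    ((Scheme.Modules.pullback (pullback.fst (i ≫ CohB1.ProjSpaceOver.toBase n S) t)).obj E)
    ((pullback.lift (t ≫ ξ) (𝟙 _) (by rw [Category.assoc, hξ, Category.comp_id, Category.id_comp]) :
      Spec (CommRingCat.of k) ⟶ pullback (i ≫ CohB1.ProjSpaceOver.toBase n S) t).base
      (IsLocalRing.closedPoint k)) Φ

variable [AlgebraicGeometry.IsNoetherian S] {E : X.Modules} (hE : Coh.IsCoh E) (ξ : S ⟶ X)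
  (hξ : ξ ≫ i ≫ CohB1.ProjSpaceOver.toBase n S = 𝟙 S)

omit [AlgebraicGeometry.IsNoetherian S] [IsClosedImmersion i] in
theorem secT_XTmap {T Q : Over S} (g : T ⟶ Q) :
    PicF.secT (i ≫ CohB1.ProjSpaceOver.toBase n S) ξ hξ T ≫
      PicF.XTmap (i ≫ CohB1.ProjSpaceOver.toBase n S) g =
    g.left ≫ PicF.secT (i ≫ CohB1.ProjSpaceOver.toBase n S) ξ hξ Q := by
  exact Fga.RigGrp.secT_XTmap _ ξ hξ g

include hE

/-- The locus of bad points is closed. -/
theorem exists_closed {Φ : ℚ[X]} (hQ : HasQuot i E Φ) (sS : S ⟶ Spec (CommRingCat.of k))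
    [LocallyOfFiniteType sS] :
    ∃ Z : Set S, IsClosed Z ∧ ∀ t : Spec (CommRingCat.of k) ⟶ S, t ≫ sS = 𝟙 _ →
      (t.base (IsLocalRing.closedPoint k) ∈ Z ↔ BadAt E ξ hξ Φ t) := by
  obtain ⟨Q, K, hQn, hQc, huniv, hprop⟩ := hQ
  have hpr : IsProper (CohB1.ProjSpaceOver.toBase n S) := Ega3B.ProjProper.isProper_toBase n S
  have hXn : IsLocallyNoetherian X :=
    LocallyOfFiniteType.isLocallyNoetherian (i ≫ CohB1.ProjSpaceOver.toBase n S)
  have hXQ : IsLocallyNoetherian (PicF.XT (i ≫ CohB1.ProjSpaceOver.toBase n S) Q) :=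
    LocallyOfFiniteType.isLocallyNoetherian (PicF.XTproj (i ≫ CohB1.ProjSpaceOver.toBase n S) Q)
  have hKc := K.2.1
  have hKf := K.2.2
  -- the locus in `Q`
  let B : Set Q.left := {q | ¬ FlatMod.IsFlatAt (cokernel K.1.arrow)
    ((PicF.secT (i ≫ CohB1.ProjSpaceOver.toBase n S) ξ hξ Q).base q)}
  have hB : IsClosed B := by
    rw [← isOpen_compl_iff]
    have h1 : Bᶜ = (PicF.secT (i ≫ CohB1.ProjSpaceOver.toBase n S) ξ hξ Q).base ⁻¹'
        {x | FlatMod.IsFlatAt (cokernel K.1.arrow) x} := by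
      ext q
      simp [B]
    rw [h1]
    refine IsOpen.preimage (PicF.secT (i ≫ CohB1.ProjSpaceOver.toBase n S) ξ hξ Q).continuous ?_
    rw [isOpen_iff_forall_mem_open]
    intro x hx
    obtain ⟨U, hxU, hU⟩ := FlatPt.exists_nhd hKc hx
    exact ⟨U, fun y hy => FlatPt.isFlatAt_of_nhd hy hU, U.2, hxU⟩
  refine ⟨Q.hom.base '' B, Q.hom.isClosedMap _ hB, fun t ht => ?_⟩
  -- general facts on points of `Q`
  have key : ∀ g : Over.mk t ⟶ Q, (g.left.base (IsLocalRing.closedPoint k) ∈ B ↔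
      ¬ FlatMod.IsFlatAt ((Scheme.Modules.pullback
        (PicF.XTmap (i ≫ CohB1.ProjSpaceOver.toBase n S) g)).obj (cokernel K.1.arrow))
        ((PicF.secT (i ≫ CohB1.ProjSpaceOver.toBase n S) ξ hξ (Over.mk t)).base
          (IsLocalRing.closedPoint k))) := by
    intro g
    have h1 : (PicF.XTmap (i ≫ CohB1.ProjSpaceOver.toBase n S) g).base
        ((PicF.secT (i ≫ CohB1.ProjSpaceOver.toBase n S) ξ hξ (Over.mk t)).base
          (IsLocalRing.closedPoint k)) =
        (PicF.secT (i ≫ CohB1.ProjSpaceOver.toBase n S) ξ hξ Q).base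
          (g.left.base (IsLocalRing.closedPoint k)) := by
      change (PicF.secT (i ≫ CohB1.ProjSpaceOver.toBase n S) ξ hξ (Over.mk t) ≫
        PicF.XTmap (i ≫ CohB1.ProjSpaceOver.toBase n S) g).base _ = _
      rw [secT_XTmap ξ hξ g]
      rfl
    refine not_congr ?_
    rw [← h1]
    constructor
    · intro h
      exact isFlatAt_pullback _ h
    · intro h
      exact FibFlat.isFlatAt_of_fibre (Picfga.HilbPull.isPullback_XTmap
        (i ≫ CohB1.ProjSpaceOver.toBase n S) g) _ (FibFlat.isField_stalk_Spec k _) _ hKc (hKf _) h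
  letI : (pullback (i ≫ CohB1.ProjSpaceOver.toBase n S) t).Over (Spec (CommRingCat.of k)) :=
    ⟨pullback.snd (i ≫ CohB1.ProjSpaceOver.toBase n S) t⟩
  have hkn : IsLocallyNoetherian (Over.mk t).left :=
    inferInstanceAs (IsLocallyNoetherian (Spec (CommRingCat.of k)))
  have hXt : IsLocallyNoetherian (PicF.XT (i ≫ CohB1.ProjSpaceOver.toBase n S) (Over.mk t)) :=
    LocallyOfFiniteType.isLocallyNoetherian (PicF.XTproj (i ≫ CohB1.ProjSpaceOver.toBase n S) (Over.mk t))
  constructor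
  · rintro ⟨q, hqB, hqt⟩
    -- a closed point
    have hs : IsClosed ({t.base (IsLocalRing.closedPoint k)} : Set S) :=
      (pointEquivClosedPoint sS ⟨t, ht⟩).2
    have hC : IsClosed (B ∩ Q.hom.base ⁻¹' {t.base (IsLocalRing.closedPoint k)}) :=
      hB.inter (hs.preimage Q.hom.continuous)
    obtain ⟨q₀, hq₀, hq₀c⟩ : ∃ q₀ ∈ B ∩ Q.hom.base ⁻¹' {t.base (IsLocalRing.closedPoint k)},
        IsClosed ({q₀} : Set Q.left) := by
      have : CompactSpace Q.left := QuasiCompact.compactSpace_of_compactSpace Q.hom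
      exact IsClosed.exists_closed_singleton hC ⟨q, hqB, hqt⟩
    have hft : LocallyOfFiniteType (Q.hom ≫ sS) := inferInstance
    let g₀ := pointOfClosedPoint (Q.hom ≫ sS) q₀ hq₀c
    have hg₀ : g₀ ≫ Q.hom ≫ sS = 𝟙 _ := pointOfClosedPoint_comp (Q.hom ≫ sS) q₀ hq₀c
    have hg₀' : g₀.base (IsLocalRing.closedPoint k) = q₀ := pointOfClosedPoint_apply (Q.hom ≫ sS) q₀ hq₀c _
    have hg₀t : g₀ ≫ Q.hom = t := by
      refine ext_of_apply_closedPoint_eq sS (by rw [Category.assoc, hg₀]) ht ?_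
      change Q.hom.base (g₀.base (IsLocalRing.closedPoint k)) = _
      rw [hg₀']
      exact hq₀.2
    let g : Over.mk t ⟶ Q := Over.homMk g₀ hg₀t
    have hbad := (key g).1 (by rw [show g.left.base (IsLocalRing.closedPoint k) = q₀ from hg₀']; exact hq₀.1)
    refine ⟨(Scheme.Modules.pullback (PicF.XTmap (i ≫ CohB1.ProjSpaceOver.toBase n S) g)).obj
      (cokernel K.1.arrow), (FGA.ETiso (i ≫ CohB1.ProjSpaceOver.toBase n S) E g).inv ≫
        (Scheme.Modules.pullback (PicF.XTmap (i ≫ CohB1.ProjSpaceOver.toBase n S) g)).map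
          (cokernel.π K.1.arrow), ?_, FormalA.PullbackQC.isCoh_pullback _ _ hKc, ?_, hbad⟩
    · have : Epi ((Scheme.Modules.pullback (PicF.XTmap (i ≫ CohB1.ProjSpaceOver.toBase n S) g)).map
          (cokernel.π K.1.arrow)) := inferInstance
      exact epi_comp _ _
    · have h1 := (condAt_iff i Q hKc (Φ := Φ) g.left (IsLocalRing.closedPoint k)
        (Y := pullback (i ≫ CohB1.ProjSpaceOver.toBase n S) t) (PicF.XTmap (i ≫ CohB1.ProjSpaceOver.toBase n S) g)
        (Picfga.HilbPull.isPullback_XTmap (i ≫ CohB1.ProjSpaceOver.toBase n S) g)).1 (hQc _)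
      exact K846.Twist.isHilbPoly_iso (X := pullback (i ≫ CohB1.ProjSpaceOver.toBase n S) t)
        (FGA.ETiso (i ≫ CohB1.ProjSpaceOver.toBase n S) _ g) (Iso.refl _) h1
  · rintro ⟨G, π, hπ, hG, hH, hfl⟩
    let π' : FGA.ET (i ≫ CohB1.ProjSpaceOver.toBase n S) E (Over.mk t) ⟶ G := π
    have hπ' : Epi π' := hπ
    let e : cokernel (kernelSubobject π').arrow ≅ G :=
      cokernel.mapIso (kernelSubobject π').arrow (kernel.ι π') (kernelSubobjectIso π') (Iso.refl _) (by simp) ≪≫
        (colimit.isColimit (parallelPair (kernel.ι π') 0)).coconePointUniqueUpToIso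
          (Abelian.epiIsCokernelOfKernel (KernelFork.ofι (kernel.ι π') (kernel.condition π')) (kernelIsKernel π'))
    have hc : Coh.IsCoh (cokernel (kernelSubobject π').arrow) := CohqB.LocalQC.isCoh_of_iso e.symm hG
    let K' : FGA.QuotSet (i ≫ CohB1.ProjSpaceOver.toBase n S) E (Over.mk t) :=
      ⟨kernelSubobject π', hc, Fga.FSFinal.flat_over_field _ _⟩
    have hcond : ∀ t' : (Over.mk t).left, CondAt i (Over.mk t) (cokernel K'.1.arrow) Φ t' := by
      intro t'
      have h1 := (condAt_iff i (Over.mk t) hc (Φ := Φ) (𝟙 (Spec (CommRingCat.of k))) t'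
        (Y := pullback (i ≫ CohB1.ProjSpaceOver.toBase n S) t) (𝟙 _)
        (IsPullback.of_horiz_isIso ⟨by simp; rfl⟩)).2 ?_
      · exact h1
      · exact K846.Twist.isHilbPoly_iso ((Scheme.Modules.pullbackId _).symm.app _)
          (e.symm ≪≫ (Scheme.Modules.pullbackId _).symm.app _) hH
    obtain ⟨g, hg, -⟩ := huniv (Over.mk t) K' hcond
    obtain ⟨e', -⟩ := Fga.QuotPull.exists_cokernel_quotPull (f := i ≫ CohB1.ProjSpaceOver.toBase n S)
      (E := E) g K.1
    refine ⟨g.left.base (IsLocalRing.closedPoint k), (key g).2 fun h => hfl ?_, ?_⟩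
    · refine Dcoh.Spread.isFlatAt_of_iso (e'.symm ≪≫ ?_) _ h
      exact cokernel.mapIso _ _ (Subobject.isoOfEq _ _ hg) (Iso.refl _)
        (by rw [Iso.refl_hom, Category.comp_id]; exact (Subobject.ofLE_arrow _).symm) ≪≫ e
    · change (g.left ≫ Q.hom).base _ = _
      rw [Over.w g]
      rfl

end Locus

end K53.QuotLoc
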