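import Groth.Agent.Coherent.K53.PushSS
import Groth.Agent.Coherent.K585.Defs
import Groth.Agent.FGA.K277.ChiHilb
import Groth.Agent.Ega3B.ProjAmple
import Groth.Agent.Sga5.AmpleFib
import Groth.Agent.S2329

/-!
# `K585.Defs.SSh` and Gieseker semistability in the sense of `ShStab`
-/

set_option autoImplicit false
set_option linter.unusedSectionVars false
set_option linter.unusedVariables false

universe u

open CategoryTheory CategoryTheory.Limits AlgebraicGeometry Polynomial

namespace K53.SShEq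

open Groth.Agent Fga.QTDefs Fga.QT4b K585.Defs K53.PushSS
open K277.ChiHilb (emb emb_toSpec embTwist twIso)

variable (k : Type u) [Field k] {n : ℕ} {Y : Scheme.{u}} [Y.Over (Spec (CommRingCat.of k))] (g : Y ⟶ PZ n)

theorem isAmple_twist_one : CohB1.IsAmple (Twist.twistProjSpace n k 1) := by
  have hc : CompactSpace (CohB1.ProjSpace n k) := by
    have := VarietyB.EulerBinom.isProper_over k n
    exact QuasiCompact.compactSpace_of_compactSpace (CohB1.ProjSpace n k ↘ Spec (CommRingCat.of k))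
  have : CompactSpace (Proj (CohB1.polyGrading n k)) := hc
  exact Ega3B.ProjAmple.isAmple_twist (𝒜 := CohB1.polyGrading n k) Nat.one_pos fun x => by
    obtain ⟨f, U, hx, hU⟩ := Ega3B.ProjFrame.coveredByOne n k x
    exact ⟨f, hU x hx⟩

variable [IsClosedImmersion (toPA g (Y ↘ Spec (CommRingCat.of k)))]

include g in
theorem isProper : IsProper (Y ↘ Spec (CommRingCat.of k)) := by
  have := VarietyB.EulerBinom.isProper_over k n
  rw [← emb_toSpec k g]
  exact inferInstanceAs (IsProper (emb k g ≫ (CohB1.ProjSpace n k ↘ Spec (CommRingCat.of k))))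

theorem isAmple : CohB1.IsAmple ((Scheme.Modules.pullback (emb k g)).obj (Twist.twistProjSpace n k 1)) :=
  Sga5.AmpleFib.isAmple_pullback (emb k g) (isAmple_twist_one k)

variable {L : Y.Modules} (eL : L ≅ (Scheme.Modules.pullback g).obj (Twist.twistProjSpace n (ULift.{u} ℤ) 1))

include k eL

theorem isAmple_L : CohB1.IsAmple L := by
  obtain ⟨e⟩ : Nonempty ((Scheme.Modules.pullback (emb k g)).obj (Twist.twistProjSpace n k 1) ≅ L) :=
    ⟨embTwist k g 1 ≪≫ eL.symm⟩
  exact S2329.isAmple_of_iso e (isAmple k g)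

/-- The Hilbert polynomial, in terms of all twists. -/
theorem isHilbPoly_iff {E : Y.Modules} (hE : Coh.IsCoh E) {P : ℚ[X]} :
    ShStab.IsHilbPoly k Y L E P ↔ ∀ m : ℤ, (Curv2.euler k Y (twg g E m) : ℚ) = P.eval (m : ℚ) := by
  have e : (Scheme.Modules.pullback (emb k g)).obj (Twist.twistProjSpace n k 1) ≅ L := embTwist k g 1 ≪≫ eL.symm
  have h1 : ShStab.IsHilbPoly k Y L E P ↔
      ShStab.IsHilbPoly k Y ((Scheme.Modules.pullback (emb k g)).obj (Twist.twistProjSpace n k 1)) E P :=
    ⟨K846.Twist.isHilbPoly_iso e.symm (Iso.refl E), K846.Twist.isHilbPoly_iso e (Iso.refl E)⟩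
  rw [h1, hilb_iff_int (emb k g) (emb_toSpec k g) hE]
  refine forall_congr' fun m => ?_
  have h2 : Curv2.euler k Y (Pic13.twistOn k (emb k g) E m) = Curv2.euler k Y (twg g E m) :=
    VarietyA.EulerAdd.euler_congr k (twIso k g E m)
  rw [euler_push (emb k g) (emb_toSpec k g) hE m, h2]

/-- **The two forms of semistability.** -/
theorem ssh_iff {E : Y.Modules} {P : ℚ[X]} :
    SSh k g P E ↔ ShStab.IsSemistable k Y L E P.natDegree ∧ ShStab.IsHilbPoly k Y L E P := by
  have hp := isProper k g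
  have hL := isAmple_L k g eL
  have hYn : IsLocallyNoetherian Y := LocallyOfFiniteType.isLocallyNoetherian (Y ↘ Spec (CommRingCat.of k))
  constructor
  · intro h
    have h0 : ¬ IsZero E := by
      intro hz
      have h1 := h.dim
      rw [CohqB.DevSupport.support_eq_empty_of_isZero hz] at h1
      have h2 : IsEmpty (TopologicalSpace.IrreducibleCloseds ↥(∅ : Set Y)) :=
        ⟨fun Z => Z.2.nonempty.choose.2⟩
      have h3 : topologicalKrullDim ↥(∅ : Set Y) = ⊥ := Order.krullDim_eq_bot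
      rw [h3] at h1
      exact WithBot.bot_ne_coe h1
    have hP := (isHilbPoly_iff k g eL h.coh).2 h.hp
    refine ⟨⟨h.coh, h0, fun F ι hι hF hF0 => (h.sub F ι hι hF hF0).1, fun F ι hι hF hF0 hi pF pE hpF hpE => ?_⟩, hP⟩
    obtain rfl := K847.HilbBasic.hilbPoly_unique k hpE hP
    have hα : 0 < StabCat.alpha pE.natDegree pE := K847.HilbBasic.alpha_pos k hL h.coh h.dim hP
    have hdF := (h.sub F ι hι hF hF0).1
    have hαF : 0 < StabCat.alpha pE.natDegree pF := K847.HilbBasic.alpha_pos k hL hF hdF hpF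
    obtain ⟨N, hN⟩ := (h.sub F ι hι hF hF0).2 pF ((isHilbPoly_iff k g eL hF).1 hpF)
    refine ⟨N.toNat, fun m hm => ?_⟩
    have h1 := hN (m : ℤ) (by omega)
    change pF.eval ((m : ℤ) : ℚ) / StabCat.alpha pE.natDegree pF ≤ pE.eval ((m : ℤ) : ℚ) / StabCat.alpha _ pE at h1
    rw [div_le_div_iff₀ hαF hα] at h1
    rw [eval_smul, eval_smul, smul_eq_mul, smul_eq_mul]
    push_cast at h1
    linarith
  · rintro ⟨hE, hP⟩
    have hdE : topologicalKrullDim ↥(CohB1.support E) = (P.natDegree : WithBot ℕ∞) :=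
      hE.2.2.1 E (𝟙 E) inferInstance hE.1 hE.2.1
    refine ⟨hE.1, (isHilbPoly_iff k g eL hE.1).1 hP, hdE, fun G ι hι hG hG0 => ?_⟩
    have hdG := hE.2.2.1 G ι hι hG hG0
    refine ⟨hdG, fun ψ hψ => ?_⟩
    have hψ' := (isHilbPoly_iff k g eL hG).2 hψ
    have hα : 0 < StabCat.alpha P.natDegree P := K847.HilbBasic.alpha_pos k hL hE.1 hdE hP
    have hαG : 0 < StabCat.alpha P.natDegree ψ := K847.HilbBasic.alpha_pos k hL hG hdG hψ'
    by_cases hi : IsIso ι
    · have h1 : ψ = P := K847.HilbBasic.hilbPoly_unique k (K846.Twist.isHilbPoly_iso (Iso.refl L) (asIso ι) hψ') hP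
      subst h1
      exact ⟨0, fun m _ => le_rfl⟩
    · exact redLE_of hαG hα (hE.2.2.2 G ι hι hG hG0 hi ψ P hψ' hP)

end K53.SShEq
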