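import Groth.Agent.Coherent.K53.OneParam
import Groth.Agent.Coherent.K53.PolySh
import Groth.Agent.Coherent.K53.SShEq

/-!
# S-equivalent sheaves have the same image in every separated scheme receiving the moduli problem
-/

set_option autoImplicit false
set_option linter.unusedSectionVars false
set_option linter.unusedVariables false

universe v w u

open CategoryTheory CategoryTheory.Limits AlgebraicGeometry Polynomial

namespace K53.SEq1

open K53.King K53.KingJH K53.FiltExt K53.GiesKing K53.Poly K53.PolySh K849.PolyOrd K846.Gies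

section Abstract

variable {C : Type w} [Category.{v} C] [Abelian C]

open scoped ZeroObject

theorem biprod_shortExact (A B : C) :
    (ShortComplex.mk (biprod.inl : A ⟶ A ⊞ B) biprod.snd biprod.inl_snd).ShortExact :=
  (ShortComplex.Splitting.ofHasBinaryBiproduct A B).shortExact

variable {V : Type*} [AddCommGroup V] [LinearOrder V] [IsOrderedAddMonoid V] {ok : C → Prop} {ℓ : C → V}
  (h : K846.Lat.Add ok ℓ)

include h

theorem ss_biprod {A B : C} (hA : SS ok ℓ A) (hB : SS ok ℓ B) : SS ok ℓ (A ⊞ B) :=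
  SS.ext h _ (biprod_shortExact A B) hA hB

theorem ss_FL {l : List C} {M : C} (hM : FL l M) (hl : ∀ G ∈ l, SS ok ℓ G) : SS ok ℓ M := by
  induction hM with
  | zero M hz => exact SS.zero h hz
  | ext S l hS h₁ ih =>
    exact SS.ext h S hS (ih fun G hG => hl G (List.mem_cons_of_mem _ hG)) (hl _ List.mem_cons_self)

omit h in
theorem w_biprod {W : Type*} [AddCommGroup W] {w : C → W} (hw : K846.Lat.Add ok w) {A B : C} (hA : ok A)
    (hB : ok B) : w (A ⊞ B) = w A + w B :=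
  hw.add _ (biprod_shortExact A B) hA (hw.ok_ext _ (biprod_shortExact A B) hA hB) hB

/-- The extension with an extra summand. -/
noncomputable def addSum (S : ShortComplex C) (N : C) : ShortComplex C :=
  ShortComplex.mk (S.f ≫ biprod.inl : S.X₁ ⟶ S.X₂ ⊞ N) (biprod.map S.g (𝟙 N)) (by simp)

omit h in
theorem addSum_shortExact {S : ShortComplex C} (hS : S.ShortExact) (N : C) : (addSum S N).ShortExact := by
  have hf := hS.mono_f
  have hg := hS.epi_g
  have h1 : Mono (addSum S N).f := inferInstanceAs (Mono (S.f ≫ (biprod.inl : S.X₂ ⟶ S.X₂ ⊞ N)))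
  have h2 : Epi (addSum S N).g := by
    change Epi (biprod.map S.g (𝟙 N))
    infer_instance
  refine { exact := ?_, mono_f := h1, epi_g := h2 }
  have k1 : ∀ {A : C} (a : A ⟶ S.X₂ ⊞ N), a ≫ biprod.map S.g (𝟙 N) = 0 → a ≫ biprod.snd = 0 := by
    intro A a ha
    have := congrArg (fun m => m ≫ biprod.snd) ha
    simpa using this
  have k2 : ∀ {A : C} (a : A ⟶ S.X₂ ⊞ N), a ≫ biprod.map S.g (𝟙 N) = 0 → (a ≫ biprod.fst) ≫ S.g = 0 := by
    intro A a ha
    have := congrArg (fun m => m ≫ biprod.fst) ha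
    simpa using this
  have k3 : ∀ {A : C} (a : A ⟶ S.X₂ ⊞ N) (ha : a ≫ biprod.map S.g (𝟙 N) = 0),
      hS.exact.lift (a ≫ biprod.fst) (k2 a ha) ≫ S.f ≫ biprod.inl = a := by
    intro A a ha
    rw [← Category.assoc, hS.exact.lift_f]
    apply biprod.hom_ext
    · simp
    · rw [Category.assoc, biprod.inl_snd, Limits.comp_zero, k1 a ha]
  exact ShortComplex.exact_of_f_is_kernel _ (KernelFork.IsLimit.ofι _ _
    (fun {A} (a : A ⟶ S.X₂ ⊞ N) ha => hS.exact.lift (a ≫ biprod.fst) (k2 a ha)) (fun {A} a ha => k3 a ha)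
    (fun {A} a ha b hb => (cancel_mono (addSum S N).f).1 (hb.trans (k3 a ha).symm)))

theorem chain {W : Type*} [AddCommGroup W] {w : C → W} (hw : K846.Lat.Add ok w) (w₀ : W) (R : C → C → Prop)
    (hrefl : ∀ F F' : C, SS ok ℓ F → w F = w₀ → (F ≅ F') → R F F')
    (htrans : ∀ F F' F'' : C, R F F' → R F' F'' → R F F'')
    (hext : ∀ (S : ShortComplex C) (F F' : C), S.ShortExact → SS ok ℓ S.X₁ → SS ok ℓ S.X₃ → (F ≅ S.X₂) →
      (F' ≅ S.X₁ ⊞ S.X₃) → w F = w₀ → R F F')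
    {l : List C} {M : C} (hM : FL l M) : (∀ G ∈ l, SS ok ℓ G) → ∀ (N F F' : C), SS ok ℓ N →
      (F ≅ M ⊞ N) → (F' ≅ sum l ⊞ N) → w F = w₀ → R F F' := by
  induction hM with
  | zero M hz =>
    intro _ N F F' hN e e' hwF
    have hF : SS ok ℓ F := (ss_biprod h (SS.zero h hz) hN).of_iso h e.symm
    exact hrefl F F' hF hwF (e ≪≫ biprod.mapIso (hz.iso (isZero_zero C)) (Iso.refl N) ≪≫ e'.symm)
  | ext S l hS h₁ ih =>
    intro hl N F F' hN e e' hwF
    have g1 : SS ok ℓ S.X₁ := ss_FL h h₁ fun G hG => hl G (List.mem_cons_of_mem _ hG)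
    have g3 : SS ok ℓ S.X₃ := hl _ List.mem_cons_self
    have g3N := ss_biprod h g3 hN
    have hF1 : w (S.X₁ ⊞ (S.X₃ ⊞ N)) = w₀ := by
      rw [w_biprod hw g1.1 g3N.1, w_biprod hw g3.1 hN.1, ← hwF]
      have g2 : SS ok ℓ S.X₂ := SS.ext h S hS g1 g3
      rw [← hw.v_iso e.symm (ss_biprod h g2 hN).1, w_biprod hw g2.1 hN.1, hw.add S hS g1.1 g2.1 g3.1]
      abel
    refine htrans F (S.X₁ ⊞ (S.X₃ ⊞ N)) F' (hext (addSum S N) F _ (addSum_shortExact hS N) g1 g3N e
      (Iso.refl _) hwF) ?_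
    refine ih (fun G hG => hl G (List.mem_cons_of_mem _ hG)) (S.X₃ ⊞ N) _ F' g3N (Iso.refl _) ?_ hF1
    refine e' ≪≫ ?_
    change (S.X₃ ⊞ sum l) ⊞ N ≅ sum l ⊞ (S.X₃ ⊞ N)
    exact biprod.mapIso (biprod.braiding _ _) (Iso.refl _) ≪≫ biprod.associator _ _ _

end Abstract

open Groth.Agent Fga.QTDefs Fga.QT4b Fga.QT6a Fga.QT6c K585.Defs K53.AdmPull K53.OneParam K53.SShEq

variable {n : ℕ} {X S : Scheme.{u}} {f : X ⟶ S} {k : Type u} [Field k] (g₀ : X ⟶ PZ n)
  (sS : S ⟶ Spec (CommRingCat.of k)) {s : Spec (CommRingCat.of k) ⟶ S} (hs : s ≫ sS = 𝟙 _)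
  [IsClosedImmersion (toPS g₀ f)] {P : ℚ[X]} {Q : ∀ T : Over S, (PicF.XT f T).Modules → Prop}
  (hQ : ∀ (T : Over S) (E : (PicF.XT f T).Modules), (W4c2simpsonmod1.shProb f Q).ok T E ↔ Adm f sS g₀ P T E)
  {M : Over S} [IsSeparated M.hom]
  (φ : ModFun.Problem.Hom (W4c2simpsonmod1.shProb f Q) (W4c2simpsonmod1.ftOver sS) M)
  (hP : (W4c2simpsonmod1.ftOver sS) (Over.mk s))

omit [IsSeparated M.hom] in
include g₀ in
theorem lft : LocallyOfFiniteType f := by
  rw [← toPS_toBase f g₀]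
  infer_instance

open scoped ZeroObject in
include hs hQ in
/-- The value on a semistable sheaf is the value on the associated graded sheaf. -/
theorem app_eq_gr (L : (PicF.XT f (Over.mk s)).Modules)
    (eL : L ≅ (Scheme.Modules.pullback (gT f g₀ (Over.mk s))).obj (Twist.twistProjSpace n (ULift.{u} ℤ) 1))
    {E F : (PicF.XT f (Over.mk s)).Modules} (hE : (W4c2simpsonmod1.shProb f Q).ok (Over.mk s) E)
    {t : LTSeries (Subobject E)} (ht : @ShStab.IsJHFiltration k _ _ (ovr f s) L E P.natDegree t)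
    (e : F ≅ StabCat.grObj t) :
    ∃ hF : (W4c2simpsonmod1.shProb f Q).ok (Over.mk s) F,
      φ.app (Over.mk s) E hP hE = φ.app (Over.mk s) F hP hF := by
  let _ := ovr f s
  have hci : IsClosedImmersion (toPA (gT f g₀ (Over.mk s)) ((PicF.XT f (Over.mk s)) ↘ Spec (CommRingCat.of k))) :=
    isClosedImmersion_toPA f g₀ s
  have hf := lft (f := f) g₀
  have hpr := isProper k (gT f g₀ (Over.mk s))
  have hn : IsLocallyNoetherian (PicF.XT f (Over.mk s)) :=
    LocallyOfFiniteType.isLocallyNoetherian ((PicF.XT f (Over.mk s)) ↘ Spec (CommRingCat.of k))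
  have hL := isAmple_L k (gT f g₀ (Over.mk s)) eL
  have H : K846.Gies.HilbFacts k (PicF.XT f (Over.mk s)) L := K849.HilbFacts.gies k _ hL
  have hEs := ssh_of_adm f g₀ hs ((hQ _ _).1 hE)
  obtain ⟨hEs1, hEs2⟩ := (ssh_iff k (gT f g₀ (Over.mk s)) eL).1 hEs
  have good : ∀ {G : (PicF.XT f (Over.mk s)).Modules}, SS (okd k L P.natDegree) (elE k L P.natDegree E) G →
      hv k L G = hv k L E → (W4c2simpsonmod1.shProb f Q).ok (Over.mk s) G := fun {G} hG hv' => by
    obtain ⟨a, b⟩ := semistable_of_ss H hEs1 hG hv'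
    exact (hQ _ _).2 (adm_of_ssh f g₀ hs ((ssh_iff k (gT f g₀ (Over.mk s)) eL).2 ⟨a, b P hEs2⟩))
  obtain ⟨l, hl, hm, ⟨e1⟩⟩ := exists_list t ht.1 ht.2.1
  have hst : ∀ G ∈ l, SS (okd k L P.natDegree) (elE k L P.natDegree E) G := fun G hG => by
    obtain ⟨i, rfl⟩ := hm G hG
    exact ((stable_iff H hEs1).1 (ht.2.2 i)).1
  have hadd := addE H P.natDegree E
  obtain ⟨hFo, hEo, hR⟩ := chain hadd (add_okd H P.natDegree) (hv k L E)
    (fun G G' => ∃ (hG : (W4c2simpsonmod1.shProb f Q).ok (Over.mk s) G)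
      (hG' : (W4c2simpsonmod1.shProb f Q).ok (Over.mk s) G'),
        φ.app (Over.mk s) G hP hG = φ.app (Over.mk s) G' hP hG')
    (fun G G' hG hv' eG => by
      have hG' : SS (okd k L P.natDegree) (elE k L P.natDegree E) G' := hG.of_iso hadd eG
      exact ⟨good hG hv', good hG' (by rw [← (add_okd H P.natDegree).v_iso eG hG.1, hv']),
        φ.resp _ _ _ _ _ ⟨eG⟩⟩)
    (fun G G' G'' ⟨a, b, c⟩ ⟨a', b', c'⟩ => ⟨a, b', c.trans c'⟩)
    (fun Sc G G' hSc h1 h3 eG eG' hv' => by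
      have h2 := SS.ext hadd Sc hSc h1 h3
      have g1 := good (h2.of_iso hadd eG.symm) hv'
      have g2 := good ((ss_biprod hadd h1 h3).of_iso hadd eG'.symm) (by
        rw [(add_okd H P.natDegree).v_iso eG' ((ss_biprod hadd h1 h3).of_iso hadd eG'.symm).1,
          w_biprod (add_okd H P.natDegree) h1.1 h3.1, ← (add_okd H P.natDegree).add Sc hSc h1.1 h2.1 h3.1,
          ← (add_okd H P.natDegree).v_iso eG (h2.of_iso hadd eG.symm).1, hv'])
      exact ⟨g1, g2, app_eq_of_shortExact g₀ sS hs hQ φ hSc h1.1.1 h3.1.1 eG eG' hP g1 g2⟩)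
    hl hst 0 E F (SS.zero hadd (isZero_zero _)) (isoBiprodZero (isZero_zero _))
    (e ≪≫ e1.symm ≪≫ (isoBiprodZero (isZero_zero _))) rfl
  exact ⟨hEo, hR⟩

include hs hQ in
/-- **S-equivalent sheaves have the same image.** -/
theorem app_eq_of_sEquiv (L : (PicF.XT f (Over.mk s)).Modules)
    (eL : L ≅ (Scheme.Modules.pullback (gT f g₀ (Over.mk s))).obj (Twist.twistProjSpace n (ULift.{u} ℤ) 1))
    {E E' : (PicF.XT f (Over.mk s)).Modules} (hE : (W4c2simpsonmod1.shProb f Q).ok (Over.mk s) E)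
    (hE' : (W4c2simpsonmod1.shProb f Q).ok (Over.mk s) E')
    (h : @ShStab.SEquiv k _ _ (ovr f s) L P.natDegree E E') :
    φ.app (Over.mk s) E hP hE = φ.app (Over.mk s) E' hP hE' := by
  obtain ⟨t, t', ht, ht', ⟨e⟩⟩ := h
  obtain ⟨h1, h2⟩ := app_eq_gr g₀ sS hs hQ φ hP L eL hE ht (Iso.refl _)
  obtain ⟨h3, h4⟩ := app_eq_gr g₀ sS hs hQ φ hP L eL hE' ht' e
  rw [h2, h4]

end K53.SEq1
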