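import Groth.Agent.Coherent.K53.SEq1
import Groth.Agent.Coherent.K53.HomSemi
import Groth.Agent.RedSub.H672.MonoQP

/-!
# The locus of fibres isomorphic to a given polystable sheaf is closed
-/

set_option autoImplicit false
set_option linter.unusedSectionVars false
set_option linter.unusedVariables false

universe v w u

open CategoryTheory CategoryTheory.Limits AlgebraicGeometry Polynomial

namespace K53.SEq2

open Groth.Agent Fga.QTDefs Fga.QT4b Fga.QT6a Fga.QT6c K585.Defs K53.AdmPull K53.OneParam K53.SShEq K53.SEq1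

variable {n : ℕ} {X S : Scheme.{u}} (f : X ⟶ S) {k : Type u} [Field k] (g₀ : X ⟶ PZ n)
  (sS : S ⟶ Spec (CommRingCat.of k)) {s : Spec (CommRingCat.of k) ⟶ S} (hs : s ≫ sS = 𝟙 _)
  [IsClosedImmersion (toPS g₀ f)] {T : Over S} (𝓔 : (PicF.XT f T).Modules)

/-- The points of `T` over `s` whose fibre is isomorphic to `G`. -/
def locus (s : Spec (CommRingCat.of k) ⟶ S) (G : (PicF.XT f (Over.mk s)).Modules) : Set T.left :=
  {x | ∃ (t : Over.mk s ⟶ T) (z : Spec (CommRingCat.of k)), t.left z = x ∧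
    Nonempty ((Scheme.Modules.pullback (PicF.XTmap f t)).obj 𝓔 ≅ G)}

include hs in
theorem isClosedImmersion_point [IsSeparated sS] : IsClosedImmersion s := by
  have h : IsClosedImmersion (s ≫ sS) := by rw [hs]; infer_instance
  exact IsClosedImmersion.of_comp s sS

include g₀ in
theorem isProper_f : IsProper f := by
  have h : toPS g₀ f ≫ CohB1.ProjSpaceOver.toBase n S = f := toPS_toBase f g₀
  rw [← h]
  have : IsProper (CohB1.ProjSpaceOver.toBase n S) := inferInstance
  infer_instance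

include hs g₀ in
/-- The numerical loci, on affine opens of the fibre. -/
theorem exists_isClosed_aff [LocallyOfFiniteType (T.hom ≫ sS)] [IsSeparated sS] (hcoh : Coh.IsCoh 𝓔)
    (hfl : FlatMod.IsFlatOver (PicF.XTproj f T) 𝓔) {N : ℕ} (G : Fin N → (PicF.XT f (Over.mk s)).Modules)
    (hG : ∀ i, Coh.IsCoh (G i)) (d : Fin N → ℕ) (U : (pullback T.hom s).Opens) (hU : IsAffineOpen U) :
    ∃ C : Set (pullback T.hom s : Scheme.{u}), IsClosed C ∧ ∀ (t : Over.mk s ⟶ T) (z : Spec (CommRingCat.of k)),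
      (pullback.lift t.left (𝟙 _) ((Over.w t).trans (Category.id_comp s).symm) :
        Spec (CommRingCat.of k) ⟶ pullback T.hom s) z ∈ U →
      let _ := ovr f s
      ((pullback.lift t.left (𝟙 _) ((Over.w t).trans (Category.id_comp s).symm) :
        Spec (CommRingCat.of k) ⟶ pullback T.hom s) z ∈ C ↔
        ∀ i, d i ≤ Module.finrank k (G i ⟶ (Scheme.Modules.pullback (PicF.XTmap f t)).obj 𝓔)) := by
  have hf := isProper_f f g₀
  have hci := isClosedImmersion_point sS hs
  have hlft : LocallyOfFiniteType T.hom := locallyOfFiniteType_of_comp T.hom sS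
  have hn : IsLocallyNoetherian (pullback T.hom s) :=
    LocallyOfFiniteType.isLocallyNoetherian (pullback.snd T.hom s)
  have hAn : IsNoetherianRing Γ(pullback T.hom s, U) := IsLocallyNoetherian.component_noetherian ⟨U, hU⟩
  let j : Spec Γ(pullback T.hom s, U) ⟶ pullback T.hom s := hU.fromSpec
  let TU : Over S := Over.mk (j ≫ pullback.fst T.hom s ≫ T.hom)
  let aa : TU ⟶ T := Over.homMk (j ≫ pullback.fst T.hom s) (by
    change (j ≫ pullback.fst T.hom s) ≫ T.hom = j ≫ pullback.fst T.hom s ≫ T.hom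
    rw [Category.assoc])
  let bb : TU ⟶ Over.mk s := Over.homMk (j ≫ pullback.snd T.hom s) (by
    change (j ≫ pullback.snd T.hom s) ≫ s = j ≫ pullback.fst T.hom s ≫ T.hom
    rw [Category.assoc, pullback.condition])
  let _ := ovr f s
  have haff : IsAffineHom bb.left := inferInstanceAs (IsAffineHom (j ≫ pullback.snd T.hom s))
  have haff2 : IsAffineHom (PicF.XTmap f bb) :=
    MorphismProperty.of_isPullback (P := @IsAffineHom) (Picfga.HilbPull.isPullback_XTmap f bb).flip haff
  have hci' : IsClosedImmersion (toPA (gT f g₀ (Over.mk s)) ((PicF.XT f (Over.mk s)) ↘ Spec (CommRingCat.of k))) :=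
    isClosedImmersion_toPA f g₀ s
  have hL := isAmple_L k (gT f g₀ (Over.mk s)) (Iso.refl _)
  have hres : PerfAux.HasResolutionProperty (PicF.XT f TU) :=
    PerfC.ResolAmple.hasResolutionProperty_of_isAmple
      (RedSub.H672.MonoQP.isAmple_pullback_of_isAffineHom (PicF.XTmap f bb) hL)
  have hF : Coh.IsCoh ((Scheme.Modules.pullback (PicF.XTmap f aa)).obj 𝓔) := FormalA.PullbackQC.isCoh_pullback _ _ hcoh
  have hFf : FlatMod.IsFlatOver (PicF.XTproj f TU) ((Scheme.Modules.pullback (PicF.XTmap f aa)).obj 𝓔) :=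
    FormalB.BC.isFlatOver_pullback (Picfga.HilbPull.isPullback_XTmap f aa) 𝓔 hfl
  choose C hC1 hC2 using fun i => HomSemi.exists_isClosed (A := Γ(pullback T.hom s, U)) (PicF.XTproj f TU) hres
    ((Scheme.Modules.pullback (PicF.XTmap f bb)).obj (G i)) ((Scheme.Modules.pullback (PicF.XTmap f aa)).obj 𝓔)
    (FormalA.PullbackQC.isCoh_pullback _ _ (hG i)) hF hFf (d i)
  refine ⟨(j '' (⋂ i, C i)ᶜ)ᶜ, ?_, fun t z hz => ?_⟩
  · rw [isClosed_compl_iff]
    exact j.isOpenEmbedding.isOpenMap _ (isClosed_iInter hC1).isOpen_compl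
  · let y : Spec (CommRingCat.of k) ⟶ pullback T.hom s :=
      pullback.lift t.left (𝟙 _) ((Over.w t).trans (Category.id_comp s).symm)
    have hy1 : y ≫ pullback.fst T.hom s = t.left := pullback.lift_fst _ _ _
    have hy2 : y ≫ pullback.snd T.hom s = 𝟙 _ := pullback.lift_snd _ _ _
    change y z ∈ U at hz
    change (y z ∈ (j '' (⋂ i, C i)ᶜ)ᶜ ↔ _)
    have hr : Set.range y ⊆ Set.range j := by
      rintro _ ⟨z', rfl⟩
      have : z' = z := Subsingleton.elim (α := PrimeSpectrum k) z' z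
      rw [this]
      change y z ∈ Set.range hU.fromSpec
      rw [hU.range_fromSpec]
      exact hz
    let x : Spec (CommRingCat.of k) ⟶ Spec Γ(pullback T.hom s, U) := IsOpenImmersion.lift j y hr
    have hx : x ≫ j = y := IsOpenImmersion.lift_fac _ _ _
    let τ : Over.mk s ⟶ TU := Over.homMk x (by
      change x ≫ j ≫ pullback.fst T.hom s ≫ T.hom = s
      rw [← Category.assoc, hx, ← Category.assoc, hy1]
      exact Over.w t)
    have hτb : τ ≫ bb = 𝟙 _ := Over.OverMorphism.ext (by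
      change x ≫ j ≫ pullback.snd T.hom s = 𝟙 _
      rw [← Category.assoc, hx, hy2])
    have hτa : τ ≫ aa = t := Over.OverMorphism.ext (by
      change x ≫ j ≫ pullback.fst T.hom s = t.left
      rw [← Category.assoc, hx, hy1])
    let φ : Γ(pullback T.hom s, U) ⟶ CommRingCat.of k := Spec.preimage x
    have hφ : Spec.map φ = x := Spec.map_preimage x
    have H : IsPullback (PicF.XTmap f τ) ((PicF.XT f (Over.mk s)) ↘ Spec (CommRingCat.of k)) (PicF.XTproj f TU)
        (Spec.map φ) := by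
      rw [hφ]
      exact Picfga.HilbPull.isPullback_XTmap f τ
    have key : ∀ i, (x z ∈ C i ↔
        d i ≤ Module.finrank k (G i ⟶ (Scheme.Modules.pullback (PicF.XTmap f t)).obj 𝓔)) := fun i => by
      have h1 := hC2 i k (PicF.XT f (Over.mk s)) φ (PicF.XTmap f τ) H z
      rw [hφ] at h1
      rw [h1]
      have e := Linear.homCongr k (pullIso₂ f hτb (G i) ≪≫ pullIso₁ f rfl (G i)) (pullIso₂ f hτa 𝓔)
      rw [e.finrank_eq]
    have h2 : y z = j (x z) := by rw [← hx]; rfl
    rw [h2, Set.mem_compl_iff, j.isOpenEmbedding.injective.mem_set_image, Set.mem_compl_iff, not_not, Set.mem_iInter]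
    exact forall_congr' key

include hs g₀ in
/-- **The locus of fibres isomorphic to a polystable sheaf is closed (on rational points).** -/
theorem nonempty_iso_of_mem_closure [LocallyOfFiniteType (T.hom ≫ sS)] [IsSeparated sS] {P : ℚ[X]}
    (hA : Adm f sS g₀ P T 𝓔) (L : (PicF.XT f (Over.mk s)).Modules)
    (eL : L ≅ (Scheme.Modules.pullback (gT f g₀ (Over.mk s))).obj (Twist.twistProjSpace n (ULift.{u} ℤ) 1))
    {E : (PicF.XT f (Over.mk s)).Modules} (hE : @SSh k _ n _ (ovr f s) (gT f g₀ (Over.mk s)) P E)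
    {l : LTSeries (Subobject E)} (hl : @ShStab.IsJHFiltration k _ _ (ovr f s) L E P.natDegree l)
    (t : Over.mk s ⟶ T) (z : Spec (CommRingCat.of k)) (ht : t.left z ∈ closure (locus f 𝓔 s (StabCat.grObj l))) :
    Nonempty ((Scheme.Modules.pullback (PicF.XTmap f t)).obj 𝓔 ≅ StabCat.grObj l) := by
  let _ := ovr f s
  have hci : IsClosedImmersion (toPA (gT f g₀ (Over.mk s)) ((PicF.XT f (Over.mk s)) ↘ Spec (CommRingCat.of k))) :=
    isClosedImmersion_toPA f g₀ s
  have hpr := isProper k (gT f g₀ (Over.mk s))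
  have hn : IsLocallyNoetherian (PicF.XT f (Over.mk s)) :=
    LocallyOfFiniteType.isLocallyNoetherian ((PicF.XT f (Over.mk s)) ↘ Spec (CommRingCat.of k))
  have hL := isAmple_L k (gT f g₀ (Over.mk s)) eL
  have H : K846.Gies.HilbFacts k (PicF.XT f (Over.mk s)) L := K849.HilbFacts.gies k _ hL
  obtain ⟨hE1, hE2⟩ := (ssh_iff k (gT f g₀ (Over.mk s)) eL).1 hE
  obtain ⟨hF1, hF2⟩ := (ssh_iff k (gT f g₀ (Over.mk s)) eL).1 (ssh_of_adm f g₀ hs (adm_pull f g₀ t hA))
  refine PolySh.nonempty_iso_gr H hE1 hF1 hE2 hF2 hl ?_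
  have hcs := isClosedImmersion_point sS hs
  let y : ∀ (t : Over.mk s ⟶ T), Spec (CommRingCat.of k) ⟶ pullback T.hom s := fun t =>
      pullback.lift t.left (𝟙 _) ((Over.w t).trans (Category.id_comp s).symm)
  have hy1 : ∀ t z, pullback.fst T.hom s (y t z) = t.left z := fun t z => by
    have h : y t ≫ pullback.fst T.hom s = t.left := pullback.lift_fst _ _ _
    rw [← h]; rfl
  obtain ⟨U, hU, hyU, -⟩ := exists_isAffineOpen_mem_and_subset (x := y t z) (U := ⊤) trivial
  obtain ⟨C, hC, hC'⟩ := exists_isClosed_aff f g₀ sS hs 𝓔 hA.coh hA.flat (fun i => StabCat.factor l i)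
    (fun i => (hl.2.2 i).1.1) (fun i => Module.finrank k (StabCat.factor l i ⟶ StabCat.grObj l)) U hU
  have hcl : IsClosed (pullback.fst T.hom s '' (C ∪ (U : Set (pullback T.hom s : Scheme.{u}))ᶜ)) :=
    (pullback.fst T.hom s).isClosedEmbedding.isClosedMap _ (hC.union U.2.isClosed_compl)
  have hsub : locus f 𝓔 s (StabCat.grObj l) ⊆
      pullback.fst T.hom s '' (C ∪ (U : Set (pullback T.hom s : Scheme.{u}))ᶜ) := by
    rintro x ⟨t₁, z₁, rfl, ⟨e⟩⟩
    refine ⟨y t₁ z₁, ?_, hy1 t₁ z₁⟩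
    by_cases h : y t₁ z₁ ∈ U
    · refine Or.inl ((hC' t₁ z₁ h).2 fun i => ?_)
      exact ((Linear.homCongr k (Iso.refl _) e).finrank_eq).ge
    · exact Or.inr h
  obtain ⟨w, hw, hwt⟩ := closure_minimal hsub hcl ht
  have hwy : w = y t z := (pullback.fst T.hom s).isClosedEmbedding.injective (hwt.trans (hy1 t z).symm)
  rw [hwy] at hw
  rcases hw with hw | hw
  · exact (hC' t z hyU).1 hw
  · exact absurd hyU hw

end K53.SEq2
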