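import Groth.Agent.Coherent.K53.SEq2
import Groth.Agent.ShStab.K846.Rows2
import Mathlib.AlgebraicGeometry.AlgClosed.Basic

/-!
# Points of the moduli space are S-equivalence classes
-/

set_option autoImplicit false
set_option linter.unusedSectionVars false
set_option linter.unusedVariables false

universe v w u

open CategoryTheory CategoryTheory.Limits AlgebraicGeometry Polynomial

namespace K53.SEq3

open Groth.Agent Fga.QTDefs Fga.QT4b Fga.QT6a Fga.QT6c K585.Defs K53.AdmPull K53.OneParam K53.SShEq K53.SEq1 K53.SEq2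

variable {n : ℕ} {X S : Scheme.{u}} (f : X ⟶ S) {k : Type u} [Field k] (g₀ : X ⟶ PZ n)
  (sS : S ⟶ Spec (CommRingCat.of k)) {s : Spec (CommRingCat.of k) ⟶ S} (hs : s ≫ sS = 𝟙 _)
  [IsClosedImmersion (toPS g₀ f)] {R : Over S} (𝓔 : (PicF.XT f R).Modules)

include hs in
/-- Every closed point over the point `s` is a rational point over `s`. -/
theorem exists_point [IsAlgClosed k] [LocallyOfFiniteType (R.hom ≫ sS)] [LocallyOfFiniteType sS] (x : R.left)
    (hx : IsClosed {x}) (hxs : R.hom x = s (IsLocalRing.closedPoint k)) :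
    ∃ t : Over.mk s ⟶ R, ∀ z, t.left z = x := by
  let t₀ := pointOfClosedPoint (R.hom ≫ sS) x hx
  have ht : t₀ ≫ R.hom ≫ sS = 𝟙 _ := pointOfClosedPoint_comp (R.hom ≫ sS) x hx
  have hap : ∀ z, t₀ z = x := fun z => pointOfClosedPoint_apply (R.hom ≫ sS) x hx z
  have h : t₀ ≫ R.hom = s := by
    refine ext_of_apply_closedPoint_eq sS (by rw [Category.assoc, ht]) hs ?_
    exact (congrArg R.hom (hap _)).trans hxs
  exact ⟨Over.homMk t₀ h, fun z => hap z⟩

include hs in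
/-- The locus lies over the point. -/
theorem locus_closure_over [IsSeparated sS] {G : (PicF.XT f (Over.mk s)).Modules} {x : R.left}
    (hx : x ∈ closure (locus f 𝓔 s G)) : R.hom x = s (IsLocalRing.closedPoint k) := by
  have hcs := isClosedImmersion_point sS hs
  have h1 : IsClosed (R.hom ⁻¹' (Set.range s)) := s.isClosedEmbedding.isClosed_range.preimage R.hom.continuous
  have h2 : locus f 𝓔 s G ⊆ R.hom ⁻¹' (Set.range s) := by
    rintro y ⟨t, z, rfl, -⟩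
    refine ⟨z, ?_⟩
    have h : t.left ≫ R.hom = s := Over.w t
    exact (congrArg (fun m : Spec (CommRingCat.of k) ⟶ S => m z) h).symm
  obtain ⟨z, hz⟩ := closure_minimal h2 h1 hx
  have : z = IsLocalRing.closedPoint k := Subsingleton.elim (α := PrimeSpectrum k) _ _
  rw [← hz, this]

/-- The closure of the locus is stable. -/
theorem locus_stable {G : (PicF.XT f (Over.mk s)).Modules} {γ : R.left ⟶ R.left} (hγ : γ ≫ R.hom = R.hom)
    (hinv : ∀ t t' : Over.mk s ⟶ R, t'.left = t.left ≫ γ →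
      Nonempty ((Scheme.Modules.pullback (PicF.XTmap f t')).obj 𝓔 ≅ (Scheme.Modules.pullback (PicF.XTmap f t)).obj 𝓔)) :
    γ '' closure (locus f 𝓔 s G) ⊆ closure (locus f 𝓔 s G) := by
  refine (image_closure_subset_closure_image γ.continuous).trans (closure_mono ?_)
  rintro _ ⟨_, ⟨t, z, rfl, ⟨e⟩⟩, rfl⟩
  let t' : Over.mk s ⟶ R := Over.homMk (t.left ≫ γ) (by
    rw [Category.assoc, hγ]
    exact Over.w t)
  obtain ⟨e'⟩ := hinv t t' rfl
  exact ⟨t', z, rfl, ⟨e' ≪≫ e⟩⟩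

include hs g₀ in
/-- **Points with the same image have isomorphic associated graded sheaves.** -/
theorem nonempty_gr_iso [IsAlgClosed k] [LocallyOfFiniteType (R.hom ≫ sS)] [LocallyOfFiniteType sS] [IsSeparated sS]
    {P : ℚ[X]} (hA : Adm f sS g₀ P R 𝓔) (L : (PicF.XT f (Over.mk s)).Modules)
    (eL : L ≅ (Scheme.Modules.pullback (gT f g₀ (Over.mk s))).obj (Twist.twistProjSpace n (ULift.{u} ℤ) 1))
    (𝒢 : (R.left ⟶ R.left) → Prop) (hover : ∀ γ, 𝒢 γ → γ ≫ R.hom = R.hom)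
    (hinv : ∀ γ, 𝒢 γ → ∀ t t' : Over.mk s ⟶ R, t'.left = t.left ≫ γ →
      Nonempty ((Scheme.Modules.pullback (PicF.XTmap f t')).obj 𝓔 ≅ (Scheme.Modules.pullback (PicF.XTmap f t)).obj 𝓔))
    {M : Scheme.{u}} (π : R.left ⟶ M)
    (hdisj : ∀ Z Z' : Set R.left, IsClosed Z → IsClosed Z' → Disjoint Z Z' → (∀ γ, 𝒢 γ → γ '' Z ⊆ Z) →
      (∀ γ, 𝒢 γ → γ '' Z' ⊆ Z') → Disjoint (π '' Z) (π '' Z'))
    {E E' : (PicF.XT f (Over.mk s)).Modules} (hE : @SSh k _ n _ (ovr f s) (gT f g₀ (Over.mk s)) P E)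
    (hE' : @SSh k _ n _ (ovr f s) (gT f g₀ (Over.mk s)) P E')
    {l : LTSeries (Subobject E)} (hl : @ShStab.IsJHFiltration k _ _ (ovr f s) L E P.natDegree l)
    {l' : LTSeries (Subobject E')} (hl' : @ShStab.IsJHFiltration k _ _ (ovr f s) L E' P.natDegree l')
    (t t' : Over.mk s ⟶ R) (e : (Scheme.Modules.pullback (PicF.XTmap f t)).obj 𝓔 ≅ StabCat.grObj l)
    (e' : (Scheme.Modules.pullback (PicF.XTmap f t')).obj 𝓔 ≅ StabCat.grObj l') (h : t.left ≫ π = t'.left ≫ π) :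
    Nonempty (StabCat.grObj l ≅ StabCat.grObj l') := by
  by_cases hd : Disjoint (closure (locus f 𝓔 s (StabCat.grObj l))) (closure (locus f 𝓔 s (StabCat.grObj l')))
  · exfalso
    have h1 := hdisj _ _ isClosed_closure isClosed_closure hd
      (fun γ hγ => locus_stable f 𝓔 (hover γ hγ) (hinv γ hγ)) (fun γ hγ => locus_stable f 𝓔 (hover γ hγ) (hinv γ hγ))
    let z : Spec (CommRingCat.of k) := IsLocalRing.closedPoint k
    have m1 : π (t.left z) ∈ π '' closure (locus f 𝓔 s (StabCat.grObj l)) :=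
      ⟨t.left z, subset_closure ⟨t, z, rfl, ⟨e⟩⟩, rfl⟩
    have m2 : π (t.left z) ∈ π '' closure (locus f 𝓔 s (StabCat.grObj l')) :=
      ⟨t'.left z, subset_closure ⟨t', z, rfl, ⟨e'⟩⟩, (congrArg (fun m : Spec (CommRingCat.of k) ⟶ M => m z) h).symm⟩
    exact Set.disjoint_left.1 h1 m1 m2
  · rw [Set.not_disjoint_iff_nonempty_inter] at hd
    have hJ : JacobsonSpace R.left := LocallyOfFiniteType.jacobsonSpace (R.hom ≫ sS)
    obtain ⟨x, ⟨hx1, hx2⟩, hx3⟩ := nonempty_inter_closedPoints hd (isClosed_closure.inter isClosed_closure).isLocallyClosed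
    obtain ⟨r, hr⟩ := exists_point sS hs x hx3 (locus_closure_over f sS hs 𝓔 hx1)
    let z : Spec (CommRingCat.of k) := IsLocalRing.closedPoint k
    obtain ⟨e1⟩ := nonempty_iso_of_mem_closure f g₀ sS hs 𝓔 hA L eL hE hl r z (by rw [hr]; exact hx1)
    obtain ⟨e2⟩ := nonempty_iso_of_mem_closure f g₀ sS hs 𝓔 hA L eL hE' hl' r z (by rw [hr]; exact hx2)
    exact ⟨e1.symm ≪≫ e2⟩

section Moduli

variable {P : ℚ[X]} {Q : ∀ T : Over S, (PicF.XT f T).Modules → Prop}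
  (hQ : ∀ (T : Over S) (E : (PicF.XT f T).Modules), (W4c2simpsonmod1.shProb f Q).ok T E ↔ Adm f sS g₀ P T E)

/-- What is needed of a moduli space over the point `s`: it is a quotient `π : R ⟶ M` of a scheme carrying a family. -/
structure QuotData (s : Spec (CommRingCat.of k) ⟶ S) {R M : Over S} (𝓔 : (PicF.XT f R).Modules) (π : R ⟶ M)
    (φ : ModFun.Problem.Hom (W4c2simpsonmod1.shProb f Q) (W4c2simpsonmod1.ftOver sS) M) (P : ℚ[X])
    (𝒢 : (R.left ⟶ R.left) → Prop) : Prop where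
  lft : LocallyOfFiniteType (R.hom ≫ sS)
  adm : Adm f sS g₀ P R 𝓔
  ex : ∀ E : (PicF.XT f (Over.mk s)).Modules, @SSh k _ n _ (ovr f s) (gT f g₀ (Over.mk s)) P E →
    ∃ t : Over.mk s ⟶ R, Nonempty ((Scheme.Modules.pullback (PicF.XTmap f t)).obj 𝓔 ≅ E)
  hov : ∀ γ, 𝒢 γ → γ ≫ R.hom = R.hom
  inv : ∀ γ, 𝒢 γ → ∀ t t' : Over.mk s ⟶ R, t'.left = t.left ≫ γ →
      Nonempty ((Scheme.Modules.pullback (PicF.XTmap f t')).obj 𝓔 ≅ (Scheme.Modules.pullback (PicF.XTmap f t)).obj 𝓔)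
  disj : ∀ Z Z' : Set R.left, IsClosed Z → IsClosed Z' → Disjoint Z Z' → (∀ γ, 𝒢 γ → γ '' Z ⊆ Z) →
      (∀ γ, 𝒢 γ → γ '' Z' ⊆ Z') → Disjoint (π.left '' Z) (π.left '' Z')
  app : ∀ (t : Over.mk s ⟶ R) (hP : W4c2simpsonmod1.ftOver sS (Over.mk s))
    (h : (W4c2simpsonmod1.shProb f Q).ok (Over.mk s) ((W4c2simpsonmod1.shProb f Q).pull t 𝓔)),
    φ.app (Over.mk s) ((W4c2simpsonmod1.shProb f Q).pull t 𝓔) hP h = t ≫ π

variable {f g₀ sS 𝓔}

include hs hQ in
/-- Sheaves with the same image have isomorphic graded sheaves. -/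
theorem gr_iso_of_app_eq [IsAlgClosed k] [LocallyOfFiniteType sS] [IsSeparated sS] {M : Over S} [IsSeparated M.hom]
    {π : R ⟶ M} {φ : ModFun.Problem.Hom (W4c2simpsonmod1.shProb f Q) (W4c2simpsonmod1.ftOver sS) M}
    {𝒢 : (R.left ⟶ R.left) → Prop} (D : QuotData f g₀ sS s 𝓔 π φ P 𝒢)
    (L : (PicF.XT f (Over.mk s)).Modules)
    (eL : L ≅ (Scheme.Modules.pullback (gT f g₀ (Over.mk s))).obj (Twist.twistProjSpace n (ULift.{u} ℤ) 1))
    (hP : W4c2simpsonmod1.ftOver sS (Over.mk s))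
    {E E' : (PicF.XT f (Over.mk s)).Modules} (hE : (W4c2simpsonmod1.shProb f Q).ok (Over.mk s) E)
    (hE' : (W4c2simpsonmod1.shProb f Q).ok (Over.mk s) E')
    {l : LTSeries (Subobject E)} (hl : @ShStab.IsJHFiltration k _ _ (ovr f s) L E P.natDegree l)
    {l' : LTSeries (Subobject E')} (hl' : @ShStab.IsJHFiltration k _ _ (ovr f s) L E' P.natDegree l')
    (h : φ.app (Over.mk s) E hP hE = φ.app (Over.mk s) E' hP hE') :
    Nonempty (StabCat.grObj l ≅ StabCat.grObj l') := by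
  have hlft := D.lft
  obtain ⟨h1, h2⟩ := app_eq_gr g₀ sS hs hQ φ hP L eL hE hl (Iso.refl _)
  obtain ⟨h3, h4⟩ := app_eq_gr g₀ sS hs hQ φ hP L eL hE' hl' (Iso.refl _)
  obtain ⟨t, ⟨e⟩⟩ := D.ex (StabCat.grObj l) (ssh_of_adm f g₀ hs ((hQ _ _).1 h1))
  obtain ⟨t', ⟨e'⟩⟩ := D.ex (StabCat.grObj l') (ssh_of_adm f g₀ hs ((hQ _ _).1 h3))
  have k1 : (W4c2simpsonmod1.shProb f Q).ok (Over.mk s) ((W4c2simpsonmod1.shProb f Q).pull t 𝓔) :=
    (hQ _ _).2 (adm_pull f g₀ t D.adm)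
  have k2 : (W4c2simpsonmod1.shProb f Q).ok (Over.mk s) ((W4c2simpsonmod1.shProb f Q).pull t' 𝓔) :=
    (hQ _ _).2 (adm_pull f g₀ t' D.adm)
  have h5 : t ≫ π = t' ≫ π := by
    rw [← D.app t hP k1, ← D.app t' hP k2, φ.resp _ _ hP k1 h1 ⟨e⟩, φ.resp _ _ hP k2 h3 ⟨e'⟩, ← h2, ← h4, h]
  exact nonempty_gr_iso f g₀ sS hs 𝓔 D.adm L eL 𝒢 D.hov D.inv π.left D.disj (ssh_of_adm f g₀ hs ((hQ _ _).1 hE))
    (ssh_of_adm f g₀ hs ((hQ _ _).1 hE')) hl hl' t t' e e' (congrArg (fun m => m.left) h5)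

include hs hQ in
/-- **The points of the moduli space are the S-equivalence classes.** -/
theorem app_eq_iff_sEquiv [IsAlgClosed k] [LocallyOfFiniteType sS] [IsSeparated sS] {M : Over S} [IsSeparated M.hom]
    {π : R ⟶ M} {φ : ModFun.Problem.Hom (W4c2simpsonmod1.shProb f Q) (W4c2simpsonmod1.ftOver sS) M}
    {𝒢 : (R.left ⟶ R.left) → Prop} (D : QuotData f g₀ sS s 𝓔 π φ P 𝒢)
    (L : (PicF.XT f (Over.mk s)).Modules)
    (eL : L ≅ (Scheme.Modules.pullback (gT f g₀ (Over.mk s))).obj (Twist.twistProjSpace n (ULift.{u} ℤ) 1))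
    (hP : W4c2simpsonmod1.ftOver sS (Over.mk s))
    {E E' : (PicF.XT f (Over.mk s)).Modules} (hE : (W4c2simpsonmod1.shProb f Q).ok (Over.mk s) E)
    (hE' : (W4c2simpsonmod1.shProb f Q).ok (Over.mk s) E') :
    φ.app (Over.mk s) E hP hE = φ.app (Over.mk s) E' hP hE' ↔
      @ShStab.SEquiv k _ _ (ovr f s) L P.natDegree E E' := by
  constructor
  · intro h
    let _ := ovr f s
    have hci : IsClosedImmersion (toPA (gT f g₀ (Over.mk s)) ((PicF.XT f (Over.mk s)) ↘ Spec (CommRingCat.of k))) :=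
      isClosedImmersion_toPA f g₀ s
    have hpr := isProper k (gT f g₀ (Over.mk s))
    have hn : IsNoetherian (PicF.XT f (Over.mk s)) := Fga.IntAdd.isNoetherian k _
    have hL := isAmple_L k (gT f g₀ (Over.mk s)) eL
    have H : K846.Gies.HilbFacts k (PicF.XT f (Over.mk s)) L := K849.HilbFacts.gies k _ hL
    obtain ⟨l, hl⟩ := K846.Rows2.exists_jh H ((ssh_iff k (gT f g₀ (Over.mk s)) eL).1
      (ssh_of_adm f g₀ hs ((hQ _ _).1 hE))).1
    obtain ⟨l', hl'⟩ := K846.Rows2.exists_jh H ((ssh_iff k (gT f g₀ (Over.mk s)) eL).1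
      (ssh_of_adm f g₀ hs ((hQ _ _).1 hE'))).1
    exact ⟨l, l', hl, hl', gr_iso_of_app_eq hs hQ D L eL hP hE hE' hl hl' h⟩
  · exact app_eq_of_sEquiv g₀ sS hs hQ φ hP L eL hE hE'

omit [IsClosedImmersion (toPS g₀ f)] in
/-- Two universal spaces identify the same families. -/
theorem app_eq_iff_of_best {M M' : Over S} {F : ModFun.Problem.{u + 1, u} S} {PP : ObjectProperty (Over S)}
    {φ : ModFun.Problem.Hom F PP M} {φ' : ModFun.Problem.Hom F PP M'} (h : ModFun.IsBestApprox PP F M φ)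
    (h' : ModFun.IsBestApprox PP F M' φ') (T : Over S) (E E' : F.Fam T) (hT : PP T) (hE : F.ok T E) (hE' : F.ok T E') :
    φ.app T E hT hE = φ.app T E' hT hE' ↔ φ'.app T E hT hE = φ'.app T E' hT hE' := by
  obtain ⟨a, ha, -⟩ := h M' φ'
  obtain ⟨b, hb, -⟩ := h' M φ
  constructor
  · intro he
    rw [ha T E hT hE, ha T E' hT hE', he]
  · intro he
    rw [hb T E hT hE, hb T E' hT hE', he]

end Moduli

end K53.SEq3
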