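import Groth.Agent.Coherent.K53.SEq3

/-!
# Stable sheaves with the same image in the moduli space are isomorphic
-/

set_option autoImplicit false
set_option linter.unusedSectionVars false
set_option linter.unusedVariables false

universe v w u

open CategoryTheory CategoryTheory.Limits AlgebraicGeometry Polynomial

namespace K53.SEq4

section Abstract

variable {C : Type w} [Category.{v} C] [Abelian C]

theorem bot_lt_top {E : C} (h : ¬ IsZero E) : (⊥ : Subobject E) < ⊤ := by
  refine lt_of_le_of_ne bot_le fun he => h ?_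
  have h1 : (⊤ : Subobject E).arrow = 0 := by
    rw [← Subobject.mk_eq_bot_iff_zero, Subobject.mk_arrow, ← he]
  have h2 : IsZero ((⊤ : Subobject E) : C) := by
    rw [IsZero.iff_id_eq_zero, ← cancel_mono (⊤ : Subobject E).arrow, h1]
    simp
  exact h2.of_iso (asIso (⊤ : Subobject E).arrow).symm

/-- The trivial filtration. -/
noncomputable def triv {E : C} (h : ¬ IsZero E) : LTSeries (Subobject E) where
  length := 1
  toFun := ![⊥, ⊤]
  step := fun i => by
    fin_cases i
    exact bot_lt_top h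

/-- The only factor of the trivial filtration. -/
noncomputable def factorTriv {E : C} (h : ¬ IsZero E) (i : Fin (triv h).length) : StabCat.factor (triv h) i ≅ E := by
  have hi : i = (0 : Fin 1) := Subsingleton.elim (α := Fin 1) _ _
  subst hi
  have h1 : Subobject.ofLE (⊥ : Subobject E) ⊤ bot_le = 0 := by
    rw [← cancel_mono (⊤ : Subobject E).arrow, Subobject.ofLE_arrow, Subobject.bot_arrow, Limits.zero_comp]
  have e1 : StabCat.factor (triv h) (0 : Fin 1) ≅ cokernel (Subobject.ofLE (⊥ : Subobject E) ⊤ bot_le) := Iso.refl _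
  exact e1 ≪≫ cokernelIsoOfEq h1 ≪≫ cokernelZeroIsoTarget ≪≫ asIso (⊤ : Subobject E).arrow

theorem nonempty_grTriv {E : C} (h : ¬ IsZero E) : Nonempty (StabCat.grObj (triv h) ≅ E) := by
  have : Unique (Fin (triv h).length) := inferInstanceAs (Unique (Fin 1))
  exact ⟨coproductUniqueIso _ ≪≫ factorTriv h _⟩

end Abstract

open Groth.Agent Fga.QTDefs Fga.QT4b Fga.QT6a Fga.QT6c K585.Defs K53.AdmPull K53.OneParam K53.SShEq K53.SEq1 K53.SEq2 K53.SEq3
open K53.King K53.KingJH K53.FiltExt K53.GiesKing K53.Poly K53.PolySh K849.PolyOrd K846.Gies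

theorem isJH_triv {k : Type u} [Field k] {X : Scheme.{u}} [X.Over (Spec (CommRingCat.of k))] {L : X.Modules}
    [IsLocallyNoetherian X] (H : K846.Gies.HilbFacts k X L) {d : ℕ} {E : X.Modules}
    (hE : ShStab.IsStable k X L E d) : ShStab.IsJHFiltration k X L E d (triv hE.2.1) := by
  refine ⟨rfl, rfl, fun i => ?_⟩
  have hS : ShStab.IsSemistable k X L E d := K846.Gies.isSemistable_of_isStable hE
  have h1 : St (okd k L d) (elE k L d E) E := (stable_iff H hS).1 ⟨hE, fun p q hp hq => by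
    rw [K847.HilbBasic.hilbPoly_unique k hp hq]; rfl⟩
  have h2 : St (okd k L d) (elE k L d E) (StabCat.factor (triv hE.2.1) i) := by
    have e := (factorTriv hE.2.1 i).symm
    refine ⟨h1.1.of_iso (addE H d E) e, fun hz => h1.2.1 (hz.of_iso e), fun T ι hι hT hz hi => ?_⟩
    refine h1.2.2 T (ι ≫ e.inv) (mono_comp _ _) hT hz fun hi' => hi ?_
    have : ι = (ι ≫ e.inv) ≫ e.hom := by simp
    rw [this]
    infer_instance
  obtain ⟨a, b⟩ := (stable_iff H hS).2 h2
  exact ⟨a, b⟩

variable {n : ℕ} {X S : Scheme.{u}} {f : X ⟶ S} {k : Type u} [Field k] {g₀ : X ⟶ PZ n}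
  {sS : S ⟶ Spec (CommRingCat.of k)} {s : Spec (CommRingCat.of k) ⟶ S} (hs : s ≫ sS = 𝟙 _)
  [IsClosedImmersion (toPS g₀ f)] {R : Over S} {𝓔 : (PicF.XT f R).Modules}
  {P : ℚ[X]} {Q : ∀ T : Over S, (PicF.XT f T).Modules → Prop}
  (hQ : ∀ (T : Over S) (E : (PicF.XT f T).Modules), (W4c2simpsonmod1.shProb f Q).ok T E ↔ Adm f sS g₀ P T E)

include hs hQ in
/-- **Stable sheaves with the same image are isomorphic.** -/
theorem iso_of_app_eq_of_stable [IsAlgClosed k] [LocallyOfFiniteType sS] [IsSeparated sS] {M : Over S}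
    [IsSeparated M.hom]
    {π : R ⟶ M} {φ : ModFun.Problem.Hom (W4c2simpsonmod1.shProb f Q) (W4c2simpsonmod1.ftOver sS) M}
    {𝒢 : (R.left ⟶ R.left) → Prop} (D : QuotData f g₀ sS s 𝓔 π φ P 𝒢)
    (L : (PicF.XT f (Over.mk s)).Modules)
    (eL : L ≅ (Scheme.Modules.pullback (gT f g₀ (Over.mk s))).obj (Twist.twistProjSpace n (ULift.{u} ℤ) 1))
    (hP : W4c2simpsonmod1.ftOver sS (Over.mk s))
    {E E' : (PicF.XT f (Over.mk s)).Modules} (hE : (W4c2simpsonmod1.shProb f Q).ok (Over.mk s) E)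
    (hE' : (W4c2simpsonmod1.shProb f Q).ok (Over.mk s) E')
    (hst : @ShStab.IsStable k _ _ (ovr f s) L E P.natDegree)
    (hst' : @ShStab.IsStable k _ _ (ovr f s) L E' P.natDegree)
    (h : φ.app (Over.mk s) E hP hE = φ.app (Over.mk s) E' hP hE') : Nonempty (E ≅ E') := by
  let _ := ovr f s
  have hci : IsClosedImmersion (toPA (gT f g₀ (Over.mk s)) ((PicF.XT f (Over.mk s)) ↘ Spec (CommRingCat.of k))) :=
    isClosedImmersion_toPA f g₀ s
  have hpr := isProper k (gT f g₀ (Over.mk s))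
  have hn : IsLocallyNoetherian (PicF.XT f (Over.mk s)) :=
    LocallyOfFiniteType.isLocallyNoetherian ((PicF.XT f (Over.mk s)) ↘ Spec (CommRingCat.of k))
  have hL := isAmple_L k (gT f g₀ (Over.mk s)) eL
  have H : K846.Gies.HilbFacts k (PicF.XT f (Over.mk s)) L := K849.HilbFacts.gies k _ hL
  obtain ⟨e⟩ := gr_iso_of_app_eq hs hQ D L eL hP hE hE' (isJH_triv H hst) (isJH_triv H hst') h
  obtain ⟨e1⟩ := nonempty_grTriv hst.2.1
  obtain ⟨e2⟩ := nonempty_grTriv hst'.2.1
  exact ⟨e1.symm ≪≫ e ≪≫ e2⟩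

end K53.SEq4
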